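/-
Small facts for the two-core structure theorem (notes/two_core_structure.md).

* `exists_sq_eq` : a 2-group with one involution and more than two elements has a square root of it
* `exists_sq_eq_not_ker` : in a noncyclic one a non-trivial map to `⟨z⟩` is non-trivial on a square
  root of `z`
* `exists_conj_sylow_mem` : a 2-subgroup of `Γ ⊇ T` is conjugate into `T` inside `Γ`
* `centralizes_of_sylow` : an involution centralising a Sylow subgroup of a normal subgroup without
  odd core and with one involution centralises it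
-/
import Cfsg.Agent.Lib.StrongClosedNC.Quaternion
import Cfsg.Agent.Lib.ZStar.Apply
import Cfsg.Agent.Lib.ZStar.Unique
import Cfsg.Agent.Lib.Involution.Basic
import Cfsg.Agent.Lib.PReduced.Tools

set_option autoImplicit false
set_option linter.unusedSectionVars false
set_option linter.style.haveILetI false

namespace Cfsg.Agent.TwoCore

open Subgroup Involution
open scoped Pointwise

variable {G : Type*} [Group G] [Finite G]

theorem orderOf_eq_two_pow_of_mem {Q : Subgroup G} (hQ : IsPGroup 2 Q) {x : G} (hx : x ∈ Q) :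
    ∃ k : ℕ, orderOf x = 2 ^ k := by
  haveI : Fact (Nat.Prime 2) := ⟨Nat.prime_two⟩
  obtain ⟨k, hk⟩ := IsPGroup.iff_orderOf.1 hQ ⟨x, hx⟩
  exact ⟨k, by rw [← hk, Subgroup.orderOf_mk]⟩

/-- A square root of the only involution. -/
theorem exists_sq_eq {Q : Subgroup G} (hQ : IsPGroup 2 Q) {z : G} (hz : orderOf z = 2)
    (huniq : ∀ x ∈ Q, orderOf x = 2 → x = z) {a : G} (ha : a ∈ Q) (ha1 : a ≠ 1) (haz : a ≠ z) :
    ∃ q ∈ Q, q * q = z ∧ q ∈ zpowers a := by
  obtain ⟨k, hk⟩ := orderOf_eq_two_pow_of_mem hQ ha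
  have hk2 : 2 ≤ k := by
    rcases k with _ | _ | k
    · exact absurd (orderOf_eq_one_iff.1 (by simpa using hk)) ha1
    · exact absurd (huniq a ha (by simpa using hk)) haz
    · omega
  obtain ⟨j, rfl⟩ : ∃ j, k = j + 2 := ⟨k - 2, by omega⟩
  refine ⟨a ^ 2 ^ j, pow_mem ha _, ?_, pow_mem (mem_zpowers a) _⟩
  rw [← pow_add]
  refine huniq _ (pow_mem ha _) ?_
  rw [orderOf_pow' _ (by positivity), hk, show 2 ^ j + 2 ^ j = 2 ^ (j + 1) by ring,
    Nat.gcd_eq_right (pow_dvd_pow 2 (by omega : j + 1 ≤ j + 2)), Nat.pow_div (by omega) two_pos,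
    show j + 2 - (j + 1) = 1 by omega, pow_one]

/-- In a noncyclic 2-group with one involution every element is a product of square roots of it. -/
theorem exists_sq_eq_not_ker {Q : Subgroup G} (hQ : IsPGroup 2 Q) {z : G} (hz : orderOf z = 2)
    (hzQ : z ∈ Q) (huniq : ∀ x ∈ Q, orderOf x = 2 → x = z) (hc : ¬ IsCyclic Q) {P : G → Prop}
    (hmul : ∀ a ∈ Q, ∀ b ∈ Q, P a → P b → P (a * b)) {a : G} (ha : a ∈ Q) (hPa : ¬ P a) :
    ∃ q ∈ Q, q * q = z ∧ ¬ P q := by
  by_contra hcon
  push Not at hcon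
  have hu : ∀ x y : Q, x * x = 1 → y * y = 1 → x ≠ 1 → y ≠ 1 → x = y := by
    intro x y hx hy hx1 hy1
    refine Subtype.ext ((huniq _ x.2 ?_).trans (huniq _ y.2 ?_).symm)
    · exact orderOf_of_sq (congrArg Subtype.val hx) (fun e => hx1 (Subtype.ext e))
    · exact orderOf_of_sq (congrArg Subtype.val hy) (fun e => hy1 (Subtype.ext e))
  obtain ⟨n, hn, ⟨e⟩⟩ := StrongClosedNC.exists_quaternion hQ hu hc
  -- the elements `xa i` square to the involution
  have hxa : ∀ i, P ((e.symm (QuaternionGroup.xa i) : Q) : G) := by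
    intro i
    refine hcon _ (e.symm _).2 ?_
    set w := e.symm (QuaternionGroup.xa i) with hw
    show (((w * w : Q)) : G) = z
    refine huniq _ (w * w).2 ?_
    rw [Subgroup.orderOf_coe, ← orderOf_injective e.toMonoidHom e.injective (w * w)]
    show orderOf (e (w * w)) = 2
    rw [map_mul, hw, MulEquiv.apply_symm_apply, QuaternionGroup.xa_mul_xa, add_sub_cancel_right]
    refine orderOf_of_sq ?_ ?_
    · rw [QuaternionGroup.a_mul_a, ← Nat.cast_add, ← two_mul, ZMod.natCast_self,
        QuaternionGroup.a_zero]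
    · intro h
      rw [← QuaternionGroup.a_zero] at h
      injection h with h
      rw [ZMod.natCast_eq_zero_iff] at h
      have := Nat.le_of_dvd (by positivity) h
      have : 0 < 2 ^ n := by positivity
      omega
  refine hPa ?_
  have hval : a = ((e.symm (e ⟨a, ha⟩) : Q) : G) := by rw [MulEquiv.symm_apply_apply]
  rw [hval]
  rcases he : e ⟨a, ha⟩ with i | i
  · obtain ⟨j, l, hjl⟩ : ∃ j l : ZMod (2 * 2 ^ n),
        QuaternionGroup.a i = QuaternionGroup.xa j * QuaternionGroup.xa l := by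
      refine ⟨0, i - ((2 ^ n : ℕ) : ZMod (2 * 2 ^ n)), ?_⟩
      rw [QuaternionGroup.xa_mul_xa]
      congr 1
      ring
    rw [hjl, map_mul, Subgroup.coe_mul]
    exact hmul _ (e.symm _).2 _ (e.symm _).2 (hxa j) (hxa l)
  · exact hxa i

/-- A 2-subgroup of `Γ ⊇ T` is conjugate into `T` inside `Γ`. -/
theorem exists_conj_sylow_mem (T : Sylow 2 G) {Γ P : Subgroup G} (hTΓ : (T : Subgroup G) ≤ Γ)
    (hP : IsPGroup 2 P) (hPΓ : P ≤ Γ) : ∃ g ∈ Γ, ∀ x ∈ P, g * x * g⁻¹ ∈ T := by
  haveI : Fact (Nat.Prime 2) := ⟨Nat.prime_two⟩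
  obtain ⟨Q, hQ⟩ := (hP.comap_of_injective Γ.subtype Γ.subtype_injective).exists_le_sylow
  obtain ⟨g, hg⟩ := MulAction.exists_smul_eq Γ Q (T.subtype hTΓ)
  refine ⟨g, g.2, fun x hx => ?_⟩
  have h1 : (⟨x, hPΓ hx⟩ : Γ) ∈ Q := hQ (show (⟨x, hPΓ hx⟩ : Γ) ∈ P.comap Γ.subtype from hx)
  have h2 : g * ⟨x, hPΓ hx⟩ * g⁻¹ ∈ (T.subtype hTΓ : Sylow 2 Γ) := by
    rw [← hg]
    show g * ⟨x, hPΓ hx⟩ * g⁻¹ ∈ MulAut.conj g • (Q : Subgroup Γ)
    exact ⟨⟨x, hPΓ hx⟩, h1, rfl⟩
  exact h2

/-- An involution outside `N` centralising a Sylow subgroup of `N`. -/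
theorem centralizes_of_sylow {N : Subgroup G} [N.Normal] (T : Sylow 2 G)
    (hN : Cfsg.pPrimeCore 2 N = ⊥) {z : G} (hzc : z ∈ center G) (hz : z * z = 1)
    (huniq : ∀ x ∈ N, orderOf x = 2 → x = z) {d : G} (hd : orderOf d = 2) (hdT : d ∈ T)
    (hdN : d ∉ N) (hQ : ∀ q ∈ T, q ∈ N → Commute d q) : ∀ n ∈ N, Commute d n := by
  haveI : Fact (Nat.Prime 2) := ⟨Nat.prime_two⟩
  set M := N ⊔ zpowers d with hM
  have hdM : d ∈ M := mem_sup_right (mem_zpowers d)
  have hNM : N ≤ M := le_sup_left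
  set d' : M := ⟨d, hdM⟩ with hd'def
  have hd' : orderOf d' = 2 := by rw [Subgroup.orderOf_mk]; exact hd
  have hdec : ∀ g : G, g ∈ M → g ∈ N ∨ g * d ∈ N := by
    intro g hg
    obtain ⟨a, ha, b, hb, rfl⟩ := mem_sup_of_normal_left.1 hg
    obtain ⟨i, rfl⟩ := mem_zpowers_iff.1 hb
    rcases Int.emod_two_eq_zero_or_one i with h | h <;>
      rw [← zpow_mod_orderOf, hd, Nat.cast_ofNat, h]
    · left; rwa [zpow_zero, mul_one]
    · right; rw [zpow_one, mul_assoc, mul_self hd, mul_one]; exact ha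
  haveI hMn : (N.subgroupOf M).Normal := inferInstance
  have hzc' : ∀ x : G, Commute z x := fun x => (mem_center_iff.1 hzc x).symm
  -- `d` is not conjugate to `d * z` by an element of `N`
  have hnf : ∀ a ∈ N, a * d * a⁻¹ = d * z → d * z = d := by
    intro a ha had
    set Γ : Subgroup G :=
      { carrier := {g | g ∈ N ∧ (g * d * g⁻¹ = d ∨ g * d * g⁻¹ = d * z)}
        one_mem' := ⟨N.one_mem, Or.inl (by rw [one_mul, inv_one, mul_one])⟩
        mul_mem' := by
          rintro x y ⟨hx, hx'⟩ ⟨hy, hy'⟩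
          refine ⟨N.mul_mem hx hy, ?_⟩
          have e : ∀ w : G, (x * y) * d * (x * y)⁻¹ = x * (y * d * y⁻¹) * x⁻¹ := fun _ => by group
          have ez : x * (d * z) * x⁻¹ = x * d * x⁻¹ * z := by
            rw [mul_assoc x (d * z), mul_assoc d z, (hzc' x⁻¹).eq]; group
          have hzz : z * z = 1 := by
            exact hz
          rcases hy' with hy' | hy' <;> rcases hx' with hx' | hx' <;> rw [e d, hy']
          · exact Or.inl hx'
          · exact Or.inr hx'
          · rw [ez, hx']; exact Or.inr rfl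
          · rw [ez, hx', mul_assoc, hzz, mul_one]; exact Or.inl rfl
        inv_mem' := by
          rintro x ⟨hx, hx'⟩
          refine ⟨N.inv_mem hx, ?_⟩
          rcases hx' with hx' | hx'
          · left
            nth_rw 1 [← hx']
            group
          · right
            have h1 : d = x⁻¹ * (d * z) * x := by rw [← hx']; group
            have h2 : x⁻¹ * (d * z) * x = x⁻¹ * d * x * z := by
              rw [mul_assoc x⁻¹ (d * z), mul_assoc d z, (hzc' x).eq]; group
            rw [h2] at h1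
            rw [inv_inv]
            calc x⁻¹ * d * x = x⁻¹ * d * x * z * z := by rw [mul_assoc _ z, hz, mul_one]
              _ = d * z := by rw [← h1] } with hΓ
    have haΓ : a ∈ Γ := ⟨ha, Or.inr had⟩
    -- the 2-part of `a` does the same
    obtain ⟨k, m, hm, hord⟩ := Nat.exists_eq_two_pow_mul_odd (orderOf_pos a).ne'
    obtain ⟨l, hl⟩ := hm
    have ha2 : Commute (a ^ 2) d := by
      refine mul_inv_eq_iff_eq_mul.1 ?_
      have ez : a * (d * z) * a⁻¹ = a * d * a⁻¹ * z := by
        rw [mul_assoc a (d * z), mul_assoc d z, (hzc' a⁻¹).eq]; group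
      calc a ^ 2 * d * (a ^ 2)⁻¹ = a * (a * d * a⁻¹) * a⁻¹ := by rw [sq]; group
        _ = d := by rw [had, ez, had, mul_assoc, hz, mul_one]
    have ham : a ^ m * d * (a ^ m)⁻¹ = d * z := by
      rw [hl, pow_succ', pow_mul]
      calc a * (a ^ 2) ^ l * d * (a * (a ^ 2) ^ l)⁻¹
          = a * ((a ^ 2) ^ l * d * ((a ^ 2) ^ l)⁻¹) * a⁻¹ := by group
        _ = d * z := by rw [(ha2.pow_left l).eq, mul_inv_cancel_right, had]
    have hpP : IsPGroup 2 (zpowers (⟨a ^ m, pow_mem ha m⟩ : N)) := by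
      refine IsPGroup.of_card (n := k) ?_
      rw [Nat.card_zpowers, Subgroup.orderOf_mk, orderOf_pow' _ (by omega), hord,
        Nat.gcd_mul_left_left, Nat.mul_div_cancel _ (by omega)]
    set S := PReduced.sylowOfSubnormal T (Normal.isSubnormal ‹N.Normal›) with hS
    have hSΓ : (S : Subgroup N) ≤ Γ.subgroupOf N := fun q hq =>
      ⟨q.2, Or.inl (show (q : G) * d * (q : G)⁻¹ = d by
        rw [← (hQ q hq q.2).eq, mul_inv_cancel_right])⟩
    obtain ⟨c, hc, hcS⟩ := exists_conj_sylow_mem S hSΓ hpP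
      (zpowers_le.2 (show (⟨a ^ m, pow_mem ha m⟩ : N) ∈ Γ.subgroupOf N from pow_mem haΓ m))
    have hmem := hcS _ (mem_zpowers _)
    have hq : Commute d ((c : G) * a ^ m * (c : G)⁻¹) :=
      hQ _ hmem (N.mul_mem (N.mul_mem c.2 (pow_mem ha m)) (N.inv_mem c.2))
    -- `a ^ m` centralises `c⁻¹ d c`, which is `d` or `d z`
    have hq' : Commute ((c : G)⁻¹ * d * c) (a ^ m) := by
      have := hq.map (MulAut.conj (c : G)⁻¹).toMonoidHom
      simpa [mul_assoc] using this
    have hcd : (c : G)⁻¹ * d * c = d ∨ (c : G)⁻¹ * d * c = d * z := by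
      have h := (Γ.inv_mem hc).2
      rwa [inv_inv] at h
    rcases hcd with h | h <;> rw [h] at hq'
    · rw [← ham, ← hq'.eq, mul_inv_cancel_right]
    · have hd' : Commute d (a ^ m) := by
        have h5 := hq'.mul_left (hzc' (a ^ m))
        rwa [mul_assoc, hz, mul_one] at h5
      rw [← ham, ← hd'.eq, mul_inv_cancel_right]
  have hiso : Cfsg.IsIsolatedInvolution d' := by
    refine ⟨hd', ?_⟩
    rintro ⟨g, hg⟩ hgc
    apply Subtype.ext
    show g * d * g⁻¹ = d
    have hc : Commute d (g * d * g⁻¹) := congrArg Subtype.val hgc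
    by_contra hne
    -- conjugate by an element of `N`
    obtain ⟨a, ha, hag⟩ : ∃ a ∈ N, a * d * a⁻¹ = g * d * g⁻¹ := by
      rcases hdec g hg with h | h
      · exact ⟨g, h, rfl⟩
      · refine ⟨g * d, h, ?_⟩
        rw [mul_inv_rev, inv_eq hd, mul_assoc g d d, mul_self hd, mul_one]
        group
    set e := g * d * g⁻¹ with he
    have hed : d * e ∈ N := by
      rw [← hag, show d * (a * d * a⁻¹) = d * a * d * a⁻¹ from by group]
      refine N.mul_mem ?_ (N.inv_mem ha)
      have := ‹N.Normal›.conj_mem a ha d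
      rwa [inv_eq hd] at this
    have he2 : e * e = 1 := mul_self (by rw [he, orderOf_conj]; exact hd)
    have hde : d * e = z := huniq _ hed (orderOf_of_sq
      (by rw [mul_assoc, ← mul_assoc e, ← hc.eq, mul_assoc d e e, he2, mul_one, mul_self hd])
      (fun h1 => hne (by rw [mul_eq_one_iff_eq_inv] at h1; rw [← inv_inv e, ← h1, inv_eq hd])))
    have he' : e = d * z := by rw [← hde, ← mul_assoc, mul_self hd, one_mul]
    exact hne (he'.trans (hnf a ha (hag.trans he')))
  have hOM : Cfsg.pPrimeCore 2 M = ⊥ := by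
    haveI := Cores.pPrimeCore_normal 2 M
    set A := Cfsg.pPrimeCore 2 M with hA
    have hAN : ∀ x ∈ A, (x : G) ∈ N := by
      intro x hx
      have hodd : Odd (Nat.card A) :=
        Nat.odd_iff.2 (Nat.two_dvd_ne_zero.1 ((Nat.Prime.coprime_iff_not_dvd Nat.prime_two).1
          (Cores.coprime_card_pPrimeCore 2).symm))
      obtain ⟨j, hj⟩ := hodd
      have hxp : (x : G) ^ (2 * j + 1) = 1 := by
        have h1 : x ^ Nat.card A = 1 :=
          orderOf_dvd_iff_pow_eq_one.1 (orderOf_dvd_natCard A hx)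
        rw [hj] at h1
        exact congrArg Subtype.val h1
      have h2 : (x : G) * x ∈ N := by
        rcases hdec x x.2 with h | h
        · exact N.mul_mem h h
        · have h3 := ‹N.Normal›.conj_mem _ h d
          rw [inv_eq hd, mul_assoc d ((x : G) * d) d, mul_assoc (x : G) d d, mul_self hd,
            mul_one] at h3
          have h4 := N.mul_mem h h3
          rwa [mul_assoc, ← mul_assoc d d, mul_self hd, one_mul] at h4
      rw [show (x : G) = ((x : G) * x) ^ (j + 1) by
        rw [← sq, ← pow_mul, show 2 * (j + 1) = (2 * j + 1) + 1 by ring, pow_succ, hxp, one_mul]]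
      exact pow_mem h2 _
    haveI : (A.comap (inclusion hNM)).Normal := inferInstance
    have h1 : A.comap (inclusion hNM) ≤ Cfsg.pPrimeCore 2 N := by
      refine Cores.le_pPrimeCore inferInstance (Nat.Coprime.coprime_dvd_left ?_
        (Cores.coprime_card_pPrimeCore 2 (G := M)))
      exact card_comap_dvd_of_injective A (inclusion hNM) (inclusion_injective hNM)
    rw [hN, le_bot_iff] at h1
    refine eq_bot_iff.2 fun x hx => ?_
    have h2 : (⟨x, hAN x hx⟩ : N) ∈ A.comap (inclusion hNM) := hx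
    rw [h1, mem_bot] at h2
    exact Subgroup.mem_bot.2 (Subtype.ext (congrArg (fun y : N => (y : G)) h2))
  have hcen := ZStar.isolated_mem_center ZStar.uniqueInvolution hiso hOM
  intro n hn
  exact (congrArg Subtype.val (mem_center_iff.1 hcen ⟨n, hNM hn⟩)).symm

end Cfsg.Agent.TwoCore
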