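/-
The failure case: elements of order four fixing several cosets (notes/two_core_structure.md).

* `Good H z d` : an involution of `H` other than `z`
* `LineHyp H z u` : the hypotheses of the line lemma
* `LineData H z u w a b` : its conclusion (`C(u)` acts as at least `A₅` on the five fixed cosets)
* `Loc.exists_good_commute` : an element of order four of `H` squaring to `z` centralises a good one
* `Loc.lineHyp_of_v` : one of `T` inverted by `v` and fixing two cosets satisfies the hypotheses
-/
import Cfsg.Agent.Lib.TwoCore.Defs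
import Cfsg.Agent.Lib.TwoCore.Small
import Mathlib.GroupTheory.GroupAction.Quotient

set_option autoImplicit false
set_option linter.unusedSectionVars false
set_option linter.style.haveILetI false

namespace Cfsg.Agent.TwoCore

open Subgroup Involution
open scoped Pointwise

universe u

variable {K : Type u} [Group K]

/-- The trivial coset. -/
abbrev base (H : Subgroup K) : K ⧸ H := ((1 : K) : K ⧸ H)

/-- `k` sends `u` to itself or to its inverse. -/
def Normalizes (u k : K) : Prop :=
  k * u * k⁻¹ = u ∨ k * u * k⁻¹ = u⁻¹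

/-- `k` fixes every coset fixed by `u`. -/
def FixesLine (H : Subgroup K) (u k : K) : Prop :=
  ∀ q : K ⧸ H, u • q = q → k • q = q

/-- The hypotheses of the line lemma. -/
structure LineHyp (H : Subgroup K) (z u : K) : Prop where
  u_mem : u ∈ H
  sq : u * u = z
  fix : FixesTwo H u
  exists_inverter : ∃ t f : K, Good H z t ∧ Good H z f ∧ t * u * t⁻¹ = u⁻¹ ∧ Commute f u ∧ Commute f t

/-- The conclusion of the line lemma: `a`, `b` and `a * b * u` lift the involutions fixing the
trivial coset only, `w` inverts `u` and fixes the line. -/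
structure LineData (H : Subgroup K) (z u w a b : K) : Prop where
  u_mem : u ∈ H
  sq_u : u * u = z
  good_a : Good H z a
  good_b : Good H z b
  au : Commute a u
  bu : Commute b u
  ab : a * b * a⁻¹ * b⁻¹ = z
  sq_w : w * w = z
  w_mem : w ∈ H
  wu : w * u * w⁻¹ = u⁻¹
  wa : w * a * w⁻¹ * a⁻¹ = z
  wb : w * b * w⁻¹ * b⁻¹ = z
  card_fix : Nat.card {q : K ⧸ H // u • q = q} = 5
  trans : ∀ p : K ⧸ H, u • p = p → ∃ c : K, Commute c u ∧ c • base H = p
  three : ∀ p q r : K ⧸ H, u • p = p → u • q = q → u • r = r → p ≠ q → q ≠ r → p ≠ r →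
    ∃ c : K, Odd (orderOf c) ∧ Commute c u ∧ c • p = q ∧ c • q = r ∧ c • r = p ∧
      ∀ s : K ⧸ H, u • s = s → s ≠ p → s ≠ q → s ≠ r → c • s = s
  a_fix : ∀ p : K ⧸ H, u • p = p → a • p = p → p = base H
  b_fix : ∀ p : K ⧸ H, u • p = p → b • p = p → p = base H
  ab_fix : ∀ p : K ⧸ H, u • p = p → (a * b) • p = p → p = base H
  w_fix : FixesLine H u w
  root : ∀ p : K, Commute p u → FixesLine H u p → p * p = z → p = u ∨ p = u⁻¹
  inv_root : ∀ k : K, k * k = z → k * u * k⁻¹ = u⁻¹ → FixesLine H u k →
    ∀ q : K ⧸ H, k • q = q → u • q = q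
  good_image : ∀ d : K, Good H z d → Normalizes u d → ∃ e : K, (e = a ∨ e = b ∨ e = a * b) ∧
    ∀ q : K ⧸ H, u • q = q → d • q = e • q
  double : ∀ i : K, i * i = z → Normalizes u i → (∀ q : K ⧸ H, u • q = q → i • q = a • q) →
    ∃ k : K, Odd (orderOf k) ∧ Commute k u ∧ FixesLine H u k ∧
      (k * (u * a) * k⁻¹ = i ∨ k * (u * a) * k⁻¹ = i * z)

theorem smul_base_eq_iff {H : Subgroup K} {g : K} : g • base H = base H ↔ g ∈ H := by
  rw [MulAction.Quotient.smul_mk, smul_eq_mul, mul_one, QuotientGroup.eq, mul_one, inv_mem_iff]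

theorem Good.conj {H : Subgroup K} {z d h : K} (hd : Good H z d) (hz : Commute z h) (hh : h ∈ H) :
    Good H z (h * d * h⁻¹) := by
  refine ⟨by rw [orderOf_conj]; exact hd.1, fun e => hd.2.1 ?_,
    H.mul_mem (H.mul_mem hh hd.2.2) (H.inv_mem hh)⟩
  have h1 : d = h⁻¹ * (h * d * h⁻¹) * h := by group
  rwa [e, mul_assoc, hz.eq, inv_mul_cancel_left] at h1

variable [Finite K] {T : Sylow 2 K} {H : Subgroup K} {z v : K}

namespace LocBase

variable (L : LocBase T H z v)
include L

theorem good_v : Good H z v := ⟨L.v2, L.vz, L.v_mem_H⟩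

/-- A four-group through `z` in an elementary group centralised by `v` up to `z`. -/
theorem exists_third_of (he8 : ∀ e ∈ T, orderOf e = 2 → ∃ F : Subgroup K, F ≤ (T : Subgroup K) ∧
      Cfsg.IsElementaryAbelian 2 F ∧ 2 ^ 3 ≤ Nat.card F ∧ e ∈ F) {y : K} (hy : y ∈ T) (hy2 : orderOf y = 2) :
    ∃ f ∈ T, Good H z f ∧ Commute f y ∧ Commute f v := by
  classical
  obtain ⟨F, hFT, hF, hF3, hyF⟩ := he8 y hy hy2
  have hcomm : ∀ {a b : K}, a ∈ F → b ∈ F → Commute a b := fun ha hb =>
    Signalizer.commute_of_isMulCommutative hF.1 ha hb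
  have hz2 : z * z = 1 := mul_self L.z2
  by_contra hcon
  push Not at hcon
  have hsmall : ∀ e ∈ F, e * v * e⁻¹ * v⁻¹ = 1 → e = 1 ∨ e = z := by
    intro e he he1
    by_contra hne
    push Not at hne
    refine hcon e (hFT he) ⟨orderOf_of_sq (by rw [← sq]; exact hF.2 e he) hne.1, hne.2, L.le (hFT he)⟩
      (hcomm he hyF) (mul_inv_eq_iff_eq_mul.1 (mul_inv_eq_one.1 he1))
  -- the commutator with `v` is a homomorphism to `⟨z⟩` with kernel in `⟨z⟩`
  set k := fun e : K => e * v * e⁻¹ * v⁻¹ with hk
  have hFz : ∀ e : F, k e = 1 ∨ k e = z := fun e => L.mark e (hFT e.2)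
  have h4 : Nat.card F ≤ 4 := by
    obtain hall | ⟨e₀, he₀⟩ := (em (∀ e : F, k e = 1)).imp id not_forall.1
    · exact le_trans (card_le_two_of_forall fun e he => hsmall e he (hall ⟨e, he⟩)) (by norm_num)
    · refine le_trans (Nat.card_le_card_of_injective
        (fun e : F => if k e = 1 then (decide ((e : K) = 1), true) else
          (decide ((e : K) = e₀), false)) ?_) (by simp)
      intro a b hab
      have hdiv : ∀ e : F, k e ≠ 1 → (e : K) = e₀ ∨ (e : K) = e₀ * z := by
        intro e he
        have h1 : k ((e₀ : K) * e) = 1 := by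
          have e1 : k ((e₀ : K) * e) = (e₀ : K) * k e * (e₀ : K)⁻¹ * k e₀ := by
            simp only [hk]; group
          rw [e1, (hFz e).resolve_left he, (hFz e₀).resolve_left he₀,
            show (e₀ : K) * z = z * e₀ from ((L.z_comm (e₀ : K)).symm).eq, mul_inv_cancel_right, hz2]
        have hee : (e₀ : K) * e₀ = 1 := by rw [← sq]; exact hF.2 _ e₀.2
        rcases hsmall _ (F.mul_mem e₀.2 e.2) h1 with h | h
        · left; rw [← one_mul (e : K), ← hee, mul_assoc, h, mul_one]
        · right; rw [← one_mul (e : K), ← hee, mul_assoc, h]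
      apply Subtype.ext
      simp only at hab
      split_ifs at hab with ha hb hb
      · simp only [Prod.mk.injEq, and_true, decide_eq_decide] at hab
        rcases hsmall a a.2 ha with h | h <;> rcases hsmall b b.2 hb with h' | h'
        · rw [h, h']
        · rw [h, hab.1 h]
        · rw [hab.2 h', h']
        · rw [h, h']
      · simp at hab
      · simp at hab
      · simp only [Prod.mk.injEq, and_true, decide_eq_decide] at hab
        rcases hdiv a ha with h | h <;> rcases hdiv b hb with h' | h'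
        · rw [h, h']
        · rw [h, hab.1 h]
        · rw [hab.2 h', h']
        · rw [h, h']
  omega

/-- An element squaring to `z` centralises a good involution. -/
theorem root_of_e8 (he8 : ∀ e ∈ T, orderOf e = 2 → ∃ F : Subgroup K, F ≤ (T : Subgroup K) ∧
      Cfsg.IsElementaryAbelian 2 F ∧ 2 ^ 3 ≤ Nat.card F ∧ e ∈ F) {u : K} (hu : u ∈ H) (husq : u * u = z) :
    ∃ f, Good H z f ∧ Commute f u := by
  obtain ⟨j, -, hj⟩ := (Nat.dvd_prime_pow Nat.prime_two).1
    (show orderOf u ∣ 2 ^ 2 from orderOf_dvd_iff_pow_eq_one.2 (by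
      rw [show (2 : ℕ) ^ 2 = 2 + 2 from rfl, pow_add, sq, husq, mul_self L.z2]))
  obtain ⟨h, hh, hhT⟩ := L.exists_conj_T (P := zpowers u)
    (IsPGroup.of_card (n := j) (by rw [Nat.card_zpowers, hj])) (zpowers_le.2 hu)
  have hyT : h * u * h⁻¹ ∈ T := hhT u (mem_zpowers u)
  set y := h * u * h⁻¹ with hy
  have hysq : y * y = z := by
    rw [hy, show h * u * h⁻¹ * (h * u * h⁻¹) = h * (u * u) * h⁻¹ by group, husq,
      ← (L.z_comm h).eq, mul_inv_cancel_right]
  suffices h1 : ∃ f, Good H z f ∧ Commute f y by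
    obtain ⟨f, hf, hfy⟩ := h1
    refine ⟨h⁻¹ * f * h, ?_, ?_⟩
    · have := hf.conj (L.z_comm h⁻¹) (H.inv_mem hh)
      rwa [inv_inv] at this
    · have := hfy.map (MulAut.conj h⁻¹).toMonoidHom
      simpa [hy, mul_assoc] using this
  rcases L.mark y hyT with h1 | h1
  · exact ⟨v, L.good_v, (mul_inv_eq_iff_eq_mul.1 (mul_inv_eq_one.1 h1)).symm⟩
  · have hvy : y * v * y⁻¹ = z * v := mul_inv_eq_iff_eq_mul.1 h1
    have hs : v * y * (v * y) = 1 := by
      calc v * y * (v * y) = v * (y * v * y⁻¹) * (y * y) := by group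
        _ = 1 := by
          rw [hvy, hysq, ← mul_assoc v z v, ← (L.z_comm v).eq, mul_assoc z, mul_self L.v2,
            mul_one, mul_self L.z2]
    have hne : v * y ≠ 1 := fun e => ne_one L.z2 (by
      rw [mul_eq_one_iff_eq_inv'] at e
      rw [← hysq, e, inv_eq L.v2, mul_self L.v2])
    obtain ⟨f, -, hf, hfvy, hfv⟩ := L.exists_third_of he8 (T.mul_mem L.vT hyT) (orderOf_of_sq hs hne)
    refine ⟨f, hf, ?_⟩
    have := hfv.inv_right.mul_right hfvy
    rwa [inv_mul_cancel_left] at this

/-- A configuration from an elementary group of order 8 through each involution of `T`. -/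
theorem toLoc_of (he8 : ∀ e ∈ T, orderOf e = 2 → ∃ F : Subgroup K, F ≤ (T : Subgroup K) ∧
      Cfsg.IsElementaryAbelian 2 F ∧ 2 ^ 3 ≤ Nat.card F ∧ e ∈ F)
    (hsep : KernelComm H → CentComm T z) : Loc T H z v where
  toLocBase := L
  e8v := he8 v L.vT L.v2
  root := fun _ hu husq => L.root_of_e8 he8 hu husq
  e8 := he8
  sep := hsep

end LocBase

namespace LocB

variable (L : LocB T H z v)
include L

/-- An element squaring to `z` centralises a good involution. -/
theorem exists_good_commute {u : K} (hu : u ∈ H) (husq : u * u = z) :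
    ∃ f, Good H z f ∧ Commute f u :=
  L.root u hu husq

end LocB

namespace Loc

variable (L : Loc T H z v)
include L

/-- A four-group through `z` in an elementary group centralised by `v` up to `z`. -/
theorem exists_third {y : K} (hy : y ∈ T) (hy2 : orderOf y = 2) :
    ∃ f ∈ T, Good H z f ∧ Commute f y ∧ Commute f v :=
  L.exists_third_of L.e8 hy hy2

/-- An element of order four of `T` inverted by `v` and fixing two cosets. -/
theorem lineHyp_of_v {u : K} (hu : u ∈ T) (husq : u * u = z) (hinv : v * u * v⁻¹ = u⁻¹)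
    (hfix : FixesTwo H u) : LineHyp H z u := by
  have hs : v * u * (v * u) = 1 := by
    calc v * u * (v * u) = (v * u * v⁻¹) * (v * v) * u := by group
      _ = 1 := by rw [hinv, mul_self L.v2, mul_one, inv_mul_cancel]
  have hne : v * u ≠ 1 := fun e => ne_one L.z2 (by
    rw [mul_eq_one_iff_eq_inv'] at e
    rw [← husq, e, inv_eq L.v2, mul_self L.v2])
  obtain ⟨f, -, hf, hfvu, hfv⟩ := L.exists_third (T.mul_mem L.vT hu) (orderOf_of_sq hs hne)
  refine ⟨L.le hu, husq, hfix, v, f, L.good_v, hf, hinv, ?_, hfv⟩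
  have := hfv.inv_right.mul_right hfvu
  rwa [inv_mul_cancel_left] at this

end Loc

end Cfsg.Agent.TwoCore
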