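/-
From the local configuration to the group (owner: helper82; notes/two_core_structure.md, part II in `G`).

* `LocGoal` : the local theorem, an odd subgroup of `H` normalised by the centraliser of a good
  involution is trivial
* `le_core` : for `M` controlling four-groups and a bad involution `z` central in `S` (every involution of `S`
  conjugate to `z`, or with commuting involutions in its centraliser), an odd
  subgroup of `C(z) ⊓ M` normalised by `C(z) ⊓ C(d) ⊓ M` lies in the odd core of `C(z)`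
-/
import Cfsg.Agent.Lib.TwoCore.LineDefs
import Cfsg.Agent.Lib.CoreKilling.Basic

set_option autoImplicit false
set_option linter.unusedSectionVars false
set_option linter.style.haveILetI false

namespace Cfsg.Agent.TwoCore

open Subgroup Involution
open scoped Pointwise

universe u

/-- The local theorem. -/
def LocGoal.{v} : Prop :=
  ∀ (K : Type v) [Group K] [Finite K] (T : Sylow 2 K) (H : Subgroup K) (z v : K),
    Loc T H z v → ∀ d : K, Good H z d → ∀ X : Subgroup K, X ≤ H → ¬ 2 ∣ Nat.card X →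
      (∀ c ∈ H, Commute c d → ∀ x ∈ X, c * x * c⁻¹ ∈ X) → X = ⊥

variable {G : Type u} [Group G] [Finite G]

/-- Two commuting involutions generate an elementary group. -/
theorem elemAb_pair {a b : G} (ha : orderOf a = 2) (hb : orderOf b = 2) (hab : Commute a b) :
    Cfsg.IsElementaryAbelian 2 (zpowers a ⊔ zpowers b) := by
  have hZ : ∀ {x : G}, orderOf x = 2 → Cfsg.IsElementaryAbelian 2 (zpowers x) := fun {x} hx =>
    ⟨inferInstance, fun y hy => by
      obtain ⟨i, rfl⟩ := hy
      rw [← zpow_natCast, ← zpow_mul, mul_comm, zpow_mul, zpow_natCast,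
        show x ^ 2 = 1 from hx ▸ pow_orderOf_eq_one x, one_zpow]⟩
  refine Signalizer.elemAb_sup (hZ ha) (hZ hb) ?_
  intro x hx y hy
  obtain ⟨i, rfl⟩ := mem_zpowers_iff.1 hx
  obtain ⟨j, rfl⟩ := mem_zpowers_iff.1 hy
  exact (hab.zpow_zpow i j).eq

/-- Two distinct commuting involutions generate a four-group. -/
theorem isFour_pair {a b : G} (ha : orderOf a = 2) (hb : orderOf b = 2) (hne : b ≠ a)
    (hab : Commute a b) : CoreKilling.IsFour (zpowers a ⊔ zpowers b) := by
  haveI : Fact (Nat.Prime 2) := ⟨Nat.prime_two⟩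
  have hE := elemAb_pair ha hb hab
  refine ⟨hE, ?_⟩
  rw [Signalizer.card_sup_zpowers hE le_sup_left
    ((le_sup_right : zpowers b ≤ _) (mem_zpowers b)) ?_, Nat.card_zpowers, ha]
  · norm_num
  · intro h
    obtain ⟨i, hi⟩ := mem_zpowers_iff.1 h
    rcases Int.emod_two_eq_zero_or_one i with h2 | h2 <;>
      rw [← zpow_mod_orderOf, ha, Nat.cast_ofNat, h2] at hi
    · rw [← hi, zpow_zero, orderOf_one] at hb; omega
    · exact hne (by rw [← hi, zpow_one])

/-- An involution in a coset of an odd subgroup. -/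
theorem exists_involution_lift {O : Subgroup G} [O.Normal] (hO : Odd (Nat.card O)) {x : G}
    (hx : x * x ∈ O) (hxO : x ∉ O) :
    orderOf (x ^ Nat.card O) = 2 ∧ x⁻¹ * x ^ Nat.card O ∈ O := by
  obtain ⟨k, hk⟩ := hO
  have hmem : x⁻¹ * x ^ Nat.card O ∈ O := by
    rw [hk, pow_succ', inv_mul_cancel_left, pow_mul, sq]
    exact pow_mem hx k
  refine ⟨orderOf_of_sq ?_ (fun h => hxO ?_), hmem⟩
  · rw [← pow_add, ← two_mul, pow_mul, sq]
    exact orderOf_dvd_iff_pow_eq_one.1 (Subgroup.orderOf_dvd_natCard O hx)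
  · rw [h, mul_one] at hmem
    exact inv_mem_iff.1 hmem

/-- The odd core of `C(z)` and the good involutions of `M`: balance. -/
theorem le_core (hloc : LocGoal.{u}) (S : Sylow 2 G) (M : Subgroup G) (hSM : (S : Subgroup G) ≤ M)
    {z v : G} (hz : orderOf z = 2) (hzS : z ∈ S) (hzc : ∀ s ∈ S, Commute s z)
    (hbad : ¬ centralizer ({z} : Set G) ≤ M)
    (hv : orderOf v = 2) (hvS : v ∈ S) (hvz : v ≠ z)
    (hmark : ∀ s ∈ S, s * v * s⁻¹ * v⁻¹ = 1 ∨ s * v * s⁻¹ * v⁻¹ = z)
    (hH3 : ∀ e ∈ S, orderOf e = 2 → ∃ F : Subgroup G, F ≤ (S : Subgroup G) ∧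
      Cfsg.IsElementaryAbelian 2 F ∧ 2 ^ 3 ≤ Nat.card F ∧ e ∈ F)
    (hfour : ∀ E : Subgroup G, CoreKilling.IsFour E → E ≤ M →
      ∀ g : G, MulAut.conj g • E ≤ M → g ∈ M)
    (hdich : ∀ a ∈ S, orderOf a = 2 → (∃ g : G, g * z * g⁻¹ = a) ∨
      ∀ e ∈ S, ∀ f ∈ S, orderOf e = 2 → orderOf f = 2 → Commute a e → Commute a f → Commute e f)
    {d : G} (hd : orderOf d = 2) (hdz : d ≠ z) (hdM : d ∈ M) (hdC : Commute d z)
    {X : Subgroup G} (hXM : X ≤ M) (hXC : X ≤ centralizer ({z} : Set G))
    (hXodd : ¬ 2 ∣ Nat.card X)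
    (hXn : ∀ c ∈ M, Commute c z → Commute c d → ∀ x ∈ X, c * x * c⁻¹ ∈ X) :
    X ≤ Cfsg.centralizerPPrimeCore 2 z := by
  haveI : Fact (Nat.Prime 2) := ⟨Nat.prime_two⟩
  -- `M` controls pairs of commuting involutions
  have hpair : ∀ a b g : G, orderOf a = 2 → orderOf b = 2 → b ≠ a → Commute a b → a ∈ M → b ∈ M →
      g * a * g⁻¹ ∈ M → g * b * g⁻¹ ∈ M → g ∈ M := by
    intro a b g ha hb hne hab haM hbM hga hgb
    refine hfour _ (isFour_pair ha hb hne hab) (sup_le (zpowers_le.2 haM) (zpowers_le.2 hbM)) g ?_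
    refine map_le_iff_le_comap.2 (sup_le (zpowers_le.2 ?_) (zpowers_le.2 ?_))
    · exact hga
    · exact hgb
  set C : Subgroup G := centralizer ({z} : Set G) with hC
  have hmemC : ∀ x : G, x ∈ C ↔ Commute x z := fun x => mem_centralizer_singleton_iff
  have hSC : (S : Subgroup G) ≤ C := fun s hs => (hmemC s).2 (hzc s hs)
  set O : Subgroup C := Cfsg.pPrimeCore 2 C with hOdef
  haveI hOn : O.Normal := Cores.pPrimeCore_normal 2 _
  have hOodd : ¬ 2 ∣ Nat.card O := Cores.not_dvd_card_pPrimeCore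
  have hOodd' : Odd (Nat.card O) := Nat.odd_iff.2 (Nat.two_dvd_ne_zero.1 hOodd)
  -- the core lies in `M`
  have hOM : ∀ o ∈ O, (o : G) ∈ M := by
    obtain ⟨F, hFS, hF, hF3, hzF⟩ := hH3 z hzS hz
    obtain ⟨A, hAF, hzA, hAz⟩ := Signalizer.exists_complement_zpowers hF hzF (ne_one hz)
    have hA : Cfsg.IsElementaryAbelian 2 A := Signalizer.elemAb_of_le hF hAF
    have hA2 : 2 ^ 2 ≤ Nat.card A := by
      have h1 := Signalizer.card_sup_zpowers hF hAF hzF hzA
      rw [hAz] at h1
      omega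
    have hle : Cfsg.centralizerPPrimeCore 2 z ≤ M := by
      refine Signalizer.le_of_elements hA hA2 M _ (Signalizer.not_dvd_card_core z)
        (((hAF.trans hFS).trans hSC).trans (Signalizer.centralizer_le_normalizer_core z)) ?_
      rintro a ha ha1 c ⟨hcO, hca⟩
      have haS : a ∈ S := hFS (hAF ha)
      have hcz : Commute c z := (hmemC c).1 (Signalizer.core_le_centralizer z hcO)
      have hca' : Commute c a := mem_centralizer_singleton_iff.1 hca
      refine hpair z a c hz (CoreKilling.orderOf_of_mem hA ha ha1) (fun h => hzA (h ▸ ha))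
        (hzc a haS).symm (hSM hzS) (hSM haS) ?_ ?_
      · rw [hcz.eq, mul_inv_cancel_right]; exact hSM hzS
      · rw [hca'.eq, mul_inv_cancel_right]; exact hSM haS
    exact fun o ho => hle ⟨o, ho, rfl⟩
  -- the quotient
  set π := QuotientGroup.mk' O with hπ
  have hπsurj : Function.Surjective π := QuotientGroup.mk'_surjective O
  have hπ1 : ∀ c : C, π c = 1 → c ∈ O := fun c h => (QuotientGroup.eq_one_iff c).1 h
  set H : Subgroup (C ⧸ O) := (M.subgroupOf C).map π with hHdef
  have hmemH : ∀ c : C, π c ∈ H ↔ (c : G) ∈ M := by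
    intro c
    refine ⟨?_, fun h => mem_map_of_mem π (mem_subgroupOf.2 h)⟩
    rintro ⟨y, hy, hyc⟩
    have h1 := hπ1 (y⁻¹ * c) (by rw [map_mul, map_inv, hyc, inv_mul_cancel])
    have h2 := M.mul_mem (mem_subgroupOf.1 hy) (hOM _ h1)
    rwa [Subgroup.coe_mul, Subgroup.coe_inv, mul_inv_cancel_left] at h2
  set zC : C := ⟨z, hSC hzS⟩ with hzC
  set zb := π zC with hzb
  have hdC' : d ∈ C := (hmemC d).2 hdC
  have hzcomm : ∀ c : C, Commute zC c := fun c => Subtype.ext ((hmemC c).1 c.2).symm.eq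
  -- elements of order two with the same image
  have hinj2 : ∀ a b : C, a * a = 1 → b * b = 1 → Commute a b → π a = π b → a = b := by
    intro a b ha hb hab h
    have h1 : a * b ∈ O := hπ1 _ (by rw [map_mul, h, ← map_mul, hb, map_one])
    have h2 : (a * b) * (a * b) = 1 := by
      rw [mul_assoc, ← mul_assoc b a b, ← hab.eq, mul_assoc a b b, hb, mul_one, ha]
    have h3 : a * b = 1 := by
      by_contra hne
      exact hOodd ((orderOf_of_sq h2 hne) ▸ Subgroup.orderOf_dvd_natCard O h1)
    rw [mul_eq_one_iff_eq_inv] at h3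
    rw [h3, inv_eq_of_mul_eq_one_right hb]
  have hzz : zC * zC = 1 := Subtype.ext (mul_self hz)
  -- the Sylow subgroup
  set TC : Sylow 2 C := S.subtype hSC with hTC
  set T : Sylow 2 (C ⧸ O) := TC.mapSurjective hπsurj with hT
  have hmemT : ∀ t : C ⧸ O, t ∈ T → ∃ s : C, (s : G) ∈ S ∧ π s = t := by
    intro t ht
    obtain ⟨s, hs, rfl⟩ := (show t ∈ (TC : Subgroup C).map π from ht)
    exact ⟨s, hs, rfl⟩
  have hTmem : ∀ s : C, (s : G) ∈ S → π s ∈ T := fun s hs =>
    show π s ∈ (TC : Subgroup C).map π from mem_map_of_mem π hs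
  have hinjS : ∀ s : C, (s : G) ∈ S → π s = 1 → s = 1 := by
    intro s hs h
    obtain ⟨k, hk⟩ := IsPGroup.iff_orderOf.1 S.isPGroup' ⟨(s : G), hs⟩
    rw [Subgroup.orderOf_mk, Subgroup.orderOf_coe] at hk
    have hdvd : orderOf s ∣ Nat.card O := Subgroup.orderOf_dvd_natCard O (hπ1 s h)
    exact orderOf_eq_one_iff.1 (Nat.eq_one_of_dvd_coprimes
      ((Nat.coprime_two_left.2 hOodd').pow_left k) (dvd_of_eq hk) hdvd)
  have hSlift : ∀ t : C ⧸ O, t ∈ T → orderOf t = 2 →
      ∃ s : C, (s : G) ∈ S ∧ π s = t ∧ orderOf (s : G) = 2 := by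
    intro t ht ht2
    obtain ⟨s, hs, rfl⟩ := hmemT t ht
    refine ⟨s, hs, rfl, ?_⟩
    rw [Subgroup.orderOf_coe]
    refine orderOf_of_sq (hinjS _ (S.mul_mem hs hs) (by rw [map_mul, mul_self ht2])) fun h => ?_
    rw [h, map_one, orderOf_one] at ht2
    omega
  have hord : ∀ c : C, orderOf (c : G) = 2 → orderOf (π c) = 2 := by
    intro c hc
    rw [Subgroup.orderOf_coe] at hc
    refine orderOf_of_sq (by rw [← map_mul, mul_self hc, map_one]) fun h => ?_
    exact hOodd (hc ▸ Subgroup.orderOf_dvd_natCard O (hπ1 c h))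
  have hnez : ∀ c : C, orderOf (c : G) = 2 → (c : G) ≠ z → π c ≠ zb := fun c hc hne h =>
    hne (congrArg Subtype.val (hinj2 c zC (Subtype.ext (mul_self hc)) hzz (hzcomm c).symm h))
  have hne_top : H ≠ ⊤ := by
    intro h
    exact hbad fun c hc => (hmemH ⟨c, hc⟩).1 (h ▸ mem_top _)
  have hctl : ∀ t : C ⧸ O, orderOf t = 2 → t ≠ zb → t ∈ H → ∀ g : C ⧸ O,
      g * t * g⁻¹ ∈ H → g ∈ H := by
    intro t ht htz htH g hg
    obtain ⟨x, hx, rfl⟩ := htH
    obtain ⟨c, rfl⟩ := hπsurj g
    have hxO : x ∉ O := fun h => by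
      rw [show π x = 1 from (QuotientGroup.eq_one_iff x).2 h, orderOf_one] at ht
      omega
    obtain ⟨hy2, hy⟩ := exists_involution_lift hOodd' (hπ1 _ (by rw [map_mul, mul_self ht])) hxO
    set y := x ^ Nat.card O
    have hπy : π y = π x := by
      have : π (x⁻¹ * y) = 1 := (QuotientGroup.eq_one_iff _).2 hy
      rw [map_mul, map_inv, inv_mul_eq_one] at this
      exact this.symm
    rw [← Subgroup.orderOf_coe] at hy2
    rw [hmemH]
    have hgy : π (c * y * c⁻¹) ∈ H := by rw [map_mul, map_mul, map_inv, hπy]; exact hg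
    refine hpair z y c hz hy2 (fun h => htz (by
      rw [← hπy, hzb, show y = zC from Subtype.ext h])) ((hmemC _).1 y.2).symm (hSM hzS)
      ((hmemH y).1 (hπy ▸ mem_map_of_mem π hx)) ?_ ?_
    · rw [((hmemC _).1 c.2).eq, mul_inv_cancel_right]; exact hSM hzS
    · simpa using (hmemH _).1 hgy
  have hcoreN : ∀ t : C ⧸ O, orderOf t = 2 → t ∈ H.normalCore → t = zb := by
    intro t ht htN
    by_contra hne
    refine hne_top (eq_top_iff.2 fun g _ => hctl t ht hne (H.normalCore_le htN) g ?_)
    exact H.normalCore_le (H.normalCore_normal.conj_mem t htN g)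
  -- fusion inside `M`
  have hfuse : ∀ a : G, a ∈ S → orderOf a = 2 → a ≠ z → IsConj a z →
      ∃ m ∈ M, m * a * m⁻¹ = z ∧ ∀ s ∈ S, Commute s a → m * s * m⁻¹ ∈ S := by
    intro a haS ha hne hconj
    obtain ⟨g, hg⟩ := isConj_iff.1 hconj
    set P : Subgroup G :=
      ((S : Subgroup G) ⊓ centralizer ({a} : Set G)).map (MulAut.conj g).toMonoidHom with hP
    have hPC : P ≤ C := by
      rintro _ ⟨s, ⟨-, hs⟩, rfl⟩
      have hsa : Commute s a := mem_centralizer_singleton_iff.1 hs
      refine (hmemC _).2 ?_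
      rw [← hg]
      exact hsa.map (MulAut.conj g).toMonoidHom
    obtain ⟨c, hc, hcP⟩ := exists_conj_sylow_mem S hSC
      ((S.isPGroup'.to_le inf_le_left).map (MulAut.conj g).toMonoidHom) hPC
    have hsend : ∀ s ∈ S, Commute s a → c * g * s * (c * g)⁻¹ ∈ S := fun s hs hsa => by
      have h := hcP (g * s * g⁻¹) ⟨s, ⟨hs, mem_centralizer_singleton_iff.2 hsa⟩, rfl⟩
      simpa [mul_assoc] using h
    have hca : c * g * a * (c * g)⁻¹ = z := by
      rw [show c * g * a * (c * g)⁻¹ = c * (g * a * g⁻¹) * c⁻¹ by group, hg,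
        ((hmemC c).1 hc).eq, mul_inv_cancel_right]
    refine ⟨c * g, hpair z a (c * g) hz ha hne (hzc a haS).symm (hSM hzS) (hSM haS)
      (hSM (hsend z hzS (hzc a haS).symm)) ?_, hca, hsend⟩
    rw [hca]
    exact hSM hzS
  have L0 : LocBase T H zb (π ⟨v, hSC hvS⟩) :=
    { core := Cores.pPrimeCore_quotient_self 2
      z2 := hord zC hz
      zc := mem_center_iff.2 fun g => by
        obtain ⟨c, rfl⟩ := hπsurj g
        rw [hzb, ← map_mul, ← map_mul, (hzcomm c).eq]
      le := fun t ht => by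
        obtain ⟨s, hs, rfl⟩ := hmemT t ht
        exact (hmemH s).2 (hSM hs)
      ne_top := hne_top
      ctl := hctl
      v2 := hord _ hv
      vz := hnez _ hv hvz
      vT := hTmem _ hvS
      mark := fun t ht => by
        obtain ⟨s, hs, rfl⟩ := hmemT t ht
        rw [← map_inv, ← map_inv, ← map_mul, ← map_mul, ← map_mul, hzb]
        rcases hmark s hs with h | h
        · refine Or.inl ?_
          rw [← map_one π]
          exact congrArg π (Subtype.ext h)
        · exact Or.inr (congrArg π (Subtype.ext h))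
    }
  have L : Loc T H zb (π ⟨v, hSC hvS⟩) :=
    L0.toLoc_of (fun t ht ht2 => by
        obtain ⟨s, hs, rfl, hs2⟩ := hSlift t ht ht2
        obtain ⟨F, hFS, hF, hF3, hsF⟩ := hH3 s hs hs2
        set f := π.comp (Subgroup.inclusion (hFS.trans hSC)) with hf
        have hfinj : Function.Injective f := (injective_iff_map_eq_one f).2 fun a ha =>
          Subgroup.inclusion_injective _ (by
            rw [map_one]; exact hinjS _ (hFS a.2) ha)
        refine ⟨f.range, ?_, ⟨⟨⟨?_⟩⟩, ?_⟩, ?_, ⟨⟨(s : G), hsF⟩, rfl⟩⟩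
        · rintro _ ⟨a, rfl⟩
          exact hTmem _ (hFS a.2)
        · rintro ⟨_, a, rfl⟩ ⟨_, b, rfl⟩
          refine Subtype.ext ((map_mul f a b).symm.trans ?_)
          rw [show a * b = b * a from
            Subtype.ext (Signalizer.commute_of_isMulCommutative hF.1 a.2 b.2)]
          exact map_mul f b a
        · rintro _ ⟨a, rfl⟩
          rw [← map_pow, show a ^ 2 = 1 from Subtype.ext (hF.2 _ a.2), map_one]
        · rwa [← Nat.card_congr (MonoidHom.ofInjective hfinj).toEquiv])
      (by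
        intro hker a ha e he f hf ha2 he2 hf2 haz hae haf
        obtain ⟨a, haS, rfl, ga2⟩ := hSlift a ha ha2
        obtain ⟨e, heS, rfl, ge2⟩ := hSlift e he he2
        obtain ⟨f, hfS, rfl, gf2⟩ := hSlift f hf hf2
        have hlift : ∀ x : C, (x : G) ∈ S → Commute (π a) (π x) → Commute (a : G) x := by
          intro x hx h
          have h1 := hinjS (a * x * a⁻¹ * x⁻¹)
            (S.mul_mem (S.mul_mem (S.mul_mem haS hx) (S.inv_mem haS)) (S.inv_mem hx))
            (by rw [map_mul, map_mul, map_mul, map_inv, map_inv, h.eq]; group)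
          rw [mul_inv_eq_one, mul_inv_eq_iff_eq_mul] at h1
          exact congrArg Subtype.val h1
        have haz' : (a : G) ≠ z := fun h => haz (by rw [hzb, show a = zC from Subtype.ext h])
        rcases hdich a haS ga2 with hconj | hcc
        swap
        · exact Commute.map (Subtype.ext (hcc e heS f hfS ge2 gf2 (hlift e heS hae)
            (hlift f hfS haf)).eq : e * f = f * e) π
        obtain ⟨m, hmM, hma, hm⟩ := hfuse a haS ga2 haz' (isConj_iff.2 hconj).symm
        have hcN : ∀ x y : C, (x : G) ∈ S → (y : G) ∈ S → orderOf (x : G) = 2 →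
            orderOf (y : G) = 2 → π (x * y * x⁻¹ * y⁻¹) ∈ H.normalCore := by
          intro x y hx hy hx2 hy2
          simp only [map_mul, map_inv]
          exact hker T (fun t ht => by
            obtain ⟨s, hs, rfl⟩ := hmemT t ht
            exact (hmemH s).2 (hSM hs)) _ (hTmem x hx) _ (hTmem y hy) (hord x hx2) (hord y hy2)
        set c : C := e * f * e⁻¹ * f⁻¹ with hc
        have hcS : (c : G) ∈ S :=
          S.mul_mem (S.mul_mem (S.mul_mem heS hfS) (S.inv_mem heS)) (S.inv_mem hfS)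
        suffices hc1 : c = 1 by
          rw [hc, mul_inv_eq_one, mul_inv_eq_iff_eq_mul] at hc1
          exact Commute.map hc1 π
        by_contra hc1
        have he' : m * (e : G) * m⁻¹ ∈ S := hm _ heS (hlift e heS hae).symm
        have hf' : m * (f : G) * m⁻¹ ∈ S := hm _ hfS (hlift f hfS haf).symm
        set e' : C := ⟨_, hSC he'⟩ with he'def
        set f' : C := ⟨_, hSC hf'⟩ with hf'def
        set c' : C := e' * f' * e'⁻¹ * f'⁻¹ with hc'
        have hcc' : (c' : G) = m * c * m⁻¹ := by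
          simp only [hc', hc, he'def, hf'def, Subgroup.coe_mul, Subgroup.coe_inv]
          group
        obtain ⟨k, hk⟩ := IsPGroup.iff_orderOf.1 S.isPGroup' ⟨(c : G), hcS⟩
        rw [Subgroup.orderOf_mk, Subgroup.orderOf_coe] at hk
        obtain ⟨j, rfl⟩ : ∃ j, k = j + 1 := by
          rcases k with _ | k
          · exact absurd (orderOf_eq_one_iff.1 (by simpa using hk)) hc1
          · exact ⟨k, rfl⟩
        have hi : orderOf ((c : G) ^ 2 ^ j) = 2 := by
          rw [orderOf_pow' _ (by positivity), Subgroup.orderOf_coe, hk,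
            Nat.gcd_eq_right (pow_dvd_pow 2 (Nat.le_succ j)), pow_succ,
            Nat.mul_div_cancel_left _ (by positivity)]
        have hi' : orderOf ((c' : G) ^ 2 ^ j) = 2 := by
          rw [hcc', conj_pow, orderOf_conj, hi]
        have key : ∀ x : C, π x ∈ H.normalCore → orderOf ((x : G) ^ 2 ^ j) = 2 →
            (x : G) ^ 2 ^ j = z := by
          intro x hx hx2
          rw [← Subgroup.coe_pow] at hx2
          by_contra hne
          refine hnez (x ^ 2 ^ j) hx2 (by rwa [Subgroup.coe_pow]) (hcoreN _ (hord _ hx2) ?_)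
          rw [map_pow]
          exact pow_mem hx _
        have h1 := key c (hcN e f heS hfS ge2 gf2) hi
        have h2 := key c' (hcN e' f' he' hf' (by rw [he'def, orderOf_conj]; exact ge2)
          (by rw [hf'def, orderOf_conj]; exact gf2)) hi'
        rw [hcc', conj_pow, h1] at h2
        exact haz' (mul_left_cancel (mul_right_cancel (hma.trans h2.symm))))
  -- the conclusion
  set dC : C := ⟨d, hdC'⟩ with hdCdef
  have hgood : Good H zb (π dC) := ⟨hord dC hd, hnez dC hd hdz, (hmemH dC).2 hdM⟩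
  have hX := hloc (C ⧸ O) T H zb _ L (π dC) hgood ((X.subgroupOf C).map π)
    (by rintro _ ⟨x, hx, rfl⟩; exact (hmemH x).2 (hXM hx))
    (fun h => hXodd (by
      have h1 := h.trans ((X.subgroupOf C).card_map_dvd π)
      rwa [Cores.card_subgroupOf hXC] at h1)) (by
      intro t ht htd
      obtain ⟨c, hcM, rfl⟩ := ht
      obtain ⟨n, hn, hnc⟩ := Signalizer.exists_fixed_in_coset (p := 2) (A := zpowers dC) (N := O)
        (Signalizer.isPGroup_zpowers_of_pow_eq_one (by
          rw [sq]; exact Subtype.ext (mul_self hd))) (by rw [normalizer_eq_top]; exact le_top)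
        hOodd c (by
          intro a ha
          refine hπ1 _ ?_
          rw [map_mul, map_mul, map_mul, map_inv, map_inv]
          obtain ⟨i, rfl⟩ := mem_zpowers_iff.1 ha
          rw [map_zpow, ((htd.zpow_right i).symm).eq]
          group)
      rintro _ ⟨x, hx, rfl⟩
      refine ⟨n * c * x * (n * c)⁻¹, ?_, ?_⟩
      · refine mem_subgroupOf.2 ?_
        simp only [Subgroup.coe_mul, Subgroup.coe_inv]
        exact hXn _ (M.mul_mem (hOM n hn) hcM) ((hmemC _).1 (n * c).2)
          (congrArg Subtype.val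
            ((mem_centralizer_iff.1 hnc dC (mem_zpowers dC)).symm : n * c * dC = dC * (n * c))) _ hx
      · rw [map_mul, map_mul, map_inv, map_mul,
          show π n = 1 from (QuotientGroup.eq_one_iff n).2 hn, one_mul])
  intro x hx
  exact ⟨⟨x, hXC hx⟩, hπ1 _ ((mem_bot (G := C ⧸ O)).1 (hX ▸ mem_map_of_mem π
    (show (⟨x, hXC hx⟩ : C) ∈ X.subgroupOf C from hx))), rfl⟩

end Cfsg.Agent.TwoCore
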