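/-
Generic facts for the covering step (notes/two_core_structure.md, "Covering").

* `four_eq`, `eq_on_four`, `fix_four_of_odd` : sets of four points
* `dihedral_central` : the central involution of the group of two non-conjugate involutions
* `dihedral_fixed` : a conjugate commuting with an involution, for an odd product
* `exists_normal_odd` : the odd elements of a group with cyclic Sylow 2-subgroups form a subgroup
-/
import Cfsg.Agent.EqLemmas
import Mathlib.GroupTheory.Transfer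
import Mathlib.GroupTheory.Sylow
import Mathlib.GroupTheory.Perm.Cycle.Type
import Mathlib.Data.Set.Card

set_option autoImplicit false
set_option linter.unusedSectionVars false
set_option linter.style.haveILetI false

namespace Cfsg.Agent.TwoCore

open Subgroup

variable {α : Type*} {S : Set α}

/-- A set of four points is the set of any four of its points. -/
theorem four_eq (h4 : S.ncard = 4) {a b c d : α} (ha : a ∈ S) (hb : b ∈ S) (hc : c ∈ S) (hd : d ∈ S)
    (hab : a ≠ b) (hac : a ≠ c) (had : a ≠ d) (hbc : b ≠ c) (hbd : b ≠ d) (hcd : c ≠ d)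
    {q : α} (hq : q ∈ S) : q = a ∨ q = b ∨ q = c ∨ q = d := by
  have hfin : S.Finite := Set.finite_of_ncard_pos (by omega)
  have hsub : ({a, b, c, d} : Set α) ⊆ S := by
    rintro x (rfl | rfl | rfl | rfl) <;> assumption
  have hcard : ({a, b, c, d} : Set α).ncard = 4 := by
    rw [Set.ncard_insert_of_notMem (by simp [hab, hac, had]) (Set.toFinite _),
      Set.ncard_insert_of_notMem (by simp [hbc, hbd]) (Set.toFinite _), Set.ncard_pair hcd]
  rw [← Set.eq_of_subset_of_ncard_le hsub (by omega) hfin] at hq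
  simpa using hq

/-- Two fixed-point-free involutions of four points agreeing at one of them. -/
theorem eq_on_four (h4 : S.ncard = 4) {f g : α → α} (hf : ∀ q ∈ S, f q ∈ S) (hg : ∀ q ∈ S, g q ∈ S)
    (hf2 : ∀ q ∈ S, f (f q) = q) (hg2 : ∀ q ∈ S, g (g q) = q) (hf1 : ∀ q ∈ S, f q ≠ q)
    (hg1 : ∀ q ∈ S, g q ≠ q) {p : α} (hp : p ∈ S) (h : f p = g p) {q : α} (hq : q ∈ S) :
    f q = g q := by
  by_cases h1 : q = p
  · rw [h1, h]
  by_cases h2 : q = f p
  · rw [h2, hf2 p hp, h, hg2 p hp]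
  have hfq1 : f q ≠ p := fun e => h2 (by rw [← e, hf2 q hq])
  have hfq2 : f q ≠ f p := fun e => h1 (by rw [← hf2 q hq, e, hf2 p hp])
  have hgq1 : g q ≠ p := fun e => h2 (by rw [h, ← e, hg2 q hq])
  have hgq2 : g q ≠ f p := fun e => h1 (by rw [← hg2 q hq, e, h, hg2 p hp])
  rcases four_eq h4 hp (hf p hp) hq (hf q hq) (hf1 p hp).symm (Ne.symm h1) hfq1.symm
    (fun e => h2 e.symm) hfq2.symm (hf1 q hq).symm (hg q hq) with e | e | e | e
  · exact absurd e hgq1
  · exact absurd e hgq2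
  · exact absurd e (hg1 q hq)
  · exact e.symm

/-- An element of odd order commuting with a fixed-point-free involution of four points fixes
them. -/
theorem fix_four_of_odd (h4 : S.ncard = 4) {k : Equiv.Perm α} (hk : Odd (orderOf k))
    (hkS : ∀ q ∈ S, k q ∈ S) {f : α → α} (hfS : ∀ q ∈ S, f q ∈ S) (hf2 : ∀ q ∈ S, f (f q) = q)
    (hf1 : ∀ q ∈ S, f q ≠ q) (hc : ∀ q ∈ S, k (f q) = f (k q)) {q : α} (hq : q ∈ S) : k q = q := by
  have key : ∀ d ∈ S, k (k (k (k d))) = d := by
    intro d hd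
    by_cases h1 : k d = d
    · simp only [h1]
    by_cases h2 : k d = f d
    · simp only [h2, hc d hd, hf2 d hd]
    obtain ⟨e, he, hked⟩ : ∃ e ∈ S, k d = e := ⟨k d, hkS d hd, rfl⟩
    rw [hked] at h1 h2
    have hne1 : f e ≠ d := fun x => h2 (by rw [← x, hf2 e he])
    have hne2 : f e ≠ f d := fun x => h1 (by rw [← hf2 e he, x, hf2 d hd])
    have hall := fun {x : α} (hx : x ∈ S) => four_eq h4 hd (hfS d hd) he (hfS e he) (hf1 d hd).symm
      (Ne.symm h1) hne1.symm (fun x => h2 x.symm) hne2.symm (hf1 e he).symm hx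
    have hk1 : k e ≠ e := fun x => h1 (k.injective (by rw [x, hked]))
    have hk2 : k e ≠ f e := fun x => by
      rw [← hked, ← hc d hd, hked] at x
      exact h2 (k.injective x)
    rcases hall (hkS e he) with x | x | x | x
    · rw [hked, x, hked, x]
    · rw [hked, x, hc d hd, hked, hc e he, x, hf2 d hd]
    · exact absurd x hk1
    · exact absurd x hk2
  have h4k : (k ^ 4) q = q := by
    simp only [pow_succ, pow_zero, one_mul, Equiv.Perm.mul_apply]
    exact key q hq
  have hcop : Nat.Coprime 4 (orderOf k) :=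
    Nat.Coprime.pow_left 2 ((Nat.prime_two.coprime_iff_not_dvd).2 hk.not_two_dvd_nat)
  obtain ⟨i, hi⟩ := exists_pow_eq_self_of_coprime hcop
  rw [← hi]
  exact Equiv.Perm.pow_apply_eq_self_of_apply_eq_self h4k i

section Group

variable {G : Type*} [Group G] [Finite G] {U V : G}

/-- Two non-conjugate involutions: the central involution of the group they generate, and the
conjugation by it when its exponent is odd. -/
theorem dihedral_central (hU : U * U = 1) (hV : V * V = 1) (hne : ¬ IsConj U V) :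
    ∃ m : ℕ, (U * V) ^ m ≠ 1 ∧ (U * V) ^ m * (U * V) ^ m = 1 ∧ Commute ((U * V) ^ m) U ∧
      Commute ((U * V) ^ m) V ∧
      (Odd m → ∃ g, Commute g ((U * V) ^ m) ∧ g * U * g⁻¹ = (U * V) ^ m * V) := by
  have hUi : U⁻¹ = U := inv_eq_of_mul_eq_one_right hU
  have hVi : V⁻¹ = V := inv_eq_of_mul_eq_one_right hV
  set ρ := U * V with hρ
  have hUρ : U * ρ * U⁻¹ = ρ⁻¹ := by
    rw [hρ, mul_inv_rev, hUi, hVi, ← mul_assoc U U V, hU, one_mul]
  have hρU : ∀ k : ℕ, U * ρ ^ k = (ρ ^ k)⁻¹ * U := fun k => by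
    rw [← inv_pow, ← hUρ, conj_pow, inv_mul_cancel_right]
  have hρi : ∀ k : ℕ, ρ ^ k * U * (ρ ^ k)⁻¹ = ρ ^ (2 * k) * U := fun k => by
    rw [mul_assoc, show U * (ρ ^ k)⁻¹ = ρ ^ k * U by
      calc U * (ρ ^ k)⁻¹ = U * (ρ ^ k)⁻¹ * (U⁻¹ * U) := by rw [inv_mul_cancel, mul_one]
        _ = (U * ρ ^ k * U⁻¹)⁻¹ * U := by group
        _ = ρ ^ k * U := by rw [hρU k, mul_inv_cancel_right, inv_inv],
      ← mul_assoc, two_mul, pow_add]
  obtain ⟨m, hm | hm⟩ := Nat.even_or_odd' (orderOf ρ)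
  · have hm0 : 0 < m := by
      have := orderOf_pos ρ
      omega
    have h1 : ρ ^ m * ρ ^ m = 1 := by rw [← pow_add, ← two_mul, ← hm, pow_orderOf_eq_one]
    have h2 : (ρ ^ m)⁻¹ = ρ ^ m := inv_eq_of_mul_eq_one_right h1
    have hcU : Commute (ρ ^ m) U := by
      show ρ ^ m * U = U * ρ ^ m
      rw [hρU m, h2]
    have hcV : Commute (ρ ^ m) V := by
      have : Commute (ρ ^ m) (U * ρ) := hcU.mul_right ((Commute.refl ρ).pow_left m)
      rwa [hρ, ← mul_assoc, hU, one_mul] at this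
    refine ⟨m, pow_ne_one_of_lt_orderOf hm0.ne' (by omega), h1, hcU, hcV, ?_⟩
    rintro ⟨j, rfl⟩
    refine ⟨ρ ^ j, ((Commute.refl ρ).pow_pow j (2 * j + 1)), ?_⟩
    rw [hρi, pow_succ ρ (2 * j), mul_assoc (ρ ^ (2 * j)), hρ, mul_assoc U V V, hV, mul_one]
  · refine absurd (isConj_iff.2 ⟨ρ ^ m, ?_⟩) hne
    have h0 : ρ ^ (2 * m) * ρ = 1 := by rw [← pow_succ, ← hm, pow_orderOf_eq_one]
    rw [hρi, eq_inv_of_mul_eq_one_left h0, hρ, mul_inv_rev, hUi, hVi, mul_assoc, hU, mul_one]

/-- An odd product: some conjugate of `X` by a power of `X * (I * X * I)` commutes with `I`. -/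
theorem dihedral_fixed {X I : G} (hX : X * X = 1) (hI : I * I = 1)
    (hodd : Odd (orderOf (X * (I * X * I)))) :
    ∃ k : ℕ, Commute ((X * (I * X * I)) ^ k * X * ((X * (I * X * I)) ^ k)⁻¹) I := by
  obtain ⟨j, hj⟩ := hodd
  set N := X * (I * X * I) with hN
  have hXi : X⁻¹ = X := inv_eq_of_mul_eq_one_right hX
  have hIi : I⁻¹ = I := inv_eq_of_mul_eq_one_right hI
  have hNρ : N = X * I * (X * I) := by rw [hN]; simp only [mul_assoc]
  have hXN : X * N * X⁻¹ = N⁻¹ := by
    rw [hN, mul_inv_rev, mul_inv_rev, mul_inv_rev, hXi, hIi, ← mul_assoc X X (I * X * I), hX,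
      one_mul]
    simp only [mul_assoc]
  have hXk : ∀ k : ℕ, X * (N ^ k)⁻¹ = N ^ k * X := fun k => by
    calc X * (N ^ k)⁻¹ = (X * N ^ k * X⁻¹)⁻¹ * X := by group
      _ = N ^ k * X := by rw [← conj_pow, hXN, inv_pow, inv_inv]
  refine ⟨j * (j + 1), ?_⟩
  set k := j * (j + 1) with hk
  set a := N ^ k * X * (N ^ k)⁻¹ with ha
  have ha2 : a * a = 1 := by
    rw [ha, show N ^ k * X * (N ^ k)⁻¹ * (N ^ k * X * (N ^ k)⁻¹) = N ^ k * (X * X) * (N ^ k)⁻¹ by
      group, hX, mul_one, mul_inv_cancel]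
  have haI : a * I * (a * I) = 1 := by
    have : a * I = (X * I) ^ (4 * k + 1) := by
      rw [ha, mul_assoc (N ^ k) X, hXk, ← mul_assoc, ← pow_add, mul_assoc, pow_succ, hNρ,
        show 4 * k = 2 * (k + k) by ring, pow_mul, sq]
    rw [this, ← pow_add, ← two_mul, pow_mul, sq, ← hNρ, hk,
      show 4 * (j * (j + 1)) + 1 = (2 * j + 1) * (2 * j + 1) by ring, pow_mul, ← hj,
      pow_orderOf_eq_one, one_pow]
  show a * I = I * a
  rw [eq_inv_of_mul_eq_one_left haI, mul_inv_rev, inv_eq_of_mul_eq_one_right ha2, hIi]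

/-- With cyclic Sylow 2-subgroups the odd elements are an odd normal subgroup. -/
theorem exists_normal_odd (P : Sylow 2 G) (hP : IsCyclic P) :
    ∃ M : Subgroup G, ¬ 2 ∣ Nat.card M ∧ ∀ g : G, g ∈ M ↔ Odd (orderOf g) := by
  haveI : Fact (Nat.Prime 2) := ⟨Nat.prime_two⟩
  by_cases h2 : 2 ∣ Nat.card G
  · have hmin : (Nat.card G).minFac = 2 := Nat.minFac_eq_two_iff _ |>.2 h2
    set φ := MonoidHom.transferSylow P (hP.normalizer_le_centralizer hmin) with hφ
    have hc := IsCyclic.isComplement' hmin hP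
    have hodd : ¬ 2 ∣ Nat.card φ.ker := by
      rw [← hc.index_eq_card]
      exact P.not_dvd_index
    refine ⟨φ.ker, hodd, fun g => ⟨fun hg => ?_, fun hg => ?_⟩⟩
    · have h1 := orderOf_dvd_natCard φ.ker hg
      exact Nat.odd_iff.2 (Nat.two_dvd_ne_zero.1 fun h => hodd (h.trans h1))
    · rw [MonoidHom.mem_ker]
      obtain ⟨n, hn⟩ := IsPGroup.iff_orderOf.1 P.isPGroup' (φ g)
      have h1 := orderOf_map_dvd φ g
      rw [hn] at h1
      rcases n.eq_zero_or_pos with rfl | hn0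
      · exact orderOf_eq_one_iff.1 (by simpa using hn)
      · exact absurd ((dvd_pow_self 2 hn0.ne').trans h1) hg.not_two_dvd_nat
  · refine ⟨⊤, by rwa [card_top], fun g => ⟨fun _ => ?_, fun _ => mem_top g⟩⟩
    exact Nat.odd_iff.2 (Nat.two_dvd_ne_zero.1 fun h => h2 (h.trans (orderOf_dvd_natCard g)))

end Group

end Cfsg.Agent.TwoCore
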