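/-
The covering of the cosets off the line (notes/two_core_structure.md, "Covering").

* `Loc.act_eq_act` : the action on `K / H` identifies `x` and `x * z` only
* `Loc.exists_lift` : a square root of `z` acting on the line as an involution with one fixed point
  is a conjugate of `u * a` under `C(u)`, up to `z`
* `Loc.exists_pure_fix` : every coset off the line is fixed by such a conjugate
* `Loc.lineHyp_pure` : `u * a` satisfies the hypotheses of the line lemma
-/
import Cfsg.Agent.Lib.TwoCore.LineCent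
import Cfsg.Agent.Lib.TwoCore.CoverPerm

set_option autoImplicit false
set_option linter.unusedSectionVars false
set_option linter.style.haveILetI false

namespace Cfsg.Agent.TwoCore

open Subgroup Involution MulAction
open scoped Pointwise

universe u

variable {K : Type u} [Group K]

/-- The line lemma, reduced to its count. -/
def FiveFix (H : Subgroup K) (z : K) : Prop :=
  ∀ x : K, LineHyp H z x → Nat.card {q : K ⧸ H // x • q = q} = 5

/-- An involution of the line of `u` with the one fixed point `β`. -/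
structure OneFix (H : Subgroup K) (u : K) (β : K ⧸ H) (x : K) : Prop where
  maps : ∀ q : K ⧸ H, u • q = q → u • (x • q) = x • q
  invol : ∀ q : K ⧸ H, u • q = q → x • (x • q) = q
  fix : x • β = β
  only : ∀ q : K ⧸ H, u • q = q → x • q = q → q = β

theorem fixesTwo_of_smul {H : Subgroup K} {x : K} {q : K ⧸ H} (hx : x ∈ H) (hq : q ≠ base H)
    (h : x • q = q) : FixesTwo H x := by
  induction q using QuotientGroup.induction_on with | _ g =>
  refine ⟨hx, g, fun hg => hq ?_, ?_⟩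
  · rw [QuotientGroup.eq, mul_one]
    exact H.inv_mem hg
  · rw [Quotient.smul_mk, smul_eq_mul, QuotientGroup.eq] at h
    have := H.inv_mem h
    rwa [mul_inv_rev, inv_inv, ← mul_assoc] at this

theorem conj_u_mul {u a c : K} (hc : Commute c u) : c * (u * a) * c⁻¹ = u * (c * a * c⁻¹) := by
  rw [← mul_assoc c u a, hc.eq]
  group

variable [Finite K] {T : Sylow 2 K} {H : Subgroup K} {z v : K}

/-- The action on the cosets. -/
local notation "φ" => MulAction.toPermHom K (K ⧸ H)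

namespace Loc

variable (L : Loc T H z v)
include L

theorem act_z : φ z = 1 := Equiv.ext fun q => L.z_smul q

theorem z_mul_self : z * z = 1 := mul_self L.z2

theorem act_eq_one (hN : H.normalCore = zpowers z) {k : K} (hk : φ k = 1) : k = 1 ∨ k = z := by
  have h : k ∈ H.normalCore := by rw [normalCore_eq_ker, MonoidHom.mem_ker]; exact hk
  rw [hN] at h
  obtain ⟨i, rfl⟩ := mem_zpowers_iff.1 h
  rw [← zpow_mod_orderOf, L.z2, Nat.cast_ofNat]
  rcases Int.emod_two_eq_zero_or_one i with h1 | h1 <;> rw [h1]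
  · exact Or.inl (zpow_zero z)
  · exact Or.inr (zpow_one z)

theorem act_eq_act (hN : H.normalCore = zpowers z) {x y : K} (h : φ x = φ y) :
    y = x ∨ y = x * z := by
  rcases L.act_eq_one hN (k := x⁻¹ * y) (by rw [map_mul, map_inv, h, inv_mul_cancel]) with h1 | h1
  · exact Or.inl (inv_mul_eq_one.1 h1).symm
  · exact Or.inr (inv_mul_eq_iff_eq_mul.1 h1)

theorem act_mul_z (x : K) : φ (x * z) = φ x := by rw [map_mul, L.act_z, mul_one]

theorem inv_eq_mul_z {x : K} (h : x * x = z) : x⁻¹ = x * z :=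
  inv_eq_of_mul_eq_one_right (by rw [← mul_assoc, h, L.z_mul_self])

theorem act_mul_self {x : K} (h : x * x = 1 ∨ x * x = z) : φ x * φ x = 1 := by
  rcases h with h | h <;> rw [← map_mul, h]
  · exact map_one _
  · exact L.act_z

theorem smul_smul_self {x : K} (h : x * x = 1 ∨ x * x = z) (q : K ⧸ H) : x • (x • q) = q :=
  congrArg (fun σ : Equiv.Perm (K ⧸ H) => σ q) (L.act_mul_self h)

/-- An element squaring to `z` is no involution. -/
theorem sq_ne_one {x : K} (h : x * x = z) : x * x ≠ 1 := by rw [h]; exact ne_one L.z2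

variable {u w a b : K} (hN : H.normalCore = zpowers z) (D : LineData H z u w a b)
include D

theorem u_base : u • base H = base H := smul_base_eq_iff.2 D.u_mem

theorem a_base : a • base H = base H := smul_base_eq_iff.2 D.good_a.2.2

theorem conj_good {c : K} {d : K} (hd : Good H z d) :
    orderOf (c * d * c⁻¹) = 2 ∧ c * d * c⁻¹ ≠ z := by
  refine ⟨by rw [orderOf_conj]; exact hd.1, fun e => hd.2.1 ?_⟩
  rw [show d = c⁻¹ * (c * d * c⁻¹) * c by group, e, ← (L.z_comm c⁻¹).eq, inv_mul_cancel_right]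

theorem conj_a_commute {c : K} (hc : Commute c u) : Commute (c * a * c⁻¹) u :=
  (hc.mul_left D.au).mul_left hc.inv_left

/-- An involution of `C(u)` fixing a point of the line fixes only that one. -/
theorem oneFix_of_invol {x : K} {β : K ⧸ H} (hx : orderOf x = 2) (hxz : x ≠ z) (hxu : Commute x u)
    (hβ : x • β = β) : OneFix H u β x where
  maps q hq := by rw [← mul_smul, ← hxu.eq, mul_smul, hq]
  invol q _ := L.smul_smul_self (Or.inl (mul_self hx)) q
  fix := hβ
  only q _ hq := L.eq_of_fix hx hxz hq hβ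

theorem ncard_line : ({q : K ⧸ H | u • q = q} : Set (K ⧸ H)).ncard = 5 := by
  rw [← Nat.card_coe_set_eq]
  exact D.card_fix

theorem ncard_line_diff {β : K ⧸ H} (hβ : u • β = β) :
    ({q : K ⧸ H | u • q = q} \ {β} : Set (K ⧸ H)).ncard = 4 := by
  rw [Set.ncard_sdiff_singleton_of_mem (by exact hβ), L.ncard_line D]

theorem exists_line_ne {β : K ⧸ H} (hβ : u • β = β) : ∃ r : K ⧸ H, u • r = r ∧ r ≠ β := by
  obtain ⟨r, hr⟩ : ({q : K ⧸ H | u • q = q} \ {β} : Set (K ⧸ H)).Nonempty :=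
    Set.nonempty_of_ncard_ne_zero (by rw [L.ncard_line_diff D hβ]; omega)
  exact ⟨r, hr.1, hr.2⟩

/-- Two of these agreeing at one further point agree on the line. -/
theorem oneFix_eq {x y : K} {β p : K ⧸ H} (hx : OneFix H u β x) (hy : OneFix H u β y)
    (hβ : u • β = β) (hp : u • p = p) (hpβ : p ≠ β) (h : x • p = y • p) {q : K ⧸ H}
    (hq : u • q = q) : x • q = y • q := by
  by_cases hqβ : q = β
  · rw [hqβ, hx.fix, hy.fix]
  have key : ∀ {g : K}, OneFix H u β g → ∀ q ∈ ({q : K ⧸ H | u • q = q} \ {β} : Set (K ⧸ H)),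
      g • q ∈ ({q : K ⧸ H | u • q = q} \ {β} : Set (K ⧸ H)) ∧ g • q ≠ q := by
    intro g hg q hq
    refine ⟨⟨hg.maps q hq.1, fun e => hq.2 ?_⟩, fun e => hq.2 (hg.only q hq.1 e)⟩
    rw [Set.mem_singleton_iff] at e ⊢
    exact (MulAction.injective g) (e.trans hg.fix.symm)
  exact eq_on_four (L.ncard_line_diff D hβ) (fun q hq => (key hx q hq).1)
    (fun q hq => (key hy q hq).1) (fun q hq => hx.invol q hq.1) (fun q hq => hy.invol q hq.1)
    (fun q hq => (key hx q hq).2) (fun q hq => (key hy q hq).2) ⟨hp, hpβ⟩ h ⟨hq, hqβ⟩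

/-- Conjugates of `a` under `C(u)` move three prescribed points as prescribed. -/
theorem exists_conj_a {β r s : K ⧸ H} (hβ : u • β = β) (hr : u • r = r) (hs : u • s = s)
    (hrβ : r ≠ β) (hsβ : s ≠ β) (hrs : r ≠ s) :
    ∃ c : K, Commute c u ∧ (c * a * c⁻¹) • β = β ∧ (c * a * c⁻¹) • r = s := by
  obtain ⟨c₀, hc₀, rfl⟩ := D.trans β hβ
  have hline : ∀ {g : K}, Commute g u → ∀ {q : K ⧸ H}, u • q = q → u • (g • q) = g • q :=
    fun {g} hg {q} hq => by rw [← mul_smul, ← hg.eq, mul_smul, hq]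
  obtain ⟨r', rfl⟩ : ∃ r', c₀ • r' = r := ⟨c₀⁻¹ • r, smul_inv_smul c₀ r⟩
  obtain ⟨s', rfl⟩ : ∃ s', c₀ • s' = s := ⟨c₀⁻¹ • s, smul_inv_smul c₀ s⟩
  have hr' : u • r' = r' := by simpa using hline hc₀.inv_left hr
  have hs' : u • s' = s' := by simpa using hline hc₀.inv_left hs
  have hrb : r' ≠ base H := fun e => hrβ (by rw [e])
  have hsb : s' ≠ base H := fun e => hsβ (by rw [e])
  have hrs' : r' ≠ s' := fun e => hrs (by rw [e])
  have haa : ∀ q : K ⧸ H, a • (a • q) = q := L.smul_smul_self (Or.inl (mul_self D.good_a.1))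
  set x := a • r' with hx
  have hxu : u • x = x := hline D.au hr'
  have hxr : x ≠ r' := fun e => hrb (D.a_fix r' hr' e)
  have hxb : x ≠ base H := fun e => hrb
    (MulAction.injective a (e.trans (L.a_base D).symm))
  by_cases hxs : x = s'
  · refine ⟨c₀, hc₀, ?_, ?_⟩
    · rw [mul_smul, mul_smul, inv_smul_smul, L.a_base D]
    · rw [mul_smul, mul_smul, inv_smul_smul, ← hx, hxs]
  have hqu : u • (a • s') = a • s' := hline D.au hs'
  have hqs : a • s' ≠ s' := fun e => hsb (D.a_fix s' hs' e)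
  have hqb : a • s' ≠ base H := fun e => hsb
    (MulAction.injective a (e.trans (L.a_base D).symm))
  have hqx : x ≠ a • s' := fun e => hrs' (MulAction.injective a e)
  have hqr : a • s' ≠ r' := fun e => hxs (by rw [hx, ← e, haa])
  obtain ⟨c₁, -, hc₁, hc₁x, -, -, hrest⟩ := D.three x s' (a • s') hxu hs' hqu hxs hqs.symm hqx
  have h1 : c₁ • base H = base H :=
    hrest _ (L.u_base D) hxb.symm hsb.symm hqb.symm
  have h2 : c₁ • r' = r' := hrest r' hr' hxr.symm hrs' hqr.symm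
  refine ⟨c₀ * c₁, hc₀.mul_left hc₁, ?_, ?_⟩
  · simp only [mul_inv_rev, mul_smul, inv_smul_smul, inv_smul_eq_iff.2 h1.symm, L.a_base D, h1]
  · simp only [mul_inv_rev, mul_smul, inv_smul_smul, inv_smul_eq_iff.2 h2.symm, ← hx, hc₁x]

/-- An involution of the line with one fixed point is the action of a conjugate of `a`. -/
theorem exists_conj_eq {x : K} {β : K ⧸ H} (hx : OneFix H u β x) (hβ : u • β = β) :
    ∃ c : K, Commute c u ∧ (c * a * c⁻¹) • β = β ∧
      ∀ q : K ⧸ H, u • q = q → x • q = (c * a * c⁻¹) • q := by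
  obtain ⟨r, hr, hrβ⟩ := L.exists_line_ne D hβ
  obtain ⟨c, hc, hcβ, hcr⟩ := L.exists_conj_a D hβ hr (hx.maps r hr) hrβ
    (fun e => hrβ (MulAction.injective x (e.trans hx.fix.symm)))
    (fun e => hrβ (hx.only r hr e.symm))
  obtain ⟨h1, h2⟩ := L.conj_good D (c := c) D.good_a
  exact ⟨c, hc, hcβ, fun q hq => L.oneFix_eq D hx
    (L.oneFix_of_invol D h1 h2 (L.conj_a_commute D hc) hcβ) hβ hr hrβ hcr.symm hq⟩

/-- A square root of `z` acting with one fixed point on the line comes from `u * a`. -/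
theorem exists_lift {i : K} {β : K ⧸ H} (hi : i * i = z) (hiu : Normalizes u i)
    (hx : OneFix H u β i) (hβ : u • β = β) :
    ∃ c : K, Commute c u ∧ φ i = φ (c * (u * a) * c⁻¹) := by
  obtain ⟨c, hc, -, hact⟩ := L.exists_conj_eq D hx hβ
  have hi' : c⁻¹ * i * c * (c⁻¹ * i * c) = z := by
    rw [show c⁻¹ * i * c * (c⁻¹ * i * c) = c⁻¹ * (i * i) * c by group, hi, ← (L.z_comm c⁻¹).eq,
      inv_mul_cancel_right]
  have hnorm : Normalizes u (c⁻¹ * i * c) :=
    (lineStab u).mul_mem ((lineStab u).mul_mem (mem_lineStab_of_commute hc.inv_left) hiu)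
      (mem_lineStab_of_commute hc)
  obtain ⟨k, -, hk, -, hkk⟩ := D.double _ hi' hnorm fun q hq => by
    rw [mul_smul, mul_smul, hact (c • q) (by rw [← mul_smul, ← hc.eq, mul_smul, hq]), mul_smul,
      mul_smul, inv_smul_smul, inv_smul_smul]
  refine ⟨c * k, hc.mul_left hk, ?_⟩
  rcases hkk with e | e
  · rw [show c * k * (u * a) * (c * k)⁻¹ = c * (k * (u * a) * k⁻¹) * c⁻¹ by group, e]
    congr 1
    group
  · rw [show c * k * (u * a) * (c * k)⁻¹ = c * (k * (u * a) * k⁻¹) * c⁻¹ by group, e]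
    rw [show c * (c⁻¹ * i * c * z) * c⁻¹ = i * c * (z * c⁻¹) by group, (L.z_comm c⁻¹).eq,
      show i * c * (c⁻¹ * z) = i * z by group, L.act_mul_z]

include hN in
/-- An element of `C(u)` trivial on the line and inverted there by an involution acts with odd
order. -/
theorem odd_of_inverted {n x : K} (hnu : Commute n u) (hfix : FixesLine H u n)
    (hxu : Commute x u) (hinv : x * n * x⁻¹ = n⁻¹) : Odd (orderOf (φ n)) := by
  obtain ⟨r, hr, hrβ⟩ := L.exists_line_ne D (L.u_base D)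
  obtain ⟨e, m, hm, hord⟩ := Nat.exists_eq_two_pow_mul_odd (orderOf_pos (φ n)).ne'
  have h1 : φ (n ^ m) ^ 2 ^ e = 1 := by
    rw [map_pow, ← pow_mul, mul_comm, ← hord, pow_orderOf_eq_one]
  have h2 : (n ^ m) ^ 2 ^ (e + 1) = 1 := by
    rw [pow_succ, pow_mul]
    rcases L.act_eq_one hN (by rw [map_pow]; exact h1) with h | h <;> rw [h]
    · exact one_pow 2
    · rw [sq]; exact L.z_mul_self
  have hpow : ∀ q : K ⧸ H, u • q = q → n ^ m • q = q := fun q hq => by
    have := Equiv.Perm.pow_apply_eq_self_of_apply_eq_self (show (φ n) q = q from hfix q hq) m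
    rwa [← map_pow] at this
  have h3 : φ n ^ m = 1 := by
    rw [← map_pow]
    rcases L.inverted_mem D.sq_u hxu (hnu.pow_left m) (inverts_pow hinv m) h2 hrβ.symm
      (L.u_base D) hr (hpow _ (L.u_base D)) (hpow r hr) with h | h <;> rw [h]
    · exact map_one _
    · exact L.act_z
  exact Odd.of_dvd_nat hm (orderOf_dvd_of_pow_eq_one h3)

omit D in
/-- The centraliser of `v` up to `z` in `H`. -/
theorem exists_vFix : ∃ Γ : Subgroup K, ∀ h : K,
    h ∈ Γ ↔ h ∈ H ∧ (h * v * h⁻¹ = v ∨ h * v * h⁻¹ = v * z) := by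
  have hz : ∀ x : K, x * (v * z) * x⁻¹ = x * v * x⁻¹ * z := fun x => by
    rw [show x * (v * z) * x⁻¹ = x * v * (z * x⁻¹) by group, (L.z_comm x⁻¹).eq, ← mul_assoc]
  refine ⟨{ carrier := {h | h ∈ H ∧ (h * v * h⁻¹ = v ∨ h * v * h⁻¹ = v * z)}
            one_mem' := ⟨H.one_mem, Or.inl (by group)⟩
            mul_mem' := ?_
            inv_mem' := ?_ }, fun h => Iff.rfl⟩
  · rintro x y ⟨hx, hx'⟩ ⟨hy, hy'⟩
    refine ⟨H.mul_mem hx hy, ?_⟩
    rw [show x * y * v * (x * y)⁻¹ = x * (y * v * y⁻¹) * x⁻¹ by group]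
    rcases hy' with hy' | hy' <;> rcases hx' with hx' | hx' <;> rw [hy']
    · exact Or.inl hx'
    · exact Or.inr hx'
    · rw [hz, hx']; exact Or.inr rfl
    · rw [hz, hx', mul_assoc, L.z_mul_self, mul_one]; exact Or.inl rfl
  · rintro x ⟨hx, hx'⟩
    refine ⟨H.inv_mem hx, ?_⟩
    have h1 : v = x⁻¹ * (x * v * x⁻¹) * x⁻¹⁻¹ := by group
    rcases hx' with hx' | hx'
    · left; rw [hx'] at h1; exact h1.symm
    · right
      rw [hx', hz] at h1
      calc x⁻¹ * v * x⁻¹⁻¹ = x⁻¹ * v * x⁻¹⁻¹ * z * z := by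
            rw [mul_assoc _ z, L.z_mul_self, mul_one]
        _ = v * z := by rw [← h1]

omit D in
/-- Five fixed points for a square root of `z` inverted by a marked involution. -/
theorem card_fix_of_inverted (hline : FiveFix H z) {i g : K} {β : K ⧸ H} (hi : i * i = z)
    (hinv : g * v * g⁻¹ * i * (g * v * g⁻¹)⁻¹ = i⁻¹) (hiγ : i • g • base H = g • base H)
    (hiβ : i • β = β) (hne : β ≠ g • base H) : Nat.card {q : K ⧸ H // i • q = q} = 5 := by
  set i₀ := g⁻¹ * i * g with hi₀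
  have hi₀H : i₀ ∈ H := smul_base_eq_iff.1 (by rw [hi₀, mul_smul, mul_smul, hiγ, inv_smul_smul])
  have hsq : i₀ * i₀ = z := by
    rw [hi₀, show g⁻¹ * i * g * (g⁻¹ * i * g) = g⁻¹ * (i * i) * g by group, hi,
      ← (L.z_comm g⁻¹).eq, inv_mul_cancel_right]
  have hv : v * i₀ * v⁻¹ = i₀⁻¹ := by
    rw [hi₀, show (g⁻¹ * i * g)⁻¹ = g⁻¹ * i⁻¹ * g by group, ← hinv]
    group
  obtain ⟨Γ, hΓ⟩ := L.exists_vFix
  have hTΓ : (T : Subgroup K) ≤ Γ := fun s hs => (hΓ s).2 ⟨L.le hs, by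
    rcases L.mark s hs with h | h
    · exact Or.inl (mul_inv_eq_one.1 h)
    · right
      rw [mul_inv_eq_iff_eq_mul.1 h, (L.z_comm v).eq]⟩
  have hi₀Γ : i₀ ∈ Γ := (hΓ _).2 ⟨hi₀H, Or.inr (by
    have h1 : v * i₀ = i₀⁻¹ * v := mul_inv_eq_iff_eq_mul.1 hv
    have h2 : i₀ * v = v * i₀⁻¹ := by
      calc i₀ * v = v * (v * i₀) * v := by rw [← mul_assoc v v, mul_self L.v2, one_mul]
        _ = v * i₀⁻¹ := by rw [h1, mul_assoc, mul_assoc, mul_self L.v2, mul_one]
    rw [h2, mul_assoc, ← mul_inv_rev, hsq, inv_eq L.z2])⟩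
  obtain ⟨j, -, hj⟩ := (Nat.dvd_prime_pow Nat.prime_two).1
    (show orderOf i₀ ∣ 2 ^ 2 from orderOf_dvd_iff_pow_eq_one.2 (by
      rw [show (2 : ℕ) ^ 2 = 2 + 2 from rfl, pow_add, sq, hsq, L.z_mul_self]))
  obtain ⟨h, hh, hhT⟩ := exists_conj_sylow_mem T hTΓ (P := zpowers i₀)
    (IsPGroup.of_card (n := j) (by rw [Nat.card_zpowers, hj])) (zpowers_le.2 hi₀Γ)
  obtain ⟨hhH, hhv⟩ := (hΓ h).1 hh
  set i₁ := h * i₀ * h⁻¹ with hi₁
  have hsq₁ : i₁ * i₁ = z := by
    rw [hi₁, show h * i₀ * h⁻¹ * (h * i₀ * h⁻¹) = h * (i₀ * i₀) * h⁻¹ by group, hsq,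
      ← (L.z_comm h).eq, mul_inv_cancel_right]
  have hinv₁ : v * i₁ * v⁻¹ = i₁⁻¹ := by
    have h3 : h * v * h⁻¹ * i₁ * (h * v * h⁻¹)⁻¹ = i₁⁻¹ := by
      rw [hi₁, show (h * i₀ * h⁻¹)⁻¹ = h * i₀⁻¹ * h⁻¹ by group, ← hv]
      group
    rcases hhv with e | e <;> rw [e] at h3
    · exact h3
    · rwa [show v * z * i₁ * (v * z)⁻¹ = v * (z * i₁ * z⁻¹) * v⁻¹ by group, (L.z_comm i₁).eq,
        mul_inv_cancel_right] at h3
  have hfix : FixesTwo H i₁ := by
    refine fixesTwo_of_smul (q := h • g⁻¹ • β) (H.mul_mem (H.mul_mem hhH hi₀H) (H.inv_mem hhH))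
      (fun e => hne ?_) ?_
    · rw [← smul_base_eq_iff.2 hhH] at e
      have e' := MulAction.injective h e
      rw [inv_smul_eq_iff] at e'
      exact e'
    · rw [hi₁, hi₀]
      simp only [mul_smul, inv_smul_smul, smul_inv_smul, hiβ]
  rw [← hline i₁ (L.lineHyp_of_v (hhT _ (mem_zpowers _)) hsq₁ hinv₁ hfix)]
  refine Nat.card_congr ((MulAction.toPerm (h * g⁻¹)).subtypeEquiv fun q => ?_)
  show i • q = q ↔ i₁ • ((h * g⁻¹) • q) = (h * g⁻¹) • q
  rw [hi₁, hi₀, ← mul_smul, show h * (g⁻¹ * i * g) * h⁻¹ * (h * g⁻¹) = h * g⁻¹ * i by group,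
    mul_smul (h * g⁻¹) i, (MulAction.injective (h * g⁻¹)).eq_iff]

include hN in
/-- Every coset off the line is fixed by a conjugate of `u * a` under `C(u)`. -/
theorem exists_pure_fix (hline : FiveFix H z) {γ : K ⧸ H} (hγ : u • γ ≠ γ) :
    ∃ c : K, Commute c u ∧ (c * (u * a) * c⁻¹) • γ = γ := by
  obtain ⟨g, rfl⟩ : ∃ g : K, g • base H = γ := by
    induction γ using QuotientGroup.induction_on with | _ g =>
    exact ⟨g, by rw [Quotient.smul_mk, smul_eq_mul, mul_one]⟩
  obtain ⟨ht, htz⟩ := L.conj_good D (c := g) L.good_v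
  obtain ⟨t, ht'⟩ : ∃ t, t = g * v * g⁻¹ := ⟨_, rfl⟩
  rw [← ht'] at ht htz
  have htγ : t • g • base H = g • base H := by
    rw [ht', mul_smul, mul_smul, inv_smul_smul, smul_base_eq_iff.2 L.v_mem_H]
  set ψ := (φ).rangeRestrict with hψ
  have hψφ : ∀ {x y : K}, ψ x = ψ y → φ x = φ y := fun h => congrArg Subtype.val h
  have hUU : ψ u * ψ u = 1 := Subtype.ext (L.act_mul_self (Or.inr D.sq_u))
  have hVV : ψ t * ψ t = 1 := Subtype.ext (L.act_mul_self (Or.inl (mul_self ht)))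
  have hconj : ¬ IsConj (ψ u) (ψ t) := by
    intro hc
    obtain ⟨c, hc⟩ := isConj_iff.1 hc
    obtain ⟨c₀, rfl⟩ := (φ).rangeRestrict_surjective c
    rw [← map_inv, ← map_mul, ← map_mul] at hc
    refine ne_one L.z2 ?_
    rw [← mul_self ht]
    rcases L.act_eq_act hN (hψφ hc) with e | e <;> rw [e]
    · rw [show c₀ * u * c₀⁻¹ * (c₀ * u * c₀⁻¹) = c₀ * (u * u) * c₀⁻¹ by group, D.sq_u,
        ← (L.z_comm c₀).eq, mul_inv_cancel_right]
    · rw [show c₀ * u * c₀⁻¹ * z * (c₀ * u * c₀⁻¹ * z) = c₀ * u * c₀⁻¹ * (z * (c₀ * u * c₀⁻¹)) * z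
          by group, (L.z_comm (c₀ * u * c₀⁻¹)).eq,
        show c₀ * u * c₀⁻¹ * (c₀ * u * c₀⁻¹ * z) * z = c₀ * (u * u) * c₀⁻¹ * (z * z) by group,
        L.z_mul_self, mul_one, D.sq_u, ← (L.z_comm c₀).eq, mul_inv_cancel_right]
  obtain ⟨m, hm1, hm2, hmU, hmV, hmodd⟩ := dihedral_central hUU hVV hconj
  rw [← map_mul, ← map_pow] at hm1 hm2 hmU hmV hmodd
  set i := (u * t) ^ m with hi
  have hIU : φ (i * u) = φ (u * i) := hψφ (by rw [map_mul, map_mul]; exact hmU.eq)
  have hIV : φ (i * t) = φ (t * i) := hψφ (by rw [map_mul, map_mul]; exact hmV.eq)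
  have hiN : Normalizes u i := by
    rcases L.act_eq_act hN hIU.symm with e | e
    · exact Or.inl (mul_inv_eq_iff_eq_mul.2 e)
    · refine Or.inr (mul_inv_eq_iff_eq_mul.2 ?_)
      rw [e, mul_assoc u i z, ← (L.z_comm i).eq, ← mul_assoc, ← L.inv_eq_mul_z D.sq_u]
  have hiγ : i • g • base H = g • base H := by
    refine L.fix_of_conj ht htz htγ ?_
    rcases L.act_eq_act hN hIV.symm with e | e
    · exact Or.inl (mul_inv_eq_iff_eq_mul.2 e)
    · refine Or.inr (mul_inv_eq_iff_eq_mul.2 ?_)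
      rw [e, mul_assoc t i z, ← (L.z_comm i).eq, ← mul_assoc]
  have hii : i * i = 1 ∨ i * i = z := L.act_eq_one hN (by
    have := congrArg Subtype.val hm2
    rwa [← map_mul] at this)
  have hiline : ∀ q : K ⧸ H, u • q = q → u • (i • q) = i • q := fun q hq => smul_mem_line hiN hq
  have hiinv : ∀ q : K ⧸ H, i • (i • q) = q := L.smul_smul_self hii
  obtain ⟨β, hβ, hiβ⟩ : ∃ β : K ⧸ H, u • β = β ∧ i • β = β := by
    classical
    letI := Fintype.ofFinite (K ⧸ H)
    haveI : Fact (Nat.Prime 2) := ⟨Nat.prime_two⟩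
    set σ : Equiv.Perm {q : K ⧸ H // u • q = q} :=
      { toFun := fun q => ⟨i • (q : K ⧸ H), hiline q q.2⟩
        invFun := fun q => ⟨i • (q : K ⧸ H), hiline q q.2⟩
        left_inv := fun q => Subtype.ext (hiinv q)
        right_inv := fun q => Subtype.ext (hiinv q) } with hσ
    obtain ⟨q, hq⟩ := Equiv.Perm.exists_fixed_point_of_prime (p := 2) (n := 1) (σ := σ)
      (by rw [← Nat.card_eq_fintype_card, D.card_fix]; decide)
      (Equiv.ext fun q => by rw [pow_one, sq]; exact Subtype.ext (hiinv q))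
    exact ⟨q, q.2, congrArg Subtype.val hq⟩
  have hβγ : β ≠ g • base H := fun e => hγ (e ▸ hβ)
  have hi2 : i * i = z := hii.resolve_left fun h => hm1 (Subtype.ext (by
    by_cases h1 : i = 1
    · rw [h1]; exact map_one φ
    by_cases h2 : i = z
    · rw [h2]; exact L.act_z
    exact absurd (L.eq_of_fix (orderOf_of_sq h h1) h2 hiβ hiγ) hβγ))
  by_cases hone : ∀ q : K ⧸ H, u • q = q → i • q = q → q = β
  · obtain ⟨c, hc, hci⟩ :=
      L.exists_lift D hi2 hiN ⟨hiline, fun q _ => hiinv q, hiβ, hone⟩ hβ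
    refine ⟨c, hc, ?_⟩
    show φ (c * (u * a) * c⁻¹) (g • base H) = g • base H
    rw [← hci]
    exact hiγ
  by_contra hno
  push Not at hone
  obtain ⟨β₂, hβ₂, hiβ₂, hne⟩ := hone
  by_cases hall : ∀ q : K ⧸ H, u • q = q → i • q = q
  · rcases hiN with e | e
    · rcases D.root i (commute_of_conj_eq e) hall hi2 with e1 | e1 <;> rw [e1] at hiγ
      · exact hγ hiγ
      · exact hγ (inv_smul_eq_iff.1 hiγ).symm
    · refine hγ (D.inv_root i hi2 ?_ hall _ hiγ)
      -- `i` inverts `u`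
      exact e
  push Not at hall
  obtain ⟨r, hr, hir⟩ := hall
  -- the exponent is even
  have hmev : ¬ Odd m := by
    intro hodd
    obtain ⟨c, hci, hcu⟩ := hmodd hodd
    obtain ⟨c₀, rfl⟩ := (φ).rangeRestrict_surjective c
    have h1 : φ (c₀ * u * c₀⁻¹) = φ (i * t) := hψφ (by simp only [map_mul, map_inv]; exact hcu)
    have h2 : φ (c₀ * i) = φ (i * c₀) := hψφ (by rw [map_mul, map_mul]; exact hci.eq)
    have key : ∀ q : K ⧸ H, u • q = q → i • q = q → c₀ • q = g • base H := by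
      intro q hq hiq
      refine L.eq_of_fix ht htz ?_ htγ
      have h3 : (i * t) • (c₀ • q) = c₀ • q := by
        show φ (i * t) (c₀ • q) = c₀ • q
        rw [← h1]
        show (c₀ * u * c₀⁻¹) • (c₀ • q) = c₀ • q
        rw [mul_smul, mul_smul, inv_smul_smul, hq]
      have h4 : i • (c₀ • q) = c₀ • q := by
        have : φ (c₀ * i) q = φ (i * c₀) q := by rw [h2]
        change (c₀ * i) • q = (i * c₀) • q at this
        rw [mul_smul, mul_smul, hiq] at this
        exact this.symm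
      rw [mul_smul] at h3
      exact MulAction.injective i (h3.trans h4.symm)
    exact hne (MulAction.injective c₀ ((key β₂ hβ₂ hiβ₂).trans (key β hβ hiβ).symm))
  -- so `t` inverts `i`
  have htinv : t * i * t⁻¹ = i⁻¹ := by
    have h1 : t * (u * t) * t⁻¹ = z * (u * t)⁻¹ := by
      rw [mul_inv_rev, inv_eq ht, L.inv_eq_mul_z D.sq_u, ← mul_assoc z t, (L.z_comm t).eq,
        mul_assoc t z (u * z), ← mul_assoc z u z, (L.z_comm u).eq, mul_assoc u z z, L.z_mul_self,
        mul_one, mul_assoc t (u * t) t, mul_assoc u t t, mul_self ht, mul_one]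
    obtain ⟨j, hj⟩ := Nat.not_odd_iff_even.1 hmev
    rw [hi, ← conj_pow, h1, (L.z_comm _).mul_pow, inv_pow, hj, pow_add z j j, ← (L.z_comm _).mul_pow,
      L.z_mul_self, one_pow, one_mul]
  have h5 := L.card_fix_of_inverted hline hi2 (g := g) (by rw [← ht']; exact htinv) hiγ hiβ hβγ
  -- a conjugate of `a` commuting with `i` on the line
  have hrβ : r ≠ β := fun e => hir (by rw [e, hiβ])
  obtain ⟨c, hc, hxβ, hxr⟩ := L.exists_conj_a D hβ hr (hiline r hr) hrβ
    (fun e => hrβ (MulAction.injective i (e.trans hiβ.symm))) (fun e => hir e.symm)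
  obtain ⟨hx2, hxz⟩ := L.conj_good D (c := c) D.good_a
  obtain ⟨x, hx⟩ : ∃ x, x = c * a * c⁻¹ := ⟨_, rfl⟩
  rw [← hx] at hx2 hxz hxβ hxr
  have hxu : Commute x u := hx ▸ L.conj_a_commute D hc
  have hx1 := L.oneFix_of_invol D hx2 hxz hxu hxβ
  have hcomm : ∀ q : K ⧸ H, u • q = q → i • (x • q) = x • (i • q) := by
    intro q hq
    by_cases h1 : q = β
    · rw [h1, hxβ, hiβ, hxβ]
    by_cases h2 : q = r
    · rw [h2, hxr, hiinv, ← hxr, hx1.invol r hr]
    by_cases h3 : q = i • r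
    · rw [h3, hiinv, ← hxr, hx1.invol r hr, hxr]
    -- the other two points are fixed by `i`
    have hrest : ∀ p : K ⧸ H, u • p = p → p ≠ β → p ≠ r → p ≠ i • r → i • p = p := by
      intro p hp p1 p2 p3
      by_contra hip
      -- `i` would fix `β` only
      have hmem : ∀ {y : K ⧸ H}, u • y = y → y ≠ β →
          y ∈ ({q : K ⧸ H | u • q = q} \ {β} : Set (K ⧸ H)) := fun hy hy' => ⟨hy, hy'⟩
      rcases four_eq (L.ncard_line_diff D hβ) (hmem hr hrβ)
          (hmem (hiline r hr) fun e => hrβ (MulAction.injective i (e.trans hiβ.symm)))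
          (hmem hp p1) (hmem (hiline p hp) fun e => p1 (MulAction.injective i (e.trans hiβ.symm)))
          (Ne.symm hir) p2.symm (fun e => p3 (by rw [e, hiinv])) p3.symm
          (fun e => p2 (MulAction.injective i e).symm) (Ne.symm hip)
          (hmem hβ₂ hne) with e | e | e | e <;> rw [e] at hiβ₂
      · exact hir hiβ₂
      · exact hir (MulAction.injective i hiβ₂)
      · exact hip hiβ₂
      · exact hip (MulAction.injective i hiβ₂)
    have hxq : x • q ≠ β ∧ x • q ≠ r ∧ x • q ≠ i • r := by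
      refine ⟨fun e => h1 ?_, fun e => h3 ?_, fun e => h2 ?_⟩
      · rw [← hx1.invol q hq, e, hxβ]
      · rw [← hx1.invol q hq, e, hxr]
      · rw [← hx1.invol q hq, e, ← hxr, hx1.invol r hr]
    rw [hrest q hq h1 h2 h3, hrest _ (hx1.maps q hq) hxq.1 hxq.2.1 hxq.2.2]
  -- the product with its image under `i` acts with odd order
  obtain ⟨n, hn⟩ : ∃ n, n = x * (i * x * i⁻¹) := ⟨_, rfl⟩
  have hiinvN : Normalizes u i⁻¹ := (lineStab u).inv_mem hiN
  have hxiu : Commute (i * x * i⁻¹) u := by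
    have h1 : Commute (i * x * i⁻¹) (i * u * i⁻¹) := hxu.map (MulAut.conj i).toMonoidHom
    rcases hiN with e | e <;> rw [e] at h1
    · exact h1
    · simpa using h1.inv_right
  have hnu : Commute n u := hn ▸ hxu.mul_left hxiu
  have hnfix : FixesLine H u n := fun q hq => by
    have hq' : u • (i⁻¹ • q) = i⁻¹ • q := smul_mem_line hiinvN hq
    rw [hn, mul_smul, mul_smul, mul_smul, hcomm _ hq', smul_inv_smul, hx1.invol q hq]
  have hninv : x * n * x⁻¹ = n⁻¹ := by
    rw [hn, mul_inv_rev, inv_eq hx2, show (i * x * i⁻¹)⁻¹ = i * x⁻¹ * i⁻¹ by group, inv_eq hx2,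
      ← mul_assoc x x, mul_self hx2, one_mul]
  have hodd := L.odd_of_inverted hN D hnu hnfix hxu hninv
  have hIinv : φ i⁻¹ = φ i := by
    rw [map_inv]; exact inv_eq_of_mul_eq_one_right (L.act_mul_self hii)
  have hXN : φ x * (φ i * φ x * φ i) = φ n := by rw [hn, map_mul, map_mul, map_mul, hIinv]
  obtain ⟨k, hk⟩ := dihedral_fixed (L.act_mul_self (Or.inl (mul_self hx2)))
    (L.act_mul_self hii) (by rw [hXN]; exact hodd)
  rw [hXN, ← map_pow, ← map_inv, ← map_mul, ← map_mul] at hk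
  obtain ⟨ha'2, ha'z⟩ := L.conj_good D (c := n ^ k * c) D.good_a
  have hc' : Commute (n ^ k * c) u := (hnu.pow_left k).mul_left hc
  obtain ⟨a', ha'⟩ : ∃ a', a' = n ^ k * c * a * (n ^ k * c)⁻¹ := ⟨_, rfl⟩
  rw [← ha'] at ha'2 ha'z
  have ha'eq : a' = n ^ k * x * (n ^ k)⁻¹ := by rw [ha', hx]; group
  rw [← ha'eq] at hk
  have hnk : n ^ k • β = β := by
    have := Equiv.Perm.pow_apply_eq_self_of_apply_eq_self (show (φ n) β = β from hnfix β hβ) k
    rwa [← map_pow] at this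
  have ha'β : a' • β = β := by
    rw [ha'eq, mul_smul, mul_smul, inv_smul_eq_iff.2 hnk.symm, hxβ, hnk]
  have ha'u : Commute a' u := ha' ▸ L.conj_a_commute D hc'
  have hia : ∀ q : K ⧸ H, i • (a' • q) = a' • (i • q) := fun q =>
    (congrArg (fun σ : Equiv.Perm (K ⧸ H) => σ q) hk.eq).symm
  have hiu : ∀ q : K ⧸ H, i • (u • q) = u • (i • q) := fun q => by
    have := congrArg (fun σ : Equiv.Perm (K ⧸ H) => σ q) hIU
    change (i * u) • q = (u * i) • q at this
    rwa [mul_smul, mul_smul] at this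
  -- six fixed points of `i`
  set γ := g • base H with hγdef
  have hline' : ∀ {y : K}, Commute y u → ∀ {q : K ⧸ H}, u • q = q → u • (y • q) = y • q :=
    fun {y} hy {q} hq => by rw [← mul_smul, ← hy.eq, mul_smul, hq]
  have huγ : u • (u • γ) ≠ u • γ := fun e => hγ (MulAction.injective u e)
  have haγu : u • (a' • γ) ≠ a' • γ := fun e => hγ (by
    have h1 := hline' ha'u e
    rwa [L.smul_smul_self (Or.inl (mul_self ha'2))] at h1)
  have haγ : a' • γ ≠ γ := fun e => hβγ (L.eq_of_fix ha'2 ha'z e ha'β).symm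
  have hau : a' • γ ≠ u • γ := fun e => hno ⟨_, hc', by
    rw [conj_u_mul hc', ← ha', mul_smul, e, L.smul_smul_self (Or.inr D.sq_u)]⟩
  have hxβ₂ : x • β₂ ≠ β₂ := fun e => hne (hx1.only β₂ hβ₂ e)
  have hxβ₂' : x • β₂ ≠ β := fun e => hne (MulAction.injective x (e.trans hxβ.symm))
  have hoff : ∀ {p q : K ⧸ H}, u • p = p → u • q ≠ q → p ≠ q := fun hp hq e => hq (e ▸ hp)
  have hxline := hx1.maps β₂ hβ₂
  have hsub : ({β, β₂, x • β₂, γ, u • γ, a' • γ} : Set (K ⧸ H)) ⊆ {q | i • q = q} := by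
    rintro q (rfl | rfl | rfl | rfl | rfl | rfl) <;> show i • _ = _
    · exact hiβ
    · exact hiβ₂
    · rw [hcomm _ hβ₂, hiβ₂]
    · exact hiγ
    · rw [hiu, hiγ]
    · rw [hia, hiγ]
  have h6 : ({β, β₂, x • β₂, γ, u • γ, a' • γ} : Set (K ⧸ H)).ncard = 6 := by
    rw [Set.ncard_insert_of_notMem (by
        simp [hne.symm, hxβ₂'.symm, hoff hβ hγ, hoff hβ huγ, hoff hβ haγu]) (Set.toFinite _),
      Set.ncard_insert_of_notMem (by
        simp [hxβ₂.symm, hoff hβ₂ hγ, hoff hβ₂ huγ, hoff hβ₂ haγu]) (Set.toFinite _),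
      Set.ncard_insert_of_notMem (by
        simp [hoff hxline hγ, hoff hxline huγ, hoff hxline haγu]) (Set.toFinite _),
      Set.ncard_insert_of_notMem (by simp [Ne.symm hγ, haγ.symm]) (Set.toFinite _),
      Set.ncard_pair hau.symm]
  have h7 := Set.ncard_le_ncard hsub (Set.toFinite _)
  rw [h6, ← Nat.card_coe_set_eq] at h7
  have h8 : Nat.card ({q | i • q = q} : Set (K ⧸ H)) = 5 := h5
  omega

include hN in
/-- `u * a` satisfies the hypotheses of the line lemma. -/
theorem lineHyp_pure (hline : FiveFix H z) : LineHyp H z (u * a) := by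
  have hsq : u * a * (u * a) = z := by
    rw [mul_assoc, ← mul_assoc a u a, D.au.eq, mul_assoc u a a, mul_self D.good_a.1, mul_one,
      D.sq_u]
  have hwua : Commute w (u * a) := mul_inv_eq_iff_eq_mul.1 (by
    rw [show w * (u * a) * w⁻¹ = w * u * w⁻¹ * (w * a * w⁻¹) by group, D.wu,
      mul_inv_eq_iff_eq_mul.1 D.wa, L.inv_eq_mul_z D.sq_u, mul_assoc u z, ← mul_assoc z z,
      L.z_mul_self, one_mul])
  obtain ⟨γ, hγ⟩ : ∃ γ : K ⧸ H, u • γ ≠ γ := by
    by_contra h
    push Not at h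
    rcases L.act_eq_one hN (k := u) (Equiv.ext h) with e | e <;> have := D.sq_u <;>
      rw [e] at this
    · exact ne_one L.z2 (by rw [← this, one_mul])
    · exact ne_one L.z2 (by rw [← this, L.z_mul_self])
  obtain ⟨c, hc, hcγ⟩ := L.exists_pure_fix hN D hline hγ
  refine ⟨H.mul_mem D.u_mem D.good_a.2.2, hsq, fixesTwo_of_smul (q := c⁻¹ • γ)
    (H.mul_mem D.u_mem D.good_a.2.2) (fun e => hγ ?_) ?_, b, w * (u * a), D.good_b, ?_, ?_, ?_, ?_⟩
  · rw [inv_smul_eq_iff] at e
    rw [e, ← mul_smul, ← hc.eq, mul_smul, L.u_base D]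
  · rw [eq_inv_smul_iff]
    simp only [mul_smul] at hcγ ⊢
    exact hcγ
  · refine ⟨orderOf_of_sq (by
      rw [mul_assoc, ← mul_assoc (u * a) w, ← hwua.eq, mul_assoc w (u * a), hsq, ← mul_assoc,
        D.sq_w, L.z_mul_self]) ?_, ?_, H.mul_mem D.w_mem (H.mul_mem D.u_mem D.good_a.2.2)⟩
    all_goals
      intro e
      obtain ⟨r, hr, hrb⟩ := L.exists_line_ne D (L.u_base D)
      have hρ : (w * (u * a)) • r = r := by
        rw [e]
        first | exact one_smul K r | exact L.z_smul r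
      have har : u • (a • r) = a • r := by rw [← mul_smul, ← D.au.eq, mul_smul, hr]
      rw [mul_smul, mul_smul, har, D.w_fix _ har] at hρ
      exact hrb (D.a_fix r hr hρ)
  · rw [show b * (u * a) * b⁻¹ = b * u * b⁻¹ * (b * a * b⁻¹) by group, D.bu.eq, mul_inv_cancel_right]
    have hab : b * a * b⁻¹ = a * z := by
      have h1 : a * b = z * (b * a) := by
        rw [← mul_assoc]
        exact mul_inv_eq_iff_eq_mul.1 (mul_inv_eq_iff_eq_mul.1 D.ab)
      calc b * a * b⁻¹ = z * (z * (b * a)) * b⁻¹ := by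
            rw [← mul_assoc z z, L.z_mul_self, one_mul]
        _ = a * z := by
          rw [← h1, (L.z_comm (a * b)).eq, mul_assoc (a * b) z, (L.z_comm b⁻¹).eq]; group
    rw [hab, L.inv_eq_mul_z hsq, mul_assoc]
  · exact hwua.mul_left (Commute.refl _)
  · -- `w * (u * a)` commutes with `b`
    refine mul_inv_eq_iff_eq_mul.1 ?_
    have hwb : w * b * w⁻¹ = b * z := by
      rw [mul_inv_eq_iff_eq_mul.1 D.wb, (L.z_comm b).eq]
    have huab : u * a * b * (u * a)⁻¹ = b * z := by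
      rw [show u * a * b * (u * a)⁻¹ = u * (a * b * a⁻¹) * u⁻¹ by group,
        mul_inv_eq_iff_eq_mul.1 D.ab, (L.z_comm b).eq, ← mul_assoc, ← D.bu.eq, mul_assoc b u z,
        ← (L.z_comm u).eq, ← mul_assoc, mul_inv_cancel_right]
    rw [show w * (u * a) * b * (w * (u * a))⁻¹ = w * (u * a * b * (u * a)⁻¹) * w⁻¹ by group, huab,
      show w * (b * z) * w⁻¹ = w * b * (z * w⁻¹) by group, (L.z_comm w⁻¹).eq, ← mul_assoc, hwb,
      mul_assoc, L.z_mul_self, mul_one]

end Loc

end Cfsg.Agent.TwoCore
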