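/-
The line of `u * a` and the kernel of `C(u)` on the line of `u` (notes/two_core_structure.md, (f)
and "Covering").

* `IsRight`, `IsLeft` : the pure elements `u, w, u w` and `u a, u b, a b`
* `Loc.left_fix_iff` : the three left pure elements fix the same five cosets
* `Loc.oddFix_eq_one` : odd elements of `C(u)` trivial on the line are trivial
* `Loc.act_eq_of_line` : a square root of `z` is determined by its action on the line
* `Loc.pure_fix_iff` : the line of a conjugate `c (u a) c⁻¹` depends on the coset `c H` only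
-/
import Cfsg.Agent.Lib.TwoCore.CoverPoint

set_option autoImplicit false
set_option linter.unusedSectionVars false
set_option linter.unusedVariables false
set_option linter.style.haveILetI false

namespace Cfsg.Agent.TwoCore

open Subgroup Involution MulAction
open scoped Pointwise

universe u

variable {K : Type u} [Group K]

/-- The pure elements fixing the line of `u`. -/
def IsRight (u w r : K) : Prop := r = u ∨ r = w ∨ r = u * w

/-- The pure elements fixing the line of `u * a`. -/
def IsLeft (u a b l : K) : Prop := l = u * a ∨ l = u * b ∨ l = a * b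

/-- Conjugates by an element preserving the cosets fixed by another. -/
def keepSet {α : Type*} (S : Set α) : Subgroup (Equiv.Perm α) where
  carrier := {σ | ∀ x, σ x ∈ S ↔ x ∈ S}
  one_mem' _ := Iff.rfl
  mul_mem' {σ τ} hσ hτ x := (hσ (τ x)).trans (hτ x)
  inv_mem' {σ} hσ x := by
    have h := hσ (σ⁻¹ x)
    rw [show σ (σ⁻¹ x) = x from σ.apply_symm_apply x] at h
    exact h.symm

theorem mem_keepSet {α : Type*} {σ e : Equiv.Perm α} {S : Set α}
    (hS : ∀ x, x ∈ S ↔ e x = x) (h : Commute σ e) : σ ∈ keepSet S := fun x => by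
  rw [hS, hS, show e (σ x) = σ (e x) from (congrArg (fun τ : Equiv.Perm α => τ x) h.eq).symm]
  exact σ.injective.eq_iff

variable [Finite K] {T : Sylow 2 K} {H : Subgroup K} {z v : K}

/-- The action on the cosets. -/
local notation "φ" => MulAction.toPermHom K (K ⧸ H)

namespace Loc

variable (L : Loc T H z v) {u w a b : K} (hN : H.normalCore = zpowers z) (D : LineData H z u w a b)
include L D

theorem a_mul_self : a * a = 1 := mul_self D.good_a.1

theorem b_mul_self : b * b = 1 := mul_self D.good_b.1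

theorem wu_eq : w * u = u * w * z := by
  rw [mul_inv_eq_iff_eq_mul.1 D.wu, L.inv_eq_mul_z D.sq_u, mul_assoc, (L.z_comm w).eq, mul_assoc]

theorem wa_eq : w * a = a * w * z := by
  rw [mul_inv_eq_iff_eq_mul.1 (mul_inv_eq_iff_eq_mul.1 D.wa), mul_assoc, (L.z_comm (a * w)).eq]

theorem wb_eq : w * b = b * w * z := by
  rw [mul_inv_eq_iff_eq_mul.1 (mul_inv_eq_iff_eq_mul.1 D.wb), mul_assoc, (L.z_comm (b * w)).eq]

theorem ab_eq : a * b = b * a * z := by
  rw [mul_inv_eq_iff_eq_mul.1 (mul_inv_eq_iff_eq_mul.1 D.ab), mul_assoc, (L.z_comm (b * a)).eq]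

theorem ua_left_conj : a * (u * a) * a⁻¹ = u * a := by
  rw [← mul_assoc, D.au.eq, mul_inv_cancel_right]

theorem act_uw : Commute (φ u) (φ w) := by
  show φ u * φ w = φ w * φ u
  rw [← map_mul, ← map_mul, L.wu_eq D, L.act_mul_z]

theorem act_aw : Commute (φ a) (φ w) := by
  show φ a * φ w = φ w * φ a
  rw [← map_mul, ← map_mul, L.wa_eq D, L.act_mul_z]

theorem act_bw : Commute (φ b) (φ w) := by
  show φ b * φ w = φ w * φ b
  rw [← map_mul, ← map_mul, L.wb_eq D, L.act_mul_z]

theorem act_ab : Commute (φ a) (φ b) := by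
  show φ a * φ b = φ b * φ a
  rw [← map_mul, ← map_mul, L.ab_eq D, L.act_mul_z]

theorem act_au : Commute (φ a) (φ u) := D.au.map φ

theorem act_bu : Commute (φ b) (φ u) := D.bu.map φ

theorem right_facts {r : K} (hr : IsRight u w r) :
    r * r = z ∧ r ∈ H ∧ ∀ q : K ⧸ H, r • q = q ↔ u • q = q := by
  rcases hr with rfl | rfl | rfl
  · exact ⟨D.sq_u, D.u_mem, fun _ => Iff.rfl⟩
  · exact ⟨D.sq_w, D.w_mem, fun q => ⟨D.inv_root r D.sq_w D.wu D.w_fix q, D.w_fix q⟩⟩
  · have hsq : u * w * (u * w) = z := by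
      rw [show u * w * (u * w) = u * (w * u) * w by group, L.wu_eq D,
        show u * (u * w * z) * w = u * u * w * (z * w) by group, (L.z_comm w).eq,
        show u * u * w * (w * z) = u * u * (w * w) * z by group, D.sq_u, D.sq_w, L.z_mul_self,
        one_mul]
    have hfix : FixesLine H u (u * w) := fun q hq => by rw [mul_smul, D.w_fix q hq, hq]
    refine ⟨hsq, H.mul_mem D.u_mem D.w_mem, fun q => ⟨D.inv_root _ hsq ?_ hfix q, hfix q⟩⟩
    rw [show u * w * u * (u * w)⁻¹ = u * (w * u * w⁻¹) * u⁻¹ by group, D.wu]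
    group

theorem left_facts {l : K} (hl : IsLeft u a b l) :
    l * l = z ∧ l ∈ H ∧ Commute l u ∧ OneFix H u (base H) l ∧ Commute w l := by
  have hub := L.u_base D
  have hone : ∀ {d : K}, Commute d u → d ∈ H → d * d = z →
      (∀ q : K ⧸ H, u • q = q → d • q = q → q = base H) → OneFix H u (base H) d :=
    fun {d} hd hdH hsq h => ⟨fun q hq => by rw [← mul_smul, ← hd.eq, mul_smul, hq],
      fun q _ => L.smul_smul_self (Or.inr hsq) q, smul_base_eq_iff.2 hdH, h⟩
  have hux : ∀ {x : K}, Good H z x → Commute x u →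
      (∀ q : K ⧸ H, u • q = q → x • q = q → q = base H) → w * x = x * w * z →
      (u * x) * (u * x) = z ∧ (u * x) ∈ H ∧ Commute (u * x) u ∧ OneFix H u (base H) (u * x) ∧
        Commute w (u * x) := by
    intro x hx hxu hfix hwx
    have hc : Commute (u * x) u := (Commute.refl u).mul_left hxu
    have hsq : u * x * (u * x) = z := by
      rw [mul_assoc, ← mul_assoc x u x, hxu.eq, mul_assoc u x x, mul_self hx.1, mul_one, D.sq_u]
    have hH := H.mul_mem D.u_mem hx.2.2
    refine ⟨hsq, hH, hc, hone hc hH hsq fun q hq hq' => hfix q hq ?_, ?_⟩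
    · rw [mul_smul] at hq'
      exact MulAction.injective u (hq'.trans hq.symm)
    · show w * (u * x) = u * x * w
      rw [← mul_assoc, L.wu_eq D, mul_assoc (u * w) z x, (L.z_comm x).eq, ← mul_assoc,
        mul_assoc u w x, hwx, ← mul_assoc u (x * w) z, mul_assoc _ z z, L.z_mul_self, mul_one,
        mul_assoc]
  rcases hl with rfl | rfl | rfl
  · exact hux D.good_a D.au D.a_fix (L.wa_eq D)
  · exact hux D.good_b D.bu D.b_fix (L.wb_eq D)
  · have hc : Commute (a * b) u := D.au.mul_left D.bu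
    have hsq : a * b * (a * b) = z := by
      rw [show a * b * (a * b) = a * (b * a) * b by group]
      have h1 : b * a = a * b * z := by
        rw [L.ab_eq D, mul_assoc, L.z_mul_self, mul_one]
      rw [h1, ← mul_assoc a (a * b) z, ← mul_assoc a a b, L.a_mul_self D, one_mul, mul_assoc,
        (L.z_comm b).eq, ← mul_assoc, L.b_mul_self D, one_mul]
    have hH := H.mul_mem D.good_a.2.2 D.good_b.2.2
    refine ⟨hsq, hH, hc, hone hc hH hsq D.ab_fix, ?_⟩
    show w * (a * b) = a * b * w
    rw [← mul_assoc, L.wa_eq D, mul_assoc (a * w) z b, (L.z_comm b).eq, ← mul_assoc,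
      mul_assoc a w b, L.wb_eq D, ← mul_assoc a (b * w) z, mul_assoc _ z z, L.z_mul_self, mul_one,
      mul_assoc]

theorem right_left_comm {r l : K} (hr : IsRight u w r) (hl : IsLeft u a b l) : Commute r l := by
  obtain ⟨-, -, hlu, -, hwl⟩ := L.left_facts D hl
  rcases hr with rfl | rfl | rfl
  · exact hlu.symm
  · exact hwl
  · exact hlu.symm.mul_left hwl

/-- The nine involutions `r * l` fix the trivial coset only. -/
theorem nine {r l : K} (hr : IsRight u w r) (hl : IsLeft u a b l) {q : K ⧸ H}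
    (hq : (r * l) • q = q) : q = base H := by
  obtain ⟨hr2, hrH, hrfix⟩ := L.right_facts D hr
  obtain ⟨hl2, hlH, -, hl1, -⟩ := L.left_facts D hl
  have hsq : r * l * (r * l) = 1 := by
    rw [mul_assoc, ← mul_assoc l r l, ← (L.right_left_comm D hr hl).eq, mul_assoc r l l, hl2,
      ← mul_assoc, hr2, L.z_mul_self]
  obtain ⟨p, hp, hpb⟩ := L.exists_line_ne D (L.u_base D)
  have hmove : (r * l) • p ≠ p := fun e => hpb (hl1.only p hp (by
    rw [mul_smul, (hrfix _).2 (hl1.maps p hp)] at e
    exact e))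
  refine L.eq_of_fix (orderOf_of_sq hsq fun e => hmove ?_) (fun e => hmove ?_) hq
    (smul_base_eq_iff.2 (H.mul_mem hrH hlH))
  · rw [e, one_smul]
  · rw [e, L.z_smul]

/-- Four cosets off the line invariant under `u` and `w` form one orbit. -/
theorem four_orbit {S : Set (K ⧸ H)} (h4 : S.ncard = 4) (hoff : ∀ q ∈ S, u • q ≠ q)
    (hu : ∀ q ∈ S, u • q ∈ S) (hw : ∀ q ∈ S, w • q ∈ S) {γ q : K ⧸ H} (hγ : γ ∈ S) (hq : q ∈ S) :
    q = γ ∨ ∃ r : K, IsRight u w r ∧ q = r • γ := by
  have hne : ∀ {r : K}, IsRight u w r → r • γ ≠ γ :=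
    fun {r} hr e => hoff γ hγ (((L.right_facts D hr).2.2 γ).1 e)
  have hwu : ∀ q : K ⧸ H, u • (w • q) = w • (u • q) := fun q =>
    congrArg (fun σ : Equiv.Perm (K ⧸ H) => σ q) (L.act_uw D).eq
  have huu : ∀ q : K ⧸ H, u • (u • q) = q := L.smul_smul_self (Or.inr D.sq_u)
  rcases four_eq h4 hγ (hu γ hγ) (hw γ hγ) (hu _ (hw γ hγ)) (hne (Or.inl rfl)).symm
      (hne (Or.inr (Or.inl rfl))).symm
      (fun e => hne (Or.inr (Or.inr rfl)) (by rw [mul_smul]; exact e.symm))
      (fun e => hne (Or.inr (Or.inr rfl)) (by rw [mul_smul, ← e, huu]))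
      (fun e => hne (Or.inr (Or.inl rfl)) (MulAction.injective u e).symm)
      (fun e => hoff _ (hw γ hγ) e.symm) hq with e | e | e | e
  · exact Or.inl e
  · exact Or.inr ⟨u, Or.inl rfl, e⟩
  · exact Or.inr ⟨w, Or.inr (Or.inl rfl), e⟩
  · exact Or.inr ⟨u * w, Or.inr (Or.inr rfl), by rw [mul_smul]; exact e⟩

theorem left_inter {l : K} (hl : IsLeft u a b l) {q : K ⧸ H} (hu : u • q = q) (hq : l • q = q) :
    q = base H := (L.left_facts D hl).2.2.2.1.only q hu hq

include hN

theorem ncard_pure (hline : FiveFix H z) :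
    ({q : K ⧸ H | (u * a) • q = q} \ {base H} : Set (K ⧸ H)).ncard = 4 := by
  rw [Set.ncard_sdiff_singleton_of_mem (show base H ∈ {q : K ⧸ H | (u * a) • q = q} from
    smul_base_eq_iff.2 (L.left_facts D (Or.inl rfl)).2.1), ← Nat.card_coe_set_eq]
  have h := hline _ (L.lineHyp_pure hN D hline)
  have h' : Nat.card ({q : K ⧸ H | (u * a) • q = q} : Set (K ⧸ H)) = 5 := h
  omega

theorem pure_off (hline : FiveFix H z) :
    (∀ q ∈ ({q : K ⧸ H | (u * a) • q = q} \ {base H} : Set (K ⧸ H)), u • q ≠ q) ∧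
    (∀ r : K, IsRight u w r → ∀ q ∈ ({q : K ⧸ H | (u * a) • q = q} \ {base H} : Set (K ⧸ H)),
      r • q ∈ ({q : K ⧸ H | (u * a) • q = q} \ {base H} : Set (K ⧸ H))) := by
  refine ⟨fun q hq e => hq.2 (L.left_inter D (Or.inl rfl) e hq.1), fun r hr q hq => ⟨?_, fun e => ?_⟩⟩
  · show (u * a) • (r • q) = r • q
    rw [← mul_smul, ← (L.right_left_comm D hr (Or.inl rfl)).eq, mul_smul, hq.1]
  · rw [Set.mem_singleton_iff] at e
    exact hq.2 (MulAction.injective r (e.trans (smul_base_eq_iff.2 (L.right_facts D hr).2.1).symm))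

theorem left_smul_pure (hline : FiveFix H z) {l : K} (hl : IsLeft u a b l) {q : K ⧸ H}
    (hq : (u * a) • q = q) : l • q = q := by
  obtain ⟨hl2, hlH, hlu, hl1, -⟩ := L.left_facts D hl
  by_cases hqb : q = base H
  · rw [hqb, hl1.fix]
  obtain ⟨hoff, hmaps⟩ := L.pure_off hN D hline
  have hcomm : φ (u * a) * φ l = φ l * φ (u * a) := by
    have hU : Commute (φ u) (φ u) := Commute.refl _
    have hA : Commute (φ a) (φ a) := Commute.refl _
    have h1 : Commute (φ u * φ a) (φ l) := by
      rcases hl with rfl | rfl | rfl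
      · rw [map_mul φ u a]
      · rw [map_mul φ u b]
        exact (hU.mul_right (L.act_bu D).symm).mul_left ((L.act_au D).mul_right (L.act_ab D))
      · rw [map_mul φ a b]
        exact ((L.act_au D).symm.mul_right (L.act_bu D).symm).mul_left (hA.mul_right (L.act_ab D))
    rw [map_mul]
    exact h1.eq
  have hmem : l • q ∈ ({q : K ⧸ H | (u * a) • q = q} \ {base H} : Set (K ⧸ H)) := by
    refine ⟨?_, fun e => ?_⟩
    · have := congrArg (fun σ : Equiv.Perm (K ⧸ H) => σ q) hcomm
      change (u * a) • (l • q) = l • ((u * a) • q) at this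
      rwa [hq] at this
    · rw [Set.mem_singleton_iff] at e
      exact hqb (MulAction.injective l (e.trans hl1.fix.symm))
  rcases L.four_orbit D (L.ncard_pure hN D hline) hoff (hmaps u (Or.inl rfl))
      (hmaps w (Or.inr (Or.inl rfl))) ⟨hq, hqb⟩ hmem with e | ⟨r, hr, e⟩
  · exact e
  · refine absurd (L.nine D hr hl ?_) hqb
    rw [mul_smul, e]
    exact L.smul_smul_self (Or.inr (L.right_facts D hr).1) q

/-- The three left pure elements fix the same cosets. -/
theorem left_fix_iff (hline : FiveFix H z) {l : K} (hl : IsLeft u a b l) (q : K ⧸ H) :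
    l • q = q ↔ (u * a) • q = q := by
  rcases hl with rfl | hl
  · exact Iff.rfl
  have hl' : IsLeft u a b l := Or.inr hl
  obtain ⟨hl2, hlH, -, -, hwl⟩ := L.left_facts D hl'
  obtain ⟨γ, hγ⟩ := Set.nonempty_of_ncard_ne_zero
    (show ({q : K ⧸ H | (u * a) • q = q} \ {base H} : Set (K ⧸ H)).ncard ≠ 0 by
      rw [L.ncard_pure hN D hline]; omega)
  have hal : a * l * a⁻¹ = l * z := by
    rw [inv_eq D.good_a.1]
    rcases hl with rfl | rfl
    · rw [← mul_assoc, D.au.eq, mul_assoc u a b, L.ab_eq D, ← mul_assoc u (b * a) z,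
        mul_assoc _ z a, (L.z_comm a).eq, ← mul_assoc, ← mul_assoc u b a, mul_assoc (u * b) a a,
        L.a_mul_self D, mul_one]
    · rw [← mul_assoc a a b, L.a_mul_self D, one_mul, L.ab_eq D, mul_assoc (b * a) z z,
        L.z_mul_self, mul_one]
  have hLH : LineHyp H z l := by
    refine ⟨hlH, hl2, fixesTwo_of_smul hlH hγ.2 (L.left_smul_pure hN D hline hl' hγ.1),
      a, w * l, D.good_a, ⟨?_, ?_, H.mul_mem D.w_mem hlH⟩, ?_, ?_, ?_⟩
    · refine orderOf_of_sq ?_ fun e => hγ.2 (L.nine D (Or.inr (Or.inl rfl)) hl'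
        (by rw [e, one_smul]))
      rw [mul_assoc, ← mul_assoc l w l, ← hwl.eq, mul_assoc w l l, hl2, ← mul_assoc, D.sq_w,
        L.z_mul_self]
    · exact fun e => hγ.2 (L.nine D (Or.inr (Or.inl rfl)) hl' (by rw [e, L.z_smul]))
    · rw [hal, L.inv_eq_mul_z hl2]
    · exact hwl.mul_left (Commute.refl l)
    · -- `w * l` commutes with `a`
      refine (mul_inv_eq_iff_eq_mul.1 ?_ : Commute a (w * l)).symm
      have haw : a * w * a⁻¹ = w * z := by
        rw [mul_inv_eq_iff_eq_mul, mul_assoc w z a, (L.z_comm a).eq, ← mul_assoc, L.wa_eq D,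
          mul_assoc, L.z_mul_self, mul_one]
      rw [show a * (w * l) * a⁻¹ = a * w * a⁻¹ * (a * l * a⁻¹) by group, haw, hal, mul_assoc w z,
        ← mul_assoc z l z, (L.z_comm l).eq, mul_assoc l z z, L.z_mul_self, mul_one]
  have hsub : {q : K ⧸ H | (u * a) • q = q} ⊆ {q | l • q = q} :=
    fun q hq => L.left_smul_pure hN D hline hl' hq
  have heq : {q : K ⧸ H | (u * a) • q = q} = {q | l • q = q} := by
    refine Set.eq_of_subset_of_ncard_le hsub (le_of_eq ?_) (Set.toFinite _)
    rw [← Nat.card_coe_set_eq, ← Nat.card_coe_set_eq]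
    exact (hline l hLH).trans (hline _ (L.lineHyp_pure hN D hline)).symm
  exact (Set.ext_iff.1 heq q).symm

/-- Odd elements of `C(u)` trivial on the line are trivial. -/
theorem oddFix_eq_one (hline : FiveFix H z) {k : K} (hk : Odd (orderOf k)) (hku : Commute k u)
    (hkfix : FixesLine H u k) : k = 1 := by
  haveI : Fact (Nat.Prime 2) := ⟨Nat.prime_two⟩
  set S := {q : K ⧸ H | (u * a) • q = q} with hS
  -- the kernel of `C(u)` on the line
  set Kn : Subgroup K :=
    { carrier := {g | Commute g u ∧ FixesLine H u g}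
      one_mem' := ⟨Commute.one_left u, fun q _ => one_smul K q⟩
      mul_mem' := fun hx hy => ⟨hx.1.mul_left hy.1, fun q hq => by
        rw [mul_smul, hy.2 q hq, hx.2 q hq]⟩
      inv_mem' := fun hx => ⟨hx.1.inv_left, fun q hq => inv_smul_eq_iff.2 (hx.2 q hq).symm⟩ }
    with hKn
  have huKn : u ∈ Kn := ⟨Commute.refl u, fun q hq => hq⟩
  obtain ⟨p, hp, hpb⟩ := L.exists_line_ne D (L.u_base D)
  have hinv : ∀ x ∈ Kn, orderOf x = 2 → x = z := fun x hx h2 => by
    by_contra hne
    exact hpb (L.eq_of_fix h2 hne (hx.2 p hp) (hx.2 _ (L.u_base D)))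
  set P : Sylow 2 Kn := default with hP
  have hPc : IsCyclic P := by
    set Q : Subgroup K := (P : Subgroup Kn).map Kn.subtype with hQ
    have e : (P : Subgroup Kn) ≃* Q :=
      (P : Subgroup Kn).equivMapOfInjective Kn.subtype Kn.subtype_injective
    suffices IsCyclic Q from e.isCyclic.2 this
    by_contra hQc
    have hQp : IsPGroup 2 Q := P.isPGroup'.map Kn.subtype
    have hQK : ∀ x ∈ Q, x ∈ Kn := by
      rintro _ ⟨x, -, rfl⟩; exact x.2
    obtain ⟨x, hx, hxu⟩ : ∃ x ∈ Q, x ∉ zpowers u := by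
      by_contra h
      push Not at h
      exact hQc (isCyclic_of_le h)
    have hx1 : x ≠ 1 := fun e => hxu (e ▸ one_mem _)
    have hzu : z ∈ zpowers u := by
      rw [← D.sq_u]; exact mul_mem (mem_zpowers u) (mem_zpowers u)
    have hxz : x ≠ z := fun e => hxu (e ▸ hzu)
    have huniq : ∀ y ∈ Q, orderOf y = 2 → y = z := fun y hy => hinv y (hQK y hy)
    obtain ⟨q₀, hq₀, hq₀2, -⟩ := exists_sq_eq hQp L.z2 huniq hx hx1 hxz
    have hzQ : z ∈ Q := by rw [← hq₀2]; exact Q.mul_mem hq₀ hq₀
    obtain ⟨q, hq, hqq, hqu⟩ := exists_sq_eq_not_ker (P := fun y => y ∈ zpowers u) hQp L.z2 hzQ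
      huniq hQc (fun a _ b _ ha hb => mul_mem ha hb) hx hxu
    rcases D.root q (hQK q hq).1 (hQK q hq).2 hqq with e | e <;> rw [e] at hqu
    · exact hqu (mem_zpowers u)
    · exact hqu (inv_mem (mem_zpowers u))
  obtain ⟨M, hModd, hM⟩ := exists_normal_odd P hPc
  set M' : Subgroup (Equiv.Perm (K ⧸ H)) := (M.map Kn.subtype).map φ with hM'
  have hmemM : ∀ g : K, g ∈ M.map Kn.subtype ↔ g ∈ Kn ∧ Odd (orderOf g) := by
    intro g
    constructor
    · rintro ⟨x, hx, rfl⟩
      exact ⟨x.2, by rw [orderOf_injective Kn.subtype Kn.subtype_injective]; exact (hM x).1 hx⟩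
    · rintro ⟨hg, hodd⟩
      exact ⟨⟨g, hg⟩, (hM _).2 (by rwa [Subgroup.orderOf_mk]), rfl⟩
  have hM'odd : ¬ 2 ∣ Nat.card M' := fun h => hModd (h.trans ((card_map_dvd _ _).trans
    (card_map_dvd _ _)))
  -- normalised by `a` and `b`
  have hconj : ∀ x : K, Commute x u → x * x = 1 → ∀ σ ∈ M', φ x * σ * φ x ∈ M' := by
    rintro x hxu hxx _ ⟨g, hg, rfl⟩
    have hxi : x⁻¹ = x := inv_eq_of_mul_eq_one_right hxx
    obtain ⟨hg1, hodd⟩ := (hmemM g).1 hg
    refine ⟨x * g * x⁻¹, (hmemM _).2 ⟨⟨(hxu.mul_left hg1.1).mul_left hxu.inv_left, ?_⟩, ?_⟩, ?_⟩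
    · intro q hq
      have hq' : u • (x⁻¹ • q) = x⁻¹ • q := by
        rw [← mul_smul, ← hxu.inv_left.eq, mul_smul, hq]
      rw [mul_smul, mul_smul, hg1.2 _ hq', smul_inv_smul]
    · rw [orderOf_conj]; exact hodd
    · rw [hxi, map_mul, map_mul]
  set A := φ a with hAdef
  set B := φ b with hBdef
  have hA2 : A * A = 1 := L.act_mul_self (Or.inl (L.a_mul_self D))
  have hB2 : B * B = 1 := L.act_mul_self (Or.inl (L.b_mul_self D))
  have hAB : A * B = B * A := (L.act_ab D).eq
  have hABA : A * B * A = B := by rw [hAB, mul_assoc, hA2, mul_one]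
  have hBAB : B * A * B = A := by rw [← hAB, mul_assoc, hB2, mul_one]
  have hAB2 : A * B * (A * B) = 1 := by rw [← mul_assoc, hABA, hB2]
  set E : Subgroup (Equiv.Perm (K ⧸ H)) :=
    { carrier := {σ | σ = 1 ∨ σ = A ∨ σ = B ∨ σ = A * B}
      one_mem' := Or.inl rfl
      mul_mem' := by
        rintro σ τ (rfl | rfl | rfl | rfl) (rfl | rfl | rfl | rfl) <;>
          simp only [one_mul, mul_one, hA2, hB2, hAB2, ← mul_assoc, hABA, Set.mem_ofPred_eq,
            true_or, or_true]
        all_goals simp [← hAB, mul_assoc, hB2]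
      inv_mem' := by
        rintro σ (rfl | rfl | rfl | rfl)
        · exact Or.inl inv_one
        · exact Or.inr (Or.inl (inv_eq_of_mul_eq_one_right hA2))
        · exact Or.inr (Or.inr (Or.inl (inv_eq_of_mul_eq_one_right hB2)))
        · exact Or.inr (Or.inr (Or.inr (inv_eq_of_mul_eq_one_right hAB2))) }
    with hEdef
  have hEab : Cfsg.IsElementaryAbelian 2 E := by
    refine ⟨⟨⟨fun x y => Subtype.ext ?_⟩⟩, ?_⟩
    · show (x : Equiv.Perm (K ⧸ H)) * y = y * x
      have hc : ∀ σ ∈ E, Commute σ A ∧ Commute σ B := by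
        rintro σ (rfl | rfl | rfl | rfl)
        · exact ⟨Commute.one_left A, Commute.one_left B⟩
        · exact ⟨Commute.refl A, hAB⟩
        · exact ⟨hAB.symm, Commute.refl B⟩
        · exact ⟨(Commute.refl A).mul_left hAB.symm, (show Commute A B from hAB).mul_left
            (Commute.refl B)⟩
      obtain ⟨h1, h2⟩ := hc x x.2
      rcases y.2 with h | h | h | h <;> rw [h]
      · rw [one_mul, mul_one]
      · exact h1.eq
      · exact h2.eq
      · exact (h1.mul_right h2).eq
    · rintro σ (rfl | rfl | rfl | rfl)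
      · exact one_pow 2
      · rw [sq, hA2]
      · rw [sq, hB2]
      · rw [sq, hAB2]
  have hmove : ∀ x : K, (∀ q : K ⧸ H, u • q = q → x • q = q → q = base H) → φ x ≠ 1 :=
    fun x hx e => hpb (hx p hp (congrArg (fun σ : Equiv.Perm (K ⧸ H) => σ p) e))
  have hE4 : 2 ^ 2 ≤ Nat.card E := by
    have h1 := hmove a D.a_fix
    have h2 := hmove b D.b_fix
    have h3 : A * B ≠ 1 := by rw [← map_mul]; exact hmove _ D.ab_fix
    have h4 : ({1, A, B, A * B} : Set (Equiv.Perm (K ⧸ H))).ncard = 4 := by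
      rw [Set.ncard_insert_of_notMem (by
          simp [Ne.symm h1, Ne.symm h2, Ne.symm h3]; exact ⟨Ne.symm h1, Ne.symm h2⟩) (Set.toFinite _),
        Set.ncard_insert_of_notMem (by
          simp only [Set.mem_insert_iff, Set.mem_singleton_iff, not_or]
          exact ⟨fun e => h3 (by rw [e, hB2]), fun e => h2 (mul_left_cancel (e.symm.trans
            (mul_one A).symm))⟩) (Set.toFinite _),
        Set.ncard_pair (fun e => h1 (mul_right_cancel (e.symm.trans (one_mul B).symm)))]
    have h5 : Nat.card E = ({1, A, B, A * B} : Set (Equiv.Perm (K ⧸ H))).ncard := by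
      rw [← Nat.card_coe_set_eq]; rfl
    rw [h5, h4]; norm_num
  have hEn : E ≤ normalizer (M' : Set (Equiv.Perm (K ⧸ H))) := by
    have hgen : ∀ x : K, Commute x u → x * x = 1 →
        φ x ∈ normalizer (M' : Set (Equiv.Perm (K ⧸ H))) := by
      intro x hxu hxx
      have hX := L.act_mul_self (Or.inl hxx)
      have hXi : (φ x)⁻¹ = φ x := inv_eq_of_mul_eq_one_right hX
      refine mem_normalizer_iff.2 fun σ => ⟨fun hσ => ?_, fun hσ => ?_⟩
      · rw [hXi]; exact hconj x hxu hxx σ hσ
      · rw [hXi] at hσ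
        have := hconj x hxu hxx _ hσ
        rwa [show φ x * (φ x * σ * φ x) * φ x = φ x * φ x * σ * (φ x * φ x) by group, hX, one_mul,
          mul_one] at this
    rintro σ (rfl | rfl | rfl | rfl)
    · exact one_mem _
    · exact hgen a D.au (L.a_mul_self D)
    · exact hgen b D.bu (L.b_mul_self D)
    · exact mul_mem (hgen a D.au (L.a_mul_self D)) (hgen b D.bu (L.b_mul_self D))
  have hle : M' ≤ keepSet S := by
    refine Signalizer.le_of_elements hEab hE4 (keepSet S) M' hM'odd hEn ?_
    rintro e he he1 σ ⟨hσ, hσc⟩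
    have hσu : Commute σ (φ u) := by
      obtain ⟨g, hg, rfl⟩ := hσ
      exact ((hmemM g).1 hg).1.1.map φ
    have hσe : Commute σ e := (mem_centralizer_singleton_iff.1 hσc)
    rcases he with rfl | rfl | rfl | rfl
    · exact absurd rfl he1
    · refine mem_keepSet (e := φ (u * a)) (fun q => Iff.rfl) ?_
      rw [map_mul]
      exact hσu.mul_right hσe
    · refine mem_keepSet (e := φ (u * b))
        (fun q => (L.left_fix_iff hN D hline (Or.inr (Or.inl rfl)) q).symm) ?_
      rw [map_mul]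
      exact hσu.mul_right hσe
    · refine mem_keepSet (e := φ (a * b))
        (fun q => (L.left_fix_iff hN D hline (Or.inr (Or.inr rfl)) q).symm) ?_
      rw [map_mul]
      exact hσe
  -- trivial on the line of `u * a`
  have honS : ∀ g : K, Commute g u → FixesLine H u g → Odd (orderOf g) →
      ∀ q : K ⧸ H, (u * a) • q = q → g • q = q := by
    intro g hgu hgfix hg q hq
    by_cases hqb : q = base H
    · rw [hqb, hgfix _ (L.u_base D)]
    have hkeep := hle ⟨g, (hmemM g).2 ⟨⟨hgu, hgfix⟩, hg⟩, rfl⟩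
    obtain ⟨hoff, hmaps⟩ := L.pure_off hN D hline
    refine fix_four_of_odd (L.ncard_pure hN D hline) (k := φ g) (f := fun q => u • q)
      (Odd.of_dvd_nat hg (orderOf_map_dvd φ g)) (fun y hy => ⟨(hkeep y).2 hy.1, fun e => hy.2 ?_⟩)
      (hmaps u (Or.inl rfl)) (fun y _ => L.smul_smul_self (Or.inr D.sq_u) y) hoff
      (fun y _ => ?_) ⟨hq, hqb⟩
    · rw [Set.mem_singleton_iff] at e
      exact MulAction.injective g (e.trans (hgfix _ (L.u_base D)).symm)
    · show g • (u • y) = u • (g • y)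
      rw [← mul_smul, hgu.eq, mul_smul]
  -- trivial everywhere by the covering
  have hall : φ k = 1 := by
    refine Equiv.ext fun q => ?_
    show k • q = q
    by_cases hq : u • q = q
    · exact hkfix q hq
    obtain ⟨c, hc, hcq⟩ := L.exists_pure_fix hN D hline hq
    have hk' : FixesLine H u (c⁻¹ * k * c) := fun p hp => by
      have hcp : u • (c • p) = c • p := by rw [← mul_smul, ← hc.eq, mul_smul, hp]
      rw [mul_smul, mul_smul, hkfix _ hcp, inv_smul_smul]
    have hkodd : Odd (orderOf (c⁻¹ * k * c)) := by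
      have e := orderOf_conj c⁻¹ k
      rw [inv_inv] at e
      rwa [e]
    have h1 := honS _ ((hc.inv_left.mul_left hku).mul_left hc) hk' hkodd (c⁻¹ • q) (by
      rw [eq_inv_smul_iff]
      simp only [mul_smul] at hcq ⊢
      exact hcq)
    rwa [mul_smul, mul_smul, smul_inv_smul, inv_smul_eq_iff, smul_inv_smul] at h1
  rcases L.act_eq_one hN hall with h | h
  · exact h
  · rw [h, L.z2] at hk
    exact absurd hk (by decide)

/-- A square root of `z` acting on the line as a conjugate of `a` is that conjugate of `u * a`. -/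
theorem act_eq_pure (hline : FiveFix H z) {i c : K} (hi : i * i = z) (hiu : Normalizes u i)
    (hc : Commute c u) (hact : ∀ q : K ⧸ H, u • q = q → i • q = (c * a * c⁻¹) • q) :
    φ i = φ (c * (u * a) * c⁻¹) := by
  have hi' : c⁻¹ * i * c * (c⁻¹ * i * c) = z := by
    rw [show c⁻¹ * i * c * (c⁻¹ * i * c) = c⁻¹ * (i * i) * c by group, hi, ← (L.z_comm c⁻¹).eq,
      inv_mul_cancel_right]
  have hnorm : Normalizes u (c⁻¹ * i * c) :=
    (lineStab u).mul_mem ((lineStab u).mul_mem (mem_lineStab_of_commute hc.inv_left) hiu)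
      (mem_lineStab_of_commute hc)
  obtain ⟨k, hkodd, hk, hkfix, hkk⟩ := D.double _ hi' hnorm fun q hq => by
    rw [mul_smul, mul_smul, hact (c • q) (by rw [← mul_smul, ← hc.eq, mul_smul, hq]), mul_smul,
      mul_smul, inv_smul_smul, inv_smul_smul]
  rw [L.oddFix_eq_one hN D hline hkodd hk hkfix, one_mul, inv_one, mul_one] at hkk
  rcases hkk with e | e <;> rw [e]
  · congr 1
    group
  · rw [show c * (c⁻¹ * i * c * z) * c⁻¹ = i * c * (z * c⁻¹) by group, (L.z_comm c⁻¹).eq,
      show i * c * (c⁻¹ * z) = i * z by group, L.act_mul_z]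

/-- A square root of `z` is determined by its action on the line. -/
theorem act_eq_of_line (hline : FiveFix H z) {i j : K} {β : K ⧸ H} (hi : i * i = z)
    (hj : j * j = z) (hiu : Normalizes u i) (hju : Normalizes u j) (hβ : u • β = β)
    (hj1 : OneFix H u β j) (h : ∀ q : K ⧸ H, u • q = q → i • q = j • q) : φ i = φ j := by
  obtain ⟨c, hc, -, hact⟩ := L.exists_conj_eq D hj1 hβ
  rw [L.act_eq_pure hN D hline hi hiu hc fun q hq => (h q hq).trans (hact q hq),
    L.act_eq_pure hN D hline hj hju hc hact]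

omit hN in
/-- The line away from the trivial coset is an orbit of `a` and `b`. -/
theorem line_orbit {r q : K ⧸ H} (hr : u • r = r) (hrb : r ≠ base H) (hq : u • q = q)
    (hqb : q ≠ base H) : q = r ∨ ∃ l : K, IsLeft u a b l ∧ q = l • r := by
  have hof : ∀ {l : K}, IsLeft u a b l → OneFix H u (base H) l :=
    fun hl => (L.left_facts D hl).2.2.2.1
  have hmem : ∀ {l : K}, IsLeft u a b l →
      l • r ∈ ({q : K ⧸ H | u • q = q} \ {base H} : Set (K ⧸ H)) := fun {l} hl =>
    ⟨(hof hl).maps r hr, fun e => hrb (MulAction.injective l (e.trans (hof hl).fix.symm))⟩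
  have hua : IsLeft u a b (u * a) := Or.inl rfl
  have hub : IsLeft u a b (u * b) := Or.inr (Or.inl rfl)
  have hab : IsLeft u a b (a * b) := Or.inr (Or.inr rfl)
  have haline : ∀ {y : K ⧸ H}, u • y = y → u • (a • y) = a • y := fun {y} hy => by
    rw [← mul_smul, ← D.au.eq, mul_smul, hy]
  have hbline : ∀ {y : K ⧸ H}, u • y = y → u • (b • y) = b • y := fun {y} hy => by
    rw [← mul_smul, ← D.bu.eq, mul_smul, hy]
  have e1 : (u * a) • r = a • r := by rw [mul_smul, haline hr]
  have e2 : (u * b) • r = b • r := by rw [mul_smul, hbline hr]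
  have e3 : (a * b) • r = a • b • r := mul_smul a b r
  have haa := L.smul_smul_self (x := a) (Or.inl (L.a_mul_self D))
  rcases four_eq (L.ncard_line_diff D (L.u_base D)) ⟨hr, hrb⟩ (hmem hua) (hmem hub) (hmem hab)
      (fun e => hrb ((hof hua).only r hr e.symm)) (fun e => hrb ((hof hub).only r hr e.symm))
      (fun e => hrb ((hof hab).only r hr e.symm))
      (fun e => hrb (D.ab_fix r hr (by rw [e1, e2] at e; rw [e3, ← e, haa])))
      (fun e => hrb (D.b_fix r hr (by rw [e1, e3] at e; exact (MulAction.injective a e).symm)))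
      (fun e => hrb (D.a_fix (b • r) (hbline hr) (by rw [e2, e3] at e; exact e.symm) |>
        fun e' => MulAction.injective b (e'.trans (smul_base_eq_iff.2 D.good_b.2.2).symm)))
      ⟨hq, hqb⟩ with e | e | e | e
  · exact Or.inl e
  · exact Or.inr ⟨_, hua, e⟩
  · exact Or.inr ⟨_, hub, e⟩
  · exact Or.inr ⟨_, hab, e⟩

/-- The line of a conjugate of `u * a` depends on the coset only. -/
theorem pure_fix_iff (hline : FiveFix H z) {c : K} (hc : Commute c u) (hcb : c • base H = base H)
    (q : K ⧸ H) : (c * (u * a) * c⁻¹) • q = q ↔ (u * a) • q = q := by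
  obtain ⟨hua2, huaH, huau, hua1, -⟩ := L.left_facts D (l := u * a) (Or.inl rfl)
  have hu' : Commute (c * (u * a) * c⁻¹) u := (hc.mul_left huau).mul_left hc.inv_left
  have hsq : c * (u * a) * c⁻¹ * (c * (u * a) * c⁻¹) = z := by
    rw [show c * (u * a) * c⁻¹ * (c * (u * a) * c⁻¹) = c * (u * a * (u * a)) * c⁻¹ by group, hua2,
      ← (L.z_comm c).eq, mul_inv_cancel_right]
  have hline' : ∀ {p : K ⧸ H}, u • p = p → u • (c⁻¹ • p) = c⁻¹ • p := fun {p} hp => by
    rw [← mul_smul, ← hc.inv_left.eq, mul_smul, hp]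
  have h1 : OneFix H u (base H) (c * (u * a) * c⁻¹) :=
    ⟨fun p hp => by rw [← mul_smul, ← hu'.eq, mul_smul, hp],
      fun p _ => L.smul_smul_self (Or.inr hsq) p,
      by rw [mul_smul, mul_smul, inv_smul_eq_iff.2 hcb.symm, hua1.fix, hcb],
      fun p hp e => by
        rw [mul_smul, mul_smul] at e
        have h2 := hua1.only _ (hline' hp) (eq_inv_smul_iff.2 e)
        rw [inv_smul_eq_iff] at h2
        rw [h2, hcb]⟩
  obtain ⟨r, hr, hrb⟩ := L.exists_line_ne D (L.u_base D)
  rcases L.line_orbit D hr hrb (h1.maps r hr) (fun e => hrb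
      (MulAction.injective _ (e.trans h1.fix.symm))) with e | ⟨l, hl, e⟩
  · exact absurd (h1.only r hr e) hrb
  · obtain ⟨hl2, -, hlu, hl1, -⟩ := L.left_facts D hl
    have h2 : φ (c * (u * a) * c⁻¹) = φ l :=
      L.act_eq_of_line hN D hline hsq hl2 (mem_lineStab_of_commute hu')
        (mem_lineStab_of_commute hlu) (L.u_base D) hl1
        fun p hp => L.oneFix_eq D h1 hl1 (L.u_base D) hr hrb e hp
    rw [← L.left_fix_iff hN D hline hl q]
    show φ (c * (u * a) * c⁻¹) q = q ↔ φ l q = q
    rw [h2]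

/-- Two elements of `C(u)` with the same image of the trivial coset have the same pure line. -/
theorem pure_fix_congr (hline : FiveFix H z) {c d : K} (hc : Commute c u) (hd : Commute d u)
    (hcd : c • base H = d • base H) (q : K ⧸ H) :
    (c * (u * a) * c⁻¹) • q = q ↔ (d * (u * a) * d⁻¹) • q = q := by
  have h := L.pure_fix_iff hN D hline (hd.inv_left.mul_left hc)
    (by rw [mul_smul, hcd, inv_smul_smul]) (d⁻¹ • q)
  constructor <;> intro e
  · have e' := h.1 (by
      simp only [mul_inv_rev, inv_inv, mul_smul, smul_inv_smul] at e ⊢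
      rw [e])
    simp only [mul_smul] at e' ⊢
    rw [e', smul_inv_smul]
  · have e' := h.2 (by
      simp only [mul_smul] at e ⊢
      exact eq_inv_smul_iff.2 e)
    simp only [mul_inv_rev, inv_inv, mul_smul, smul_inv_smul] at e' ⊢
    exact MulAction.injective d⁻¹ e'

end Loc

end Cfsg.Agent.TwoCore
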