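/-
Nine points (notes/two_core_structure.md, "25" and "Covering").

* `pureGroup` : the elements acting as products of `u, w, u a, u b`
* `Loc.mem_pureGroup_of_normalizer` : with a coset off both lines, an involution of `H`
  normalising it lies in it
* `Loc.cover` : `K` has nine cosets and `u * a` satisfies the hypotheses of the line lemma
-/
import Cfsg.Agent.Lib.TwoCore.CoverKernel
import Cfsg.Agent.Lib.Signalizer.Transitivity

set_option autoImplicit false
set_option linter.unusedSectionVars false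
set_option linter.unusedVariables false
set_option linter.style.haveILetI false

namespace Cfsg.Agent.TwoCore

open Subgroup Involution MulAction
open scoped Pointwise

universe u

variable {K : Type u} [Group K] [Finite K] {T : Sylow 2 K} {H : Subgroup K} {z v : K}

/-- The action on the cosets. -/
local notation "φ" => MulAction.toPermHom K (K ⧸ H)

variable (H) in
/-- The elements acting as products of `u`, `w`, `u * a` and `u * b`. -/
def pureGroup (u w a b : K) : Subgroup K :=
  (Subgroup.closure {φ u, φ w, φ (u * a), φ (u * b)}).comap φ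

theorem pureGroup_gen {u w a b : K} :
    u ∈ pureGroup H u w a b ∧ w ∈ pureGroup H u w a b ∧ u * a ∈ pureGroup H u w a b ∧
      u * b ∈ pureGroup H u w a b :=
  ⟨subset_closure (Or.inl rfl), subset_closure (Or.inr (Or.inl rfl)),
    subset_closure (Or.inr (Or.inr (Or.inl rfl))), subset_closure (Or.inr (Or.inr (Or.inr rfl)))⟩

namespace Loc

variable (L : Loc T H z v) {u w a b : K} (hN : H.normalCore = zpowers z) (D : LineData H z u w a b)
include L D

theorem act_mul_ab : φ (u * a) * φ (u * b) = φ (a * b) := by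
  rw [← map_mul, show u * a * (u * b) = u * (a * u) * b by group, D.au.eq, ← mul_assoc u u a,
    D.sq_u, mul_assoc, (L.z_comm (a * b)).eq, L.act_mul_z]

/-- An element of `pureGroup` acts as a product of a right and a left pure element. -/
theorem pure_decomp {g : K} (hg : g ∈ pureGroup H u w a b) : ∃ r l : K,
    (r = 1 ∨ IsRight u w r) ∧ (l = 1 ∨ IsLeft u a b l) ∧ φ g = φ r * φ l := by
  set U := φ u with hU
  set W := φ w with hW
  set P := φ (u * a) with hP
  set Q := φ (u * b) with hQ
  have hU2 : U * U = 1 := L.act_mul_self (Or.inr D.sq_u)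
  have hW2 : W * W = 1 := L.act_mul_self (Or.inr D.sq_w)
  obtain ⟨hua2, -, -, -, -⟩ := L.left_facts D (l := u * a) (Or.inl rfl)
  obtain ⟨hub2, -, -, -, -⟩ := L.left_facts D (l := u * b) (Or.inr (Or.inl rfl))
  have hP2 : P * P = 1 := L.act_mul_self (Or.inr hua2)
  have hQ2 : Q * Q = 1 := L.act_mul_self (Or.inr hub2)
  have hUW : Commute U W := L.act_uw D
  have hUP : Commute U P := (L.right_left_comm D (Or.inl rfl) (Or.inl rfl)).map φ
  have hUQ : Commute U Q := (L.right_left_comm D (Or.inl rfl) (Or.inr (Or.inl rfl))).map φ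
  have hWP : Commute W P := (L.right_left_comm D (Or.inr (Or.inl rfl)) (Or.inl rfl)).map φ
  have hWQ : Commute W Q := (L.right_left_comm D (Or.inr (Or.inl rfl)) (Or.inr (Or.inl rfl))).map φ
  have hPQ : Commute P Q := by
    rw [hP, hQ, map_mul, map_mul]
    exact ((Commute.refl _).mul_right (L.act_bu D).symm).mul_left
      ((L.act_au D).mul_right (L.act_ab D))
  have key : ∀ σ ∈ Subgroup.closure {U, W, P, Q}, ∃ i j k l : ℕ,
      σ = U ^ i * W ^ j * (P ^ k * Q ^ l) := by
    intro σ hσ
    rw [← SetLike.mem_coe, ← coe_toSubmonoid, Subgroup.closure_toSubmonoid_of_finite,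
      SetLike.mem_coe] at hσ
    induction hσ using Submonoid.closure_induction with
    | mem x hx =>
      rcases hx with rfl | rfl | rfl | rfl
      · exact ⟨1, 0, 0, 0, by simp⟩
      · exact ⟨0, 1, 0, 0, by simp⟩
      · exact ⟨0, 0, 1, 0, by simp⟩
      · exact ⟨0, 0, 0, 1, by simp⟩
    | one => exact ⟨0, 0, 0, 0, by simp⟩
    | mul x y _ _ ihx ihy =>
      obtain ⟨i, j, k, l, rfl⟩ := ihx
      obtain ⟨i', j', k', l', rfl⟩ := ihy
      refine ⟨i + i', j + j', k + k', l + l', ?_⟩
      rw [pow_add, pow_add, pow_add, pow_add, Commute.mul_mul_mul_comm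
          (((hUP.symm.pow_pow k i').mul_right (hWP.symm.pow_pow k j')).mul_left
            ((hUQ.symm.pow_pow l i').mul_right (hWQ.symm.pow_pow l j'))),
        (hUW.symm.pow_pow j i').mul_mul_mul_comm, (hPQ.symm.pow_pow l k').mul_mul_mul_comm]
  obtain ⟨i, j, k, l, he⟩ := key (φ g) hg
  have hred : ∀ {X : Equiv.Perm (K ⧸ H)}, X * X = 1 → ∀ n : ℕ, X ^ n = 1 ∨ X ^ n = X := by
    intro X hX n
    rcases Nat.even_or_odd n with ⟨m, rfl⟩ | ⟨m, rfl⟩
    · left; rw [← two_mul, pow_mul, sq, hX, one_pow]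
    · right; rw [pow_succ, pow_mul, sq, hX, one_pow, one_mul]
  have hr : ∃ r : K, (r = 1 ∨ IsRight u w r) ∧ φ r = U ^ i * W ^ j := by
    rcases hred hU2 i with e | e <;> rcases hred hW2 j with e' | e' <;> rw [e, e']
    · exact ⟨1, Or.inl rfl, by rw [map_one, one_mul]⟩
    · exact ⟨w, Or.inr (Or.inr (Or.inl rfl)), by rw [one_mul]⟩
    · exact ⟨u, Or.inr (Or.inl rfl), by rw [mul_one]⟩
    · exact ⟨u * w, Or.inr (Or.inr (Or.inr rfl)), by rw [map_mul]⟩
  have hl : ∃ x : K, (x = 1 ∨ IsLeft u a b x) ∧ φ x = P ^ k * Q ^ l := by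
    rcases hred hP2 k with e | e <;> rcases hred hQ2 l with e' | e' <;> rw [e, e']
    · exact ⟨1, Or.inl rfl, by rw [map_one, one_mul]⟩
    · exact ⟨u * b, Or.inr (Or.inr (Or.inl rfl)), by rw [one_mul]⟩
    · exact ⟨u * a, Or.inr (Or.inl rfl), by rw [mul_one]⟩
    · exact ⟨a * b, Or.inr (Or.inr (Or.inr rfl)), (L.act_mul_ab D).symm⟩
  obtain ⟨r, hr, hre⟩ := hr
  obtain ⟨x, hx, hxe⟩ := hl
  exact ⟨r, x, hr, hx, by rw [he, hre, hxe]⟩

theorem pure_mem_H {g : K} (hg : g ∈ pureGroup H u w a b) : g ∈ H := by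
  obtain ⟨r, l, hr, hl, e⟩ := L.pure_decomp D hg
  have hrl : r * l ∈ H := by
    refine H.mul_mem ?_ ?_
    · rcases hr with rfl | hr
      · exact H.one_mem
      · exact (L.right_facts D hr).2.1
    · rcases hl with rfl | hl
      · exact H.one_mem
      · exact (L.left_facts D hl).2.1
  refine smul_base_eq_iff.1 ?_
  show φ g (base H) = base H
  rw [e, ← map_mul]
  exact smul_base_eq_iff.2 hrl

theorem pure_act_sq {g : K} (hg : g ∈ pureGroup H u w a b) : φ g * φ g = 1 := by
  obtain ⟨r, l, hr, hl, e⟩ := L.pure_decomp D hg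
  have hr2 : φ r * φ r = 1 := by
    rcases hr with rfl | hr
    · rw [map_one, one_mul]
    · exact L.act_mul_self (Or.inr (L.right_facts D hr).1)
  have hl2 : φ l * φ l = 1 := by
    rcases hl with rfl | hl
    · rw [map_one, one_mul]
    · exact L.act_mul_self (Or.inr (L.left_facts D hl).1)
  have hc : Commute (φ l) (φ r) := by
    rcases hr with rfl | hr
    · rw [map_one]; exact Commute.one_right _
    rcases hl with rfl | hl
    · rw [map_one]; exact Commute.one_left _
    exact ((L.right_left_comm D hr hl).map φ).symm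
  rw [e, hc.mul_mul_mul_comm, hr2, hl2, one_mul]

theorem pure_inv {g : K} (hg : g ∈ pureGroup H u w a b) : (φ g)⁻¹ = φ g :=
  inv_eq_of_mul_eq_one_right (L.pure_act_sq D hg)

theorem pure_comm {g h : K} (hg : g ∈ pureGroup H u w a b) (hh : h ∈ pureGroup H u w a b) :
    φ g * φ h = φ h * φ g := by
  rw [← L.pure_inv D hg, ← L.pure_inv D hh, ← mul_inv_rev, ← map_mul,
    L.pure_inv D (mul_mem hh hg), map_mul, L.pure_inv D hg, L.pure_inv D hh]

theorem pure_smul_comm {g h : K} (hg : g ∈ pureGroup H u w a b) (hh : h ∈ pureGroup H u w a b)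
    (q : K ⧸ H) : g • (h • q) = h • (g • q) :=
  congrArg (fun σ : Equiv.Perm (K ⧸ H) => σ q) (L.pure_comm D hg hh)

theorem pure_smul_self {g : K} (hg : g ∈ pureGroup H u w a b) (q : K ⧸ H) : g • (g • q) = q :=
  congrArg (fun σ : Equiv.Perm (K ⧸ H) => σ q) (L.pure_act_sq D hg)

theorem pure_mem_z : z ∈ pureGroup H u w a b := by
  rw [pureGroup, mem_comap, L.act_z]
  exact one_mem _

theorem right_mem {r : K} (hr : IsRight u w r) : r ∈ pureGroup H u w a b := by
  obtain ⟨hu, hw, -, -⟩ := pureGroup_gen (H := H) (u := u) (w := w) (a := a) (b := b)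
  rcases hr with rfl | rfl | rfl
  · exact hu
  · exact hw
  · exact mul_mem hu hw

theorem left_mem {l : K} (hl : IsLeft u a b l) : l ∈ pureGroup H u w a b := by
  obtain ⟨-, -, hua, hub⟩ := pureGroup_gen (H := H) (u := u) (w := w) (a := a) (b := b)
  rcases hl with rfl | rfl | rfl
  · exact hua
  · exact hub
  · have := mul_mem hua hub
    rw [pureGroup, mem_comap] at this ⊢
    rwa [map_mul φ (u * a) (u * b), L.act_mul_ab D] at this

include hN

/-- An element fixing a further coset of each line acts trivially. -/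
theorem act_eq_of_agree (hline : FiveFix H z) {g h : K} (hg : g ∈ pureGroup H u w a b)
    (hh : h ∈ pureGroup H u w a b) {p γ : K ⧸ H} (hp : u • p = p) (hpb : p ≠ base H)
    (hγ : (u * a) • γ = γ) (hγb : γ ≠ base H) (h1 : g • p = h • p) (h2 : g • γ = h • γ) :
    φ g = φ h := by
  have hfix : ∀ {q : K ⧸ H}, g • q = h • q → φ (g * h) q = q := fun {q} e => by
    show (g * h) • q = q
    rw [mul_smul, ← e, L.pure_smul_self D hg]
  obtain ⟨r, l, hr, hl, e⟩ := L.pure_decomp D (mul_mem hg hh)
  have key : φ (g * h) = 1 := by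
    rcases hr with rfl | hr
    · rcases hl with rfl | hl
      · rw [e, map_one, one_mul]
      · refine absurd (L.left_inter D hl hp ?_) hpb
        have := hfix h1
        rwa [e, map_one, one_mul] at this
    · rcases hl with rfl | hl
      · refine absurd (L.left_inter D (Or.inl rfl) ?_ hγ) hγb
        refine ((L.right_facts D hr).2.2 γ).1 ?_
        have := hfix h2
        rwa [e, map_one, mul_one] at this
      · refine absurd (L.nine D hr hl ?_) hpb
        have := hfix h1
        rwa [e, ← map_mul] at this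
  rw [map_mul] at key
  rw [eq_inv_of_mul_eq_one_left key, L.pure_inv D hh]

/-- Off both lines the action is free. -/
theorem pure_free {g : K} (hg : g ∈ pureGroup H u w a b) {γ : K ⧸ H} (hu : u • γ ≠ γ)
    (hua : (u * a) • γ ≠ γ) (hline : FiveFix H z) (h : g • γ = γ) : φ g = 1 := by
  obtain ⟨r, l, hr, hl, e⟩ := L.pure_decomp D hg
  have h' : φ g γ = γ := h
  rcases hr with rfl | hr
  · rcases hl with rfl | hl
    · rw [e, map_one, one_mul]
    · rw [e, map_one, one_mul] at h'
      exact absurd ((L.left_fix_iff hN D hline hl γ).1 h') hua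
  · rcases hl with rfl | hl
    · rw [e, map_one, mul_one] at h'
      exact absurd (((L.right_facts D hr).2.2 γ).1 h') hu
    · rw [e, ← map_mul] at h'
      exact absurd (L.u_base D) (L.nine D hr hl h' ▸ hu)

/-- Transitivity off both lines. -/
theorem pure_transitive (hline : FiveFix H z) {γ γ' : K ⧸ H} (hu : u • γ ≠ γ)
    (hua : (u * a) • γ ≠ γ) (hu' : u • γ' ≠ γ') (hua' : (u * a) • γ' ≠ γ') :
    ∃ g ∈ pureGroup H u w a b, g • γ = γ' := by
  obtain ⟨c, hc, hcγ⟩ := L.exists_pure_fix hN D hline hu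
  obtain ⟨c', hc', hcγ'⟩ := L.exists_pure_fix hN D hline hu'
  have hpt : ∀ {c : K}, Commute c u → ∀ {γ : K ⧸ H}, (u * a) • γ ≠ γ →
      (c * (u * a) * c⁻¹) • γ = γ → u • (c • base H) = c • base H ∧ c • base H ≠ base H :=
    fun {c} hc {γ} hne hfix => ⟨by rw [← mul_smul, ← hc.eq, mul_smul, L.u_base D],
      fun e => hne ((L.pure_fix_iff hN D hline hc e γ).1 hfix)⟩
  obtain ⟨hβ, hβb⟩ := hpt hc hua hcγ
  obtain ⟨hβ', hβb'⟩ := hpt hc' hua' hcγ'
  -- move the line of `c` to that of `c'`
  obtain ⟨l, hl, hlu, hlc⟩ : ∃ l ∈ pureGroup H u w a b, Commute l u ∧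
      (l * c) • base H = c' • base H := by
    rcases L.line_orbit D hβ hβb hβ' hβb' with e | ⟨l, hl, e⟩
    · exact ⟨1, one_mem _, Commute.one_left u, by rw [one_mul, e]⟩
    · exact ⟨l, L.left_mem D hl, (L.left_facts D hl).2.2.1, by rw [mul_smul, e]⟩
  have hγ1 : (c' * (u * a) * c'⁻¹) • (l • γ) = l • γ := by
    refine (L.pure_fix_congr hN D hline (hlu.mul_left hc) hc' hlc _).1 ?_
    simp only [mul_inv_rev, mul_smul, inv_smul_smul] at hcγ ⊢
    rw [hcγ]
  -- the four cosets of that line off the line of `u`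
  obtain ⟨hua2, huaH, -, hua1, -⟩ := L.left_facts D (l := u * a) (Or.inl rfl)
  obtain ⟨P, hP⟩ : ∃ P, P = c' * (u * a) * c'⁻¹ := ⟨_, rfl⟩
  rw [← hP] at hγ1 hcγ'
  set S := {q : K ⧸ H | P • q = q} \ {c' • base H} with hS
  have hPu : Commute P u := hP ▸
    (hc'.mul_left (L.left_facts D (Or.inl rfl)).2.2.1).mul_left hc'.inv_left
  have hPb : P • (c' • base H) = c' • base H := by
    rw [hP, mul_smul, mul_smul, inv_smul_smul, hua1.fix]
  have hPsq : P * P = z := by
    rw [hP, show c' * (u * a) * c'⁻¹ * (c' * (u * a) * c'⁻¹) = c' * (u * a * (u * a)) * c'⁻¹ by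
      group, hua2, ← (L.z_comm c').eq, mul_inv_cancel_right]
  have h4 : S.ncard = 4 := by
    rw [hS, Set.ncard_sdiff_singleton_of_mem (show c' • base H ∈ {q : K ⧸ H | P • q = q} from hPb)]
    have hcongr : Nat.card {q : K ⧸ H // (u * a) • q = q} = Nat.card {q : K ⧸ H // P • q = q} :=
      Nat.card_congr ((MulAction.toPerm c').subtypeEquiv fun q => by
        show (u * a) • q = q ↔ P • (c' • q) = c' • q
        rw [hP, ← mul_smul (c' * (u * a) * c'⁻¹) c', inv_mul_cancel_right, mul_smul c' (u * a),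
          (MulAction.injective c').eq_iff])
    have h5 := hline _ (L.lineHyp_pure hN D hline)
    rw [hcongr] at h5
    rw [← Nat.card_coe_set_eq]
    show Nat.card {q : K ⧸ H // P • q = q} - 1 = 4
    omega
  have hoff : ∀ q ∈ S, u • q ≠ q := by
    rintro q ⟨hq, hqne⟩ huq
    refine hqne ?_
    rw [Set.mem_singleton_iff]
    have h1 : u • (c'⁻¹ • q) = c'⁻¹ • q := by rw [← mul_smul, ← hc'.inv_left.eq, mul_smul, huq]
    have h2 : (u * a) • (c'⁻¹ • q) = c'⁻¹ • q := by
      have hq' : P • q = q := hq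
      rw [hP, mul_smul, mul_smul] at hq'
      exact eq_inv_smul_iff.2 hq'
    rw [← hua1.only _ h1 h2, smul_inv_smul]
  have hmap : ∀ r : K, (r = u ∨ r = w) → ∀ q ∈ S, r • q ∈ S := by
    intro r hr q hq
    have hrfix : r • (c' • base H) = c' • base H := by
      rcases hr with rfl | rfl
      · exact hβ'
      · exact D.w_fix _ hβ'
    refine ⟨?_, fun e => hq.2 ?_⟩
    · have hrP : φ (r * P) = φ (P * r) := by
        rcases hr with rfl | rfl
        · rw [hPu.eq]
        · -- `r` fixes the line pointwise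
          have hrN : Normalizes u r := Or.inr D.wu
          have h1 : φ (r * P * r⁻¹) = φ P :=
            Eq.trans (L.act_eq_pure hN D hline (by
              rw [show r * P * r⁻¹ * (r * P * r⁻¹) = r * (P * P) * r⁻¹ by group, hPsq,
                ← (L.z_comm r).eq, mul_inv_cancel_right])
              ((lineStab u).mul_mem ((lineStab u).mul_mem hrN (mem_lineStab_of_commute hPu))
                ((lineStab u).inv_mem hrN)) hc' (fun p hp => by
              have hp1 : r⁻¹ • p = p := inv_smul_eq_iff.2 (D.w_fix p hp).symm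
              have hq1 : u • (a • c'⁻¹ • p) = a • c'⁻¹ • p := by
                rw [← mul_smul u a, ← D.au.eq, mul_smul, ← mul_smul u c'⁻¹, ← hc'.inv_left.eq,
                  mul_smul, hp]
              have hq2 : u • (c' • a • c'⁻¹ • p) = c' • a • c'⁻¹ • p := by
                rw [← mul_smul u c', ← hc'.eq, mul_smul, hq1]
              rw [mul_smul, mul_smul, hp1, hP]
              simp only [mul_smul]
              rw [hq1, D.w_fix _ hq2])) (congrArg _ hP.symm)
          have h2 : φ (r * P * r⁻¹ * r) = φ (P * r) := by rw [map_mul, h1, ← map_mul]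
          rwa [inv_mul_cancel_right] at h2
      show P • (r • q) = r • q
      have h3 : φ (r * P) q = φ (P * r) q := by rw [hrP]
      change (r * P) • q = (P * r) • q at h3
      rw [mul_smul, mul_smul, hq.1] at h3
      exact h3.symm
    · rw [Set.mem_singleton_iff] at e ⊢
      exact MulAction.injective r (e.trans hrfix.symm)
  have hmem : ∀ {q : K ⧸ H}, u • q ≠ q → P • q = q → q ∈ S := fun hne hfix =>
    ⟨hfix, fun e => hne (by rw [e]; exact hβ')⟩
  have hlγ : u • (l • γ) ≠ l • γ := fun e => hu (MulAction.injective l (by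
    show l • (u • γ) = l • γ
    rw [← mul_smul, hlu.eq, mul_smul]; exact e))
  rcases L.four_orbit D h4 hoff (hmap u (Or.inl rfl)) (hmap w (Or.inr rfl)) (hmem hlγ hγ1)
      (hmem hu' hcγ') with e | ⟨r, hr, e⟩
  · exact ⟨l, hl, e.symm⟩
  · exact ⟨r * l, mul_mem (L.right_mem D hr) hl, by rw [mul_smul]; exact e.symm⟩

/-- An involution preserving both lines and normalising `pureGroup` centralises it. -/
theorem act_conj_eq (hline : FiveFix H z) {y : K} (hy : Good H z y)
    (hnorm : ∀ g ∈ pureGroup H u w a b, y * g * y⁻¹ ∈ pureGroup H u w a b)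
    (hY : ∀ q : K ⧸ H, u • q = q → u • (y • q) = y • q)
    (hS : ∀ q : K ⧸ H, (u * a) • q = q → (u * a) • (y • q) = y • q) {h : K}
    (hh : h ∈ pureGroup H u w a b) : φ (y * h * y⁻¹) = φ h := by
  have hyfix : ∀ q : K ⧸ H, y • q = q → q = base H := fun q hq =>
    L.eq_of_fix hy.1 hy.2.1 hq (smul_base_eq_iff.2 hy.2.2)
  have hyy : ∀ q : K ⧸ H, y • (y • q) = q := L.smul_smul_self (Or.inl (mul_self hy.1))
  have hhb : h • base H = base H := smul_base_eq_iff.2 (L.pure_mem_H D hh)
  have hyb : y • base H = base H := smul_base_eq_iff.2 hy.2.2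
  obtain ⟨p, hp, hpb⟩ := L.exists_line_ne D (L.u_base D)
  obtain ⟨γ, hγ⟩ := Set.nonempty_of_ncard_ne_zero
    (show ({q : K ⧸ H | (u * a) • q = q} \ {base H} : Set (K ⧸ H)).ncard ≠ 0 by
      rw [L.ncard_pure hN D hline]; omega)
  obtain ⟨hu0, -, hua0, -⟩ := pureGroup_gen (H := H) (u := u) (w := w) (a := a) (b := b)
  have hagree : ∀ q : K ⧸ H, ∀ ρ ∈ pureGroup H u w a b,
      y • q = ρ • q → y • (h • q) = ρ • (h • q) → (y * h * y⁻¹) • q = h • q := by
    intro q ρ hρ h1 h2
    rw [mul_smul, mul_smul, inv_eq hy.1, h1, L.pure_smul_comm D hh hρ, ← h2, hyy]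
  refine L.act_eq_of_agree hN D hline (hnorm h hh) hh hp hpb hγ.1 hγ.2 ?_ ?_
  · have hyp := hY p hp
    have hypb : y • p ≠ base H := fun e => hpb (MulAction.injective y (e.trans hyb.symm))
    rcases L.line_orbit D hp hpb hyp hypb with e | ⟨ρ, hρ, e⟩
    · exact absurd (hyfix p e) hpb
    refine hagree p ρ (L.left_mem D hρ) e ?_
    have hy1 : OneFix H u (base H) y :=
      ⟨hY, fun q _ => hyy q, hyb, fun q _ hq => hyfix q hq⟩
    refine L.oneFix_eq D hy1 (L.left_facts D hρ).2.2.2.1 (L.u_base D) hp hpb e ?_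
    rw [L.pure_smul_comm D hu0 hh, hp]
  · set S := {q : K ⧸ H | (u * a) • q = q} \ {base H}
    have hb : ∀ {g : K}, g • base H = base H → (∀ q : K ⧸ H, (u * a) • q = q →
        (u * a) • (g • q) = g • q) → ∀ q ∈ S, g • q ∈ S := fun {g} hg hmap q hq =>
      ⟨hmap q hq.1, fun e => hq.2 (MulAction.injective g ((Set.mem_singleton_iff.1 e).trans hg.symm))⟩
    obtain ⟨hoff, hmaps⟩ := L.pure_off hN D hline
    rcases L.four_orbit D (L.ncard_pure hN D hline) hoff (hmaps u (Or.inl rfl))
        (hmaps w (Or.inr (Or.inl rfl))) hγ (hb hyb hS γ hγ) with e | ⟨ρ, hρ, e⟩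
    · exact absurd (hyfix γ e) hγ.2
    refine hagree γ ρ (L.right_mem D hρ) e ?_
    refine eq_on_four (L.ncard_pure hN D hline) (hb hyb hS) (hmaps ρ hρ) (fun q _ => hyy q)
      (fun q _ => L.pure_smul_self D (L.right_mem D hρ) q) (fun q hq e' => hq.2 (hyfix q e'))
      (fun q hq e' => hoff q hq (((L.right_facts D hρ).2.2 q).1 e')) hγ e
      (hb hhb (fun q hq => ?_) γ hγ)
    rw [L.pure_smul_comm D hua0 hh, hq]

/-- With a coset off both lines, an involution of `H` normalising `pureGroup` lies in it. -/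
theorem mem_pureGroup_of_normalizer (hline : FiveFix H z) {γ₀ : K ⧸ H} (hu₀ : u • γ₀ ≠ γ₀)
    (hua₀ : (u * a) • γ₀ ≠ γ₀) {y : K} (hy : Good H z y)
    (hnorm : ∀ g ∈ pureGroup H u w a b, y * g * y⁻¹ ∈ pureGroup H u w a b) :
    y ∈ pureGroup H u w a b := by
  obtain ⟨hu0, hw0, hua0, hub0⟩ := pureGroup_gen (H := H) (u := u) (w := w) (a := a) (b := b)
  have hyfix : ∀ q : K ⧸ H, y • q = q → q = base H := fun q hq =>
    L.eq_of_fix hy.1 hy.2.1 hq (smul_base_eq_iff.2 hy.2.2)
  have hyy : ∀ q : K ⧸ H, y • (y • q) = q := L.smul_smul_self (Or.inl (mul_self hy.1))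
  have hyb : y • base H = base H := smul_base_eq_iff.2 hy.2.2
  -- the image of a pure element fixing two cosets
  have himage : ∀ {x : K}, x ∈ pureGroup H u w a b → φ x ≠ 1 → ∀ {p : K ⧸ H}, x • p = p →
      p ≠ base H → (∀ q : K ⧸ H, (y * x * y⁻¹) • (y • q) = y • q ↔ x • q = q) ∧
        ((∀ q : K ⧸ H, (y * x * y⁻¹) • q = q ↔ u • q = q) ∨
          (∀ q : K ⧸ H, (y * x * y⁻¹) • q = q ↔ (u * a) • q = q)) := by
    intro x hx hx1 p hp hpb
    have heq : ∀ q : K ⧸ H, (y * x * y⁻¹) • (y • q) = y • q ↔ x • q = q := fun q => by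
      rw [mul_smul, mul_smul, inv_smul_smul, (MulAction.injective y).eq_iff]
    refine ⟨heq, ?_⟩
    obtain ⟨r, l, hr, hl, e⟩ := L.pure_decomp D (hnorm x hx)
    have hval : ∀ q : K ⧸ H, (y * x * y⁻¹) • q = φ r (φ l q) := fun q =>
      congrArg (fun σ : Equiv.Perm (K ⧸ H) => σ q) e
    rcases hr with rfl | hr
    · rcases hl with rfl | hl
      · refine absurd ?_ hx1
        rw [map_one, one_mul, map_mul, map_mul, map_inv, conj_eq_one_iff] at e
        exact e
      · exact Or.inr fun q => by rw [hval, map_one]; exact L.left_fix_iff hN D hline hl q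
    · rcases hl with rfl | hl
      · exact Or.inl fun q => by rw [hval, map_one]; exact (L.right_facts D hr).2.2 q
      · refine absurd ?_ hpb
        refine MulAction.injective y (Eq.trans ?_ hyb.symm)
        refine L.nine D hr hl ?_
        show (r * l) • (y • p) = y • p
        rw [mul_smul]
        exact (hval _).symm.trans ((heq p).2 hp)
  have hmoved : ∀ {x : K} {q : K ⧸ H}, x • q ≠ q → φ x ≠ 1 := fun {x q} h e =>
    h (congrArg (fun σ : Equiv.Perm (K ⧸ H) => σ q) e)
  obtain ⟨p, hp, hpb⟩ := L.exists_line_ne D (L.u_base D)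
  obtain ⟨p', hp'⟩ := Set.nonempty_of_ncard_ne_zero
    (show ({q : K ⧸ H | (u * a) • q = q} \ {base H} : Set (K ⧸ H)).ncard ≠ 0 by
      rw [L.ncard_pure hN D hline]; omega)
  obtain ⟨hequ, hu⟩ := himage hu0 (hmoved hu₀) hp hpb
  obtain ⟨hequa, hua⟩ := himage hua0 (hmoved hua₀) hp'.1 hp'.2
  -- `γ₀` is moved by an element of the group
  have hyoff : u • (y • γ₀) ≠ y • γ₀ ∧ (u * a) • (y • γ₀) ≠ y • γ₀ := by
    have key : ∀ q : K ⧸ H, u • q = q ∨ (u * a) • q = q →
        u • (y • q) = y • q ∨ (u * a) • (y • q) = y • q := by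
      rintro q (hq | hq)
      · rcases hu with h | h
        · exact Or.inl ((h _).1 ((hequ q).2 hq))
        · exact Or.inr ((h _).1 ((hequ q).2 hq))
      · rcases hua with h | h
        · exact Or.inl ((h _).1 ((hequa q).2 hq))
        · exact Or.inr ((h _).1 ((hequa q).2 hq))
    constructor <;> intro e
    · have := key _ (Or.inl e)
      rw [hyy] at this
      exact this.elim hu₀ hua₀
    · have := key _ (Or.inr e)
      rw [hyy] at this
      exact this.elim hu₀ hua₀
  obtain ⟨g, hg, hgγ⟩ := L.pure_transitive hN D hline hu₀ hua₀ hyoff.1 hyoff.2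
  rcases hu with hu | hu
  · -- both lines are preserved
    have hY : ∀ q : K ⧸ H, u • q = q → u • (y • q) = y • q :=
      fun q hq => (hu _).1 ((hequ q).2 hq)
    have hS : ∀ q : K ⧸ H, (u * a) • q = q → (u * a) • (y • q) = y • q := by
      intro q hq
      rcases hua with h | h
      · exfalso
        have h1 : u • (y • p') = y • p' := (h _).1 ((hequa p').2 hp'.1)
        have h2 := hY _ h1
        rw [hyy] at h2
        exact hp'.2 (L.left_inter D (Or.inl rfl) h2 hp'.1)
      · exact (h _).1 ((hequa q).2 hq)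
    have hcent := fun {x : K} (hx : x ∈ pureGroup H u w a b) =>
      L.act_conj_eq hN D hline hy hnorm hY hS hx
    have hycomm : ∀ {x : K}, x ∈ pureGroup H u w a b → φ y * φ x = φ x * φ y := fun {x} hx => by
      rw [← map_mul, ← map_mul, show y * x = y * x * y⁻¹ * y by group, map_mul, hcent hx, ← map_mul]
    set m := g * y with hm
    have hm0 : ∀ x ∈ pureGroup H u w a b, m • (x • γ₀) = x • γ₀ := by
      intro x hx
      have h1 : y • (x • γ₀) = x • (y • γ₀) :=
        congrArg (fun σ : Equiv.Perm (K ⧸ H) => σ γ₀) (hycomm hx)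
      rw [hm, mul_smul, h1, ← hgγ, L.pure_smul_comm D hg hx, L.pure_smul_self D hg]
    have hm2 : φ m * φ m = 1 := by
      rw [hm, map_mul, (show Commute (φ y) (φ g) from hycomm hg).mul_mul_mul_comm,
        L.pure_act_sq D hg, L.act_mul_self (Or.inl (mul_self hy.1)), one_mul]
    have hmem : φ m = 1 → y ∈ pureGroup H u w a b := by
      intro h
      rw [hm, map_mul] at h
      rw [pureGroup, mem_comap, eq_inv_of_mul_eq_one_right h]
      exact inv_mem hg
    have hm1 : m • γ₀ = γ₀ := by simpa using hm0 1 (one_mem _)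
    have hm1u : m • (u • γ₀) = u • γ₀ := hm0 u hu0
    rcases L.act_eq_one hN (k := m * m) (by rw [map_mul]; exact hm2) with hsq | hsq
    · -- an involution fixing two cosets
      refine hmem ?_
      by_cases h1 : m = 1
      · rw [h1, map_one]
      by_cases h2 : m = z
      · rw [h2, L.act_z]
      exact absurd (L.eq_of_fix (orderOf_of_sq hsq h1) h2 hm1u hm1) hu₀
    exfalso
    have hmN : Normalizes u m := by
      have h1 : φ (m * u) = φ (u * m) := by
        rw [hm, map_mul, map_mul, map_mul, map_mul, mul_assoc, hycomm hu0, ← mul_assoc,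
          L.pure_comm D hg hu0, mul_assoc]
      rcases L.act_eq_act hN h1.symm with e | e
      · exact Or.inl (mul_inv_eq_iff_eq_mul.2 e)
      · refine Or.inr (mul_inv_eq_iff_eq_mul.2 ?_)
        rw [e, mul_assoc u m z, ← (L.z_comm m).eq, ← mul_assoc, ← L.inv_eq_mul_z D.sq_u]
    -- its action on the line is that of an element of the group
    have hyp := hY p hp
    have hypb : y • p ≠ base H := fun e => hpb (MulAction.injective y (e.trans hyb.symm))
    rcases L.line_orbit D hp hpb hyp hypb with e | ⟨ρ, hρ, e⟩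
    · exact hpb (hyfix p e)
    have hy1 : OneFix H u (base H) y := ⟨hY, fun q _ => hyy q, hyb, fun q _ hq => hyfix q hq⟩
    obtain ⟨r, l, hr, hl, he⟩ := L.pure_decomp D (mul_mem hg (L.left_mem D hρ))
    have hline2 : ∀ q : K ⧸ H, u • q = q → m • q = l • q := by
      intro q hq
      rw [hm, mul_smul, L.oneFix_eq D hy1 (L.left_facts D hρ).2.2.2.1 (L.u_base D) hp hpb e hq,
        ← mul_smul]
      show φ (g * ρ) q = φ l q
      rw [he, Equiv.Perm.mul_apply]
      rcases hr with rfl | hr
      · rw [map_one, Equiv.Perm.one_apply]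
      · refine ((L.right_facts D hr).2.2 _).2 ?_
        rcases hl with rfl | hl
        · show u • ((1 : K) • q) = (1 : K) • q
          rw [one_smul, hq]
        · exact (L.left_facts D hl).2.2.2.1.maps q hq
    rcases hl with rfl | hl
    · have hfixm : FixesLine H u m := fun q hq => by rw [hline2 q hq, one_smul]
      rcases hmN with e' | e'
      · rcases D.root m (commute_of_conj_eq e') hfixm hsq with e1 | e1 <;> rw [e1] at hm1
        · exact hu₀ hm1
        · exact hu₀ (inv_smul_eq_iff.1 hm1).symm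
      · exact hu₀ (D.inv_root m hsq e' hfixm γ₀ hm1)
    · obtain ⟨hl2, -, hlu, hl1, -⟩ := L.left_facts D hl
      have h1 : φ m = φ l := L.act_eq_of_line hN D hline hsq hl2 hmN
        (mem_lineStab_of_commute hlu) (L.u_base D) hl1 hline2
      refine hua₀ ((L.left_fix_iff hN D hline hl γ₀).1 ?_)
      show φ l γ₀ = γ₀
      rw [← h1]
      exact hm1
  · -- the lines are exchanged: `y` fixes a coset off both
    exfalso
    have hswap : ∀ q : K ⧸ H, u • q = q → (u * a) • (y • q) = y • q :=
      fun q hq => (hu _).1 ((hequ q).2 hq)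
    have hswap' : ∀ q : K ⧸ H, (u * a) • q = q → u • (y • q) = y • q := by
      intro q hq
      rcases hua with h | h
      · exact (h _).1 ((hequa q).2 hq)
      · exfalso
        have h1 : (u * a) • (y • p') = y • p' := (h _).1 ((hequa p').2 hp'.1)
        have h2 : u • p' = p' := by
          have h3 := (hequ p').1 ((hu _).2 h1)
          exact h3
        exact hp'.2 (L.left_inter D (Or.inl rfl) h2 hp'.1)
    obtain ⟨r, l, hr, hl, he⟩ := L.pure_decomp D hg
    have hrmem : r ∈ pureGroup H u w a b := hr.elim (fun e => e ▸ one_mem _) (L.right_mem D)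
    have hlmem : l ∈ pureGroup H u w a b := hl.elim (fun e => e ▸ one_mem _) (L.left_mem D)
    have hrY : ∀ q : K ⧸ H, u • q = q → r • q = q := fun q hq =>
      hr.elim (fun e => by rw [e, one_smul]) fun h => ((L.right_facts D h).2.2 q).2 hq
    have hlS : ∀ q : K ⧸ H, (u * a) • q = q → l • q = q := fun q hq =>
      hl.elim (fun e => by rw [e, one_smul]) fun h => (L.left_fix_iff hN D hline h q).2 hq
    set g₁ := y * r * y⁻¹ with hg₁
    set g₂ := y * l * y⁻¹ with hg₂
    have hg₁S : ∀ q : K ⧸ H, (u * a) • q = q → g₁ • q = q := fun q hq => by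
      rw [hg₁, mul_smul, mul_smul, inv_eq hy.1, hrY _ (hswap' q hq), hyy]
    have hg₂Y : ∀ q : K ⧸ H, u • q = q → g₂ • q = q := fun q hq => by
      rw [hg₂, mul_smul, mul_smul, inv_eq hy.1, hlS _ (hswap q hq), hyy]
    -- `y` squares to `1`
    have hgy : φ (y * g * y⁻¹) = φ g := by
      have h1 : (y * g * y⁻¹) • (g • γ₀) = γ₀ := by
        rw [mul_smul, mul_smul, inv_eq hy.1, hgγ, hyy, hgγ, hyy]
      have h2 := L.pure_free hN D (mul_mem (hnorm g hg) hg) hu₀ hua₀ hline
        (by rw [mul_smul]; exact h1)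
      rw [map_mul] at h2
      rw [eq_inv_of_mul_eq_one_left h2, L.pure_inv D hg]
    have hprod : φ g₁ * φ g₂ = φ r * φ l := by
      rw [← he, ← hgy, hg₁, hg₂, ← map_mul,
        show y * r * y⁻¹ * (y * l * y⁻¹) = y * (r * l) * y⁻¹ by group]
      simp only [map_mul]
      rw [he]
    have hpr : φ (g₂ * r) = φ (g₁ * l) := by
      have hg₁m := hnorm r hrmem
      have hg₂m := hnorm l hlmem
      calc φ (g₂ * r) = φ g₁ * (φ g₁ * φ g₂) * φ r := by
            rw [← mul_assoc, L.pure_act_sq D hg₁m, one_mul, map_mul]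
        _ = φ g₁ * φ l * (φ r * φ r) := by
            rw [hprod, L.pure_comm D hrmem hlmem]; simp only [mul_assoc]
        _ = φ (g₁ * l) := by rw [L.pure_act_sq D hrmem, mul_one, ← map_mul]
    have h1 : φ (g₂ * r) = φ (1 : K) := by
      refine L.act_eq_of_agree hN D hline (mul_mem (hnorm l hlmem) hrmem) (one_mem _) hp hpb
        hp'.1 hp'.2 ?_ ?_
      · rw [one_smul, mul_smul, hrY p hp, hg₂Y p hp]
      · show φ (g₂ * r) p' = (1 : K) • p'
        rw [hpr, one_smul]
        show (g₁ * l) • p' = p'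
        rw [mul_smul, hlS p' hp'.1, hg₁S p' hp'.1]
    rw [hpr, map_one, map_mul] at h1
    have h2 : φ g₁ = φ l := by rw [eq_inv_of_mul_eq_one_left h1, L.pure_inv D hlmem]
    have h3 : y • (r • γ₀) = r • γ₀ := by
      have h4 : g₁ • (y • γ₀) = r • γ₀ := by
        show φ g₁ (y • γ₀) = r • γ₀
        rw [h2, ← hgγ]
        show φ l (φ g γ₀) = φ r γ₀
        rw [he, ← Equiv.Perm.mul_apply, L.pure_comm D hrmem hlmem, ← mul_assoc,
          L.pure_act_sq D hlmem, one_mul]
      rwa [hg₁, mul_smul, mul_smul, inv_smul_smul] at h4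
    refine hu₀ ?_
    have h5 := hyfix _ h3
    have h6 : γ₀ = base H := MulAction.injective r
      (h5.trans (smul_base_eq_iff.2 (L.pure_mem_H D hrmem)).symm)
    rw [h6, L.u_base D]

/-- No coset is off both lines. -/
theorem fix_or_fix (hline : FiveFix H z) (γ : K ⧸ H) : u • γ = γ ∨ (u * a) • γ = γ := by
  haveI : Fact (Nat.Prime 2) := ⟨Nat.prime_two⟩
  by_contra hcon
  push Not at hcon
  obtain ⟨hu₀, hua₀⟩ := hcon
  set T1 := pureGroup H u w a b with hT1
  have h2 : IsPGroup 2 T1 := fun g => ⟨2, Subtype.ext (by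
    show (g : K) ^ 2 ^ 2 = 1
    rw [show (2 : ℕ) ^ 2 = 2 * 2 from rfl, pow_mul, sq (g : K)]
    rcases L.act_eq_one hN (k := (g : K) * g) (by rw [map_mul]; exact L.pure_act_sq D g.2) with
      h | h <;> rw [h]
    · exact one_pow 2
    · rw [sq, L.z_mul_self])⟩
  obtain ⟨h, hh, hhT⟩ := L.exists_conj_T h2 fun g hg => L.pure_mem_H D hg
  -- a Sylow subgroup above it
  set Q := (T : Subgroup K).comap (MulAut.conj h).toMonoidHom with hQdef
  have hQ : IsPGroup 2 Q := T.isPGroup'.comap_of_injective _ (MulAut.conj h).injective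
  have hT1Q : T1 ≤ Q := fun g hg => hhT g hg
  have hQH : ∀ g ∈ Q, g ∈ H := fun g hg => by
    have h1 : h * g * h⁻¹ ∈ H := L.le hg
    have h3 := H.mul_mem (H.mul_mem (H.inv_mem hh) h1) hh
    rwa [show h⁻¹ * (h * g * h⁻¹) * h = g by group] at h3
  have hinvN : ∀ e ∈ Q, e ∈ normalizer (T1 : Set K) → orderOf e = 2 → e ∈ T1 := by
    intro e he hen he2
    by_cases hez : e = z
    · rw [hez]; exact L.pure_mem_z D
    · exact L.mem_pureGroup_of_normalizer hN D hline hu₀ hua₀ ⟨he2, hez, hQH e he⟩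
        fun x hx => (mem_normalizer_iff.1 hen x).1 hx
  have hQN : Q ≤ normalizer (T1 : Set K) := by
    by_contra hne
    obtain ⟨g, hgQ, hgN, hgJ⟩ := Signalizer.exists_mem_normalizer_not_mem (q := 2)
      (D := Q ⊓ normalizer (T1 : Set K)) hQ inf_le_left
      fun e => hne (e ▸ inf_le_right)
    refine hgJ ⟨hgQ, Signalizer.mem_normalizer_of_conj_mem fun x hx => ?_⟩
    set W' := T1.comap (MulAut.conj g).toMonoidHom with hW'
    have hnine : ∀ {r l : K}, IsRight u w r → IsLeft u a b l → r * l ∈ W' := by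
      intro r l hr hl
      have hmem : r * l ∈ T1 := mul_mem (L.right_mem D hr) (L.left_mem D hl)
      obtain ⟨hr2, -, -⟩ := L.right_facts D hr
      obtain ⟨hl2, -, -, -, -⟩ := L.left_facts D hl
      have hne1 : r * l ≠ 1 := fun e => by
        have h1 : (r * l) • γ = γ := by rw [e, one_smul]
        exact hu₀ (L.nine D hr hl h1 ▸ L.u_base D)
      have ho : orderOf (g * (r * l) * g⁻¹) = 2 := by
        rw [orderOf_conj]
        refine orderOf_of_sq ?_ hne1
        rw [mul_assoc, ← mul_assoc l r l, ← (L.right_left_comm D hr hl).eq, mul_assoc r l l, hl2,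
          ← mul_assoc, hr2, L.z_mul_self]
      have hJ := (mem_normalizer_iff.1 hgN _).1
        (show r * l ∈ Q ⊓ normalizer (T1 : Set K) from ⟨hT1Q hmem, le_normalizer hmem⟩)
      exact hinvN _ hJ.1 hJ.2 ho
    have hzW : z ∈ W' := by
      show g * z * g⁻¹ ∈ T1
      rw [← (L.z_comm g).eq, mul_inv_cancel_right]
      exact L.pure_mem_z D
    have huu := hnine (r := u) (Or.inl rfl) (l := u * a) (Or.inl rfl)
    have hwu := hnine (r := w) (Or.inr (Or.inl rfl)) (l := u * a) (Or.inl rfl)
    have huwu := hnine (r := u * w) (Or.inr (Or.inr rfl)) (l := u * a) (Or.inl rfl)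
    have hubb := hnine (r := u) (Or.inl rfl) (l := u * b) (Or.inr (Or.inl rfl))
    have hgu : u ∈ W' := by
      have := W'.mul_mem huwu (W'.inv_mem hwu)
      rwa [show u * w * (u * a) * (w * (u * a))⁻¹ = u by group] at this
    have hgua : u * a ∈ W' := by
      have := W'.mul_mem (W'.inv_mem hgu) huu
      rwa [inv_mul_cancel_left] at this
    have hgub : u * b ∈ W' := by
      have := W'.mul_mem (W'.inv_mem hgu) hubb
      rwa [inv_mul_cancel_left] at this
    have hgw : w ∈ W' := by
      have := W'.mul_mem hwu (W'.inv_mem hgua)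
      rwa [mul_inv_cancel_right] at this
    obtain ⟨r, l, hr, hl, e⟩ := L.pure_decomp D hx
    have hrl : r * l ∈ W' := by
      refine W'.mul_mem ?_ ?_
      · rcases hr with rfl | rfl | rfl | rfl
        · exact W'.one_mem
        · exact hgu
        · exact hgw
        · exact W'.mul_mem hgu hgw
      · rcases hl with rfl | rfl | rfl | rfl
        · exact W'.one_mem
        · exact hgua
        · exact hgub
        · have hzab : z * (a * b) ∈ W' := by
            have := W'.mul_mem hgua hgub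
            rwa [show u * a * (u * b) = u * (a * u) * b by group, D.au.eq, ← mul_assoc u u a,
              D.sq_u, mul_assoc] at this
          have := W'.mul_mem hzW hzab
          rwa [← mul_assoc, L.z_mul_self, one_mul] at this
    rw [← map_mul] at e
    show x ∈ W'
    rcases L.act_eq_act hN e.symm with e' | e' <;> rw [e']
    · exact hrl
    · exact W'.mul_mem hrl hzW
  have hall : ∀ e ∈ Q, orderOf e = 2 → e ∈ T1 := fun e he => hinvN e he (hQN he)
  -- commutation modulo the core, against the separation hypothesis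
  have hP : KernelComm H := by
    intro T' hT' e he f hf he2 hf2
    obtain ⟨h', -, hh'T⟩ := L.exists_conj_T T'.isPGroup' hT'
    set g := h⁻¹ * h' with hgdef
    have hconj : ∀ x ∈ T', orderOf x = 2 → g * x * g⁻¹ ∈ T1 := fun x hx hx2 => hall _ (by
      show h * (g * x * g⁻¹) * h⁻¹ ∈ T
      rw [hgdef, show h * (h⁻¹ * h' * x * (h⁻¹ * h')⁻¹) * h⁻¹ = h' * x * h'⁻¹ by group]
      exact hh'T x hx) (by rw [orderOf_conj]; exact hx2)
    have hc := L.pure_comm D (hconj e he he2) (hconj f hf hf2)
    rw [normalCore_eq_ker, MonoidHom.mem_ker]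
    simp only [map_mul, map_inv] at hc ⊢
    have h3 : φ g * (φ e * φ f) * (φ g)⁻¹ = φ g * (φ f * φ e) * (φ g)⁻¹ := by
      refine Eq.trans ?_ (hc.trans ?_) <;> group
    rw [mul_right_cancel_iff, mul_left_cancel_iff] at h3
    rw [h3]
    group
  obtain ⟨hu0, hw0, hua0, hub0⟩ := pureGroup_gen (H := H) (u := u) (w := w) (a := a) (b := b)
  have hgood : ∀ {r l : K}, IsRight u w r → IsLeft u a b l →
      h * (r * l) * h⁻¹ ∈ T ∧ orderOf (h * (r * l) * h⁻¹) = 2 ∧ h * (r * l) * h⁻¹ ≠ z := by
    intro r l hr hl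
    obtain ⟨hr2, -, -⟩ := L.right_facts D hr
    obtain ⟨hl2, -, -, -, -⟩ := L.left_facts D hl
    have hmove : (r * l) • γ ≠ γ := fun e => hu₀ (L.nine D hr hl e ▸ L.u_base D)
    refine ⟨hhT _ (mul_mem (L.right_mem D hr) (L.left_mem D hl)), ?_, fun e => hmove ?_⟩
    · rw [orderOf_conj]
      refine orderOf_of_sq ?_ fun e => hmove (by rw [e, one_smul])
      rw [mul_assoc, ← mul_assoc l r l, ← (L.right_left_comm D hr hl).eq, mul_assoc r l l, hl2,
        ← mul_assoc, hr2, L.z_mul_self]
    · rw [show r * l = h⁻¹ * (h * (r * l) * h⁻¹) * h by group, e, ← (L.z_comm h⁻¹).eq,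
        inv_mul_cancel_right, L.z_smul]
  obtain ⟨hdT, hd2, hdz⟩ := hgood (r := u) (Or.inl rfl) (l := u * a) (Or.inl rfl)
  obtain ⟨heT, he2, -⟩ := hgood (r := w) (Or.inr (Or.inl rfl)) (l := u * b) (Or.inr (Or.inl rfl))
  obtain ⟨hfT, hf2, -⟩ := hgood (r := u * w) (Or.inr (Or.inr rfl)) (l := u * b)
    (Or.inr (Or.inl rfl))
  -- `u (u a)` commutes with both, which do not commute
  have hubb' : Commute (u * b) u := (L.left_facts D (Or.inr (Or.inl rfl))).2.2.1
  have hawb : Commute a (w * (u * b)) := by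
    show a * (w * (u * b)) = w * (u * b) * a
    have h1 : u * b * a = a * (u * b) * z := by
      rw [mul_assoc, show b * a = a * b * z by rw [L.ab_eq D, mul_assoc, L.z_mul_self, mul_one],
        ← mul_assoc, ← mul_assoc, ← D.au.eq, mul_assoc a u b]
    calc a * (w * (u * b)) = a * w * z * (u * b) * z := by
          rw [mul_assoc (a * w) z, (L.z_comm (u * b)).eq, mul_assoc (a * w), mul_assoc (u * b) z z,
            L.z_mul_self, mul_one, mul_assoc]
      _ = w * (u * b) * a := by
          rw [← L.wa_eq D, mul_assoc w (u * b) a, h1]; group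
  have hd : ∀ {x : K}, Commute a x → Commute (u * (u * a)) x := fun {x} hx => by
    rw [← mul_assoc, D.sq_u]
    exact (L.z_comm x).mul_left hx
  have hcd1 : Commute (h * (u * (u * a)) * h⁻¹) (h * (w * (u * b)) * h⁻¹) :=
    (hd hawb).map (MulAut.conj h).toMonoidHom
  have hcd2 : Commute (h * (u * (u * a)) * h⁻¹) (h * (u * w * (u * b)) * h⁻¹) := by
    refine (hd ?_).map (MulAut.conj h).toMonoidHom
    rw [mul_assoc u w]
    exact D.au.mul_right hawb
  have hcef := L.sep hP _ hdT _ heT _ hfT hd2 he2 hf2 hdz hcd1 hcd2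
  have hef : Commute (w * (u * b)) (u * w * (u * b)) := by
    have h1 := hcef.map (MulAut.conj h⁻¹).toMonoidHom
    simpa [mul_assoc] using h1
  refine ne_one L.z2 ?_
  have hwub : Commute w (u * b) := (L.left_facts D (Or.inr (Or.inl rfl))).2.2.2.2
  have huwub : Commute (u * w) (u * b) := hubb'.symm.mul_left hwub
  have h1 := hef.eq
  rw [huwub.symm.mul_mul_mul_comm, hwub.symm.mul_mul_mul_comm, mul_left_inj, ← mul_assoc,
    mul_left_inj, L.wu_eq D] at h1
  exact mul_left_cancel (a := u * w) (h1.trans (mul_one _).symm)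

/-- Nine cosets; `u * a` satisfies the hypotheses of the line lemma. -/
theorem cover (hline : FiveFix H z) : Nat.card (K ⧸ H) = 9 ∧ LineHyp H z (u * a) := by
  refine ⟨?_, L.lineHyp_pure hN D hline⟩
  have huniv : ({q : K ⧸ H | u • q = q} ∪ {q | (u * a) • q = q} : Set (K ⧸ H)) = Set.univ :=
    Set.eq_univ_of_forall fun q => L.fix_or_fix hN D hline q
  have hua : (u * a) • base H = base H :=
    smul_base_eq_iff.2 (L.left_facts D (Or.inl rfl)).2.1
  have hinter : ({q : K ⧸ H | u • q = q} ∩ {q | (u * a) • q = q} : Set (K ⧸ H)) = {base H} := by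
    ext q
    refine ⟨fun hq => L.left_inter D (Or.inl rfl) hq.1 hq.2, ?_⟩
    rintro rfl
    exact ⟨L.u_base D, hua⟩
  have h := Set.ncard_union_add_ncard_inter {q : K ⧸ H | u • q = q} {q | (u * a) • q = q}
    (Set.toFinite _) (Set.toFinite _)
  have h5 : ({q : K ⧸ H | (u * a) • q = q} : Set (K ⧸ H)).ncard = 5 := by
    rw [← Nat.card_coe_set_eq]
    exact hline _ (L.lineHyp_pure hN D hline)
  rw [huniv, hinter, Set.ncard_univ, Set.ncard_singleton, L.ncard_line D, h5] at h
  omega

end Loc

end Cfsg.Agent.TwoCore
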