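/-
The local configuration of the core killing theorem (notes/two_core_structure.md, part II).

* `KernelComm H` : two involutions of a common Sylow of `H` commute modulo the kernel of `K / H`
* `CentComm T z` : involutions of `T` commuting with a non-central one commute
* `LocBase T H z v`, `LocB`, `Loc T H z v` : `z` central, every other involution of `H` controls its fusion, `v` marked
* basic consequences
-/
import Cfsg.Agent.Lib.Signalizer.Core
import Cfsg.Agent.Lib.Signalizer.ElemAb
import Cfsg.Agent.Lib.Signalizer.PAction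
import Cfsg.Agent.Lib.Involution.Basic
import Cfsg.Agent.Lib.Cores.Basic

set_option autoImplicit false
set_option linter.unusedSectionVars false
set_option linter.style.haveILetI false

namespace Cfsg.Agent.TwoCore

open Subgroup Involution

universe u

variable {K : Type u} [Group K]

/-- Two involutions of a common Sylow subgroup inside `H` commute modulo the core of `H`. -/
def KernelComm (H : Subgroup K) : Prop :=
  ∀ T' : Sylow 2 K, (T' : Subgroup K) ≤ H → ∀ e ∈ T', ∀ f ∈ T', orderOf e = 2 → orderOf f = 2 →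
    e * f * e⁻¹ * f⁻¹ ∈ H.normalCore

/-- Involutions of `T` centralising the same involution other than `z` commute. -/
def CentComm (T : Sylow 2 K) (z : K) : Prop :=
  ∀ d ∈ T, ∀ e ∈ T, ∀ f ∈ T, orderOf d = 2 → orderOf e = 2 → orderOf f = 2 → d ≠ z →
    Commute d e → Commute d f → Commute e f

/-- `u` fixes at least two cosets of `H`, the trivial one among them. -/
def FixesTwo (H : Subgroup K) (u : K) : Prop :=
  u ∈ H ∧ ∃ g : K, g ∉ H ∧ g⁻¹ * u * g ∈ H

/-- An involution of `H` other than `z`. -/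
def Good (H : Subgroup K) (z d : K) : Prop :=
  orderOf d = 2 ∧ d ≠ z ∧ d ∈ H

/-- The marked configuration, modulo the odd core. -/
structure LocBase (T : Sylow 2 K) (H : Subgroup K) (z v : K) : Prop where
  core : Cfsg.pPrimeCore 2 K = ⊥
  z2 : orderOf z = 2
  zc : z ∈ center K
  le : (T : Subgroup K) ≤ H
  ne_top : H ≠ ⊤
  ctl : ∀ d : K, orderOf d = 2 → d ≠ z → d ∈ H → ∀ g : K, g * d * g⁻¹ ∈ H → g ∈ H
  v2 : orderOf v = 2
  vz : v ≠ z
  vT : v ∈ T
  mark : ∀ s ∈ T, s * v * s⁻¹ * v⁻¹ = 1 ∨ s * v * s⁻¹ * v⁻¹ = z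

/-- A marked configuration with an elementary group of order 8 at `v` in which the roots of `z`
centralise good involutions. -/
structure LocB (T : Sylow 2 K) (H : Subgroup K) (z v : K) : Prop extends LocBase T H z v where
  e8v : ∃ F : Subgroup K, F ≤ (T : Subgroup K) ∧ Cfsg.IsElementaryAbelian 2 F ∧ 2 ^ 3 ≤ Nat.card F ∧ v ∈ F
  root : ∀ u ∈ H, u * u = z → ∃ f, Good H z f ∧ Commute f u

/-- The local configuration, modulo the odd core. -/
structure Loc (T : Sylow 2 K) (H : Subgroup K) (z v : K) : Prop extends LocB T H z v where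
  e8 : ∀ e ∈ T, orderOf e = 2 →
    ∃ F : Subgroup K, F ≤ (T : Subgroup K) ∧ Cfsg.IsElementaryAbelian 2 F ∧ 2 ^ 3 ≤ Nat.card F ∧ e ∈ F
  sep : KernelComm H → CentComm T z

open scoped Pointwise

variable [Finite K] {T : Sylow 2 K} {H : Subgroup K} {z v : K}

theorem commute_of_mem_center {x y : K} (hx : x ∈ center K) : Commute x y :=
  (mem_center_iff.1 hx y).symm

/-- Two elements at most lie in a subgroup generated by an involution. -/
theorem card_le_two_of_forall {A : Subgroup K} {x : K} (h : ∀ a ∈ A, a = 1 ∨ a = x) :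
    Nat.card A ≤ 2 := by
  classical
  refine le_trans (Nat.card_le_card_of_injective (fun a : A => decide ((a : K) = 1)) ?_)
    (le_of_eq (by simp))
  intro a b hab
  have hab' : decide ((a : K) = 1) = decide ((b : K) = 1) := hab
  rw [decide_eq_decide] at hab'
  refine Subtype.ext ?_
  rcases h a a.2 with h1 | h1 <;> rcases h b b.2 with h2 | h2
  · rw [h1, h2]
  · rw [h1, hab'.1 h1]
  · rw [hab'.2 h2, h2]
  · rw [h1, h2]

namespace LocBase

variable (L : LocBase T H z v)
include L

theorem z_comm (x : K) : Commute z x := commute_of_mem_center L.zc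

theorem z_mem_T : z ∈ T := by
  have h : ∀ s ∈ (T : Subgroup K), s * z = z * s := fun s _ => (L.z_comm s).symm.eq
  have hP : IsPGroup 2 ↥((T : Subgroup K) ⊔ zpowers z) :=
    T.isPGroup'.to_sup_of_normal_right' (IsPGroup.of_card (n := 1)
      (by rw [Nat.card_zpowers, L.z2, pow_one]))
      (fun x _ => mem_normalizer_iff.2 fun w => by
        constructor
        · rintro hw
          obtain ⟨i, rfl⟩ := mem_zpowers_iff.1 hw
          rw [(((L.z_comm x).symm).zpow_right i).eq, mul_inv_cancel_right]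
          exact ⟨i, rfl⟩
        · rintro hw
          obtain ⟨i, hi⟩ := mem_zpowers_iff.1 hw
          refine ⟨i, ?_⟩
          show z ^ i = w
          have : x⁻¹ * z ^ i * x = w := by rw [hi]; group
          rw [← this, (((L.z_comm x⁻¹).symm).zpow_right i).eq, inv_mul_cancel_right])
  have := T.is_maximal' hP le_sup_left
  have hz : z ∈ (T : Subgroup K) ⊔ zpowers z :=
    (le_sup_right : zpowers z ≤ _) (mem_zpowers z)
  rwa [this] at hz

theorem z_mem_H : z ∈ H := L.le L.z_mem_T

theorem v_mem_H : v ∈ H := L.le L.vT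

/-- A 2-subgroup of `H` is conjugate into `T` inside `H`. -/
theorem exists_conj_T {P : Subgroup K} (hP : IsPGroup 2 P) (hPH : P ≤ H) :
    ∃ h ∈ H, ∀ x ∈ P, h * x * h⁻¹ ∈ T := by
  obtain ⟨Q, hQ⟩ := (hP.comap_of_injective H.subtype H.subtype_injective).exists_le_sylow
  obtain ⟨g, hg⟩ := MulAction.exists_smul_eq H Q (T.subtype L.le)
  refine ⟨g, g.2, fun x hx => ?_⟩
  have h1 : (⟨x, hPH hx⟩ : H) ∈ Q := hQ (show (⟨x, hPH hx⟩ : H) ∈ P.comap H.subtype from hx)
  have h2 : g * ⟨x, hPH hx⟩ * g⁻¹ ∈ (T.subtype L.le : Sylow 2 H) := by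
    rw [← hg]
    show g * ⟨x, hPH hx⟩ * g⁻¹ ∈ MulAut.conj g • (Q : Subgroup H)
    exact ⟨⟨x, hPH hx⟩, h1, rfl⟩
  exact h2

/-- An involution other than `z` fixes only one coset. -/
theorem not_fixesTwo {d : K} (hd : orderOf d = 2) (hdz : d ≠ z) : ¬ FixesTwo H d := by
  rintro ⟨hdH, g, hg, hgd⟩
  refine hg (inv_mem_iff.1 (L.ctl d hd hdz hdH g⁻¹ ?_))
  rwa [inv_inv]

theorem commute_mem {d c : K} (hd : orderOf d = 2) (hdz : d ≠ z) (hdH : d ∈ H) (hc : Commute c d) :
    c ∈ H :=
  L.ctl d hd hdz hdH c (by rw [hc.eq, mul_inv_cancel_right]; exact hdH)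

/-- The core of `H` has no involution but `z`. -/
theorem eq_z_of_mem_core {d : K} (hd : orderOf d = 2) (hdN : d ∈ H.normalCore) : d = z := by
  by_contra hne
  refine L.ne_top (eq_top_iff.2 fun g _ => L.ctl d hd hne (H.normalCore_le hdN) g ?_)
  exact H.normalCore_le (H.normalCore_normal.conj_mem d hdN g)

theorem z_mem_core : z ∈ H.normalCore := fun g => by
  rw [(L.z_comm g).symm.eq, mul_inv_cancel_right]
  exact L.z_mem_H

theorem core_le : H.normalCore ≤ H := H.normalCore_le

/-- No odd normal subgroup in the core of `H`. -/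
theorem core_odd_eq_bot {A : Subgroup K} (hA : A.Normal) (hodd : ¬ 2 ∣ Nat.card A) : A = ⊥ := by
  have := Cores.le_pPrimeCore (p := 2) hA ((Nat.Prime.coprime_iff_not_dvd Nat.prime_two).2 hodd).symm
  rwa [L.core, le_bot_iff] at this

/-- An element of a subgroup without involutions other than `z` whose square is `1`. -/
theorem eq_one_or_z_of_sq {d : K} (hd : d * d = 1) (hdN : d ∈ H.normalCore) : d = 1 ∨ d = z := by
  by_cases h1 : d = 1
  · exact Or.inl h1
  · exact Or.inr (L.eq_z_of_mem_core (orderOf_of_sq hd h1) hdN)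

/-- An elementary abelian group meets the core in at most `⟨z⟩`. -/
theorem card_map_mk' {F : Subgroup K} (hF : Cfsg.IsElementaryAbelian 2 F) :
    Nat.card F ≤ 2 * Nat.card (F.map (QuotientGroup.mk' H.normalCore)) := by
  set φ := (QuotientGroup.mk' H.normalCore).comp F.subtype with hφ
  have hrange : φ.range = F.map (QuotientGroup.mk' H.normalCore) := by
    rw [hφ, MonoidHom.range_comp, range_subtype]
  have hker : Nat.card φ.ker ≤ 2 := by
    rw [← Nat.card_congr (Equiv.ofBijective (fun a : φ.ker => (⟨((a : F) : K), a, a.2, rfl⟩ :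
      φ.ker.map F.subtype)) ⟨fun a b h => Subtype.ext (Subtype.ext (congrArg
        (fun w : φ.ker.map F.subtype => (w : K)) h)),
        fun w => by obtain ⟨w, a, ha, rfl⟩ := w; exact ⟨⟨a, ha⟩, rfl⟩⟩).symm]
    refine card_le_two_of_forall (x := z) ?_
    rintro _ ⟨a, ha, rfl⟩
    exact L.eq_one_or_z_of_sq (by rw [← pow_two]; exact hF.2 _ a.2)
      ((QuotientGroup.eq_one_iff _).1 ha)
  rw [← φ.ker.card_mul_index, index_ker, hrange]
  exact Nat.mul_le_mul_right _ hker

/-- The core of `H` has no odd normal subgroup. -/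
theorem pPrimeCore_core : Cfsg.pPrimeCore 2 H.normalCore = ⊥ := by
  haveI := H.normalCore_normal
  haveI : (Cfsg.pPrimeCore 2 H.normalCore).Characteristic := inferInstance
  have h := L.core_odd_eq_bot
    (Cores.map_subtype_normal_of_characteristic H.normalCore (Cfsg.pPrimeCore 2 H.normalCore))
    (by
      rw [Cores.card_map_subtype]
      exact (Nat.Prime.coprime_iff_not_dvd Nat.prime_two).1 (Cores.coprime_card_pPrimeCore 2).symm)
  exact (map_eq_bot_iff_of_injective _ H.normalCore.subtype_injective).1 h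

end LocBase

namespace LocB

variable (L : LocB T H z v)
include L

/-- The quotient by the core of `H` has no odd normal subgroup. -/
theorem pPrimeCore_quotient : Cfsg.pPrimeCore 2 (K ⧸ H.normalCore) = ⊥ := by
  haveI : Fact (Nat.Prime 2) := ⟨Nat.prime_two⟩
  set A := Cfsg.pPrimeCore 2 (K ⧸ H.normalCore) with hA
  haveI hAn : A.Normal := Cores.pPrimeCore_normal 2 _
  obtain ⟨F, hFT, hF, hF3, -⟩ := L.e8v
  have hEab : Cfsg.IsElementaryAbelian 2 (F.map (QuotientGroup.mk' H.normalCore)) := by
    refine ⟨⟨⟨?_⟩⟩, ?_⟩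
    · rintro ⟨_, a, ha, rfl⟩ ⟨_, b, hb, rfl⟩
      exact Subtype.ext ((map_mul (QuotientGroup.mk' H.normalCore) a b).symm.trans ((congrArg (QuotientGroup.mk' H.normalCore)
        (Signalizer.commute_of_isMulCommutative hF.1 ha hb)).trans (map_mul (QuotientGroup.mk' H.normalCore) b a)))
    · rintro _ ⟨a, ha, rfl⟩
      rw [← map_pow, hF.2 a ha, map_one]
  have hE4 : 2 ^ 2 ≤ Nat.card (F.map (QuotientGroup.mk' H.normalCore)) := by
    have := L.card_map_mk' hF
    omega
  have hle : A ≤ H.map (QuotientGroup.mk' H.normalCore) := by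
    refine Signalizer.le_of_elements hEab hE4 (H.map (QuotientGroup.mk' H.normalCore)) A
      (((Nat.Prime.coprime_iff_not_dvd Nat.prime_two).1 (Cores.coprime_card_pPrimeCore 2).symm))
      (by rw [normalizer_eq_top]; exact le_top) ?_
    rintro _ ⟨e, he, rfl⟩ he1 x ⟨-, hx⟩
    obtain ⟨c, rfl⟩ := QuotientGroup.mk'_surjective H.normalCore x
    have he2 : orderOf e = 2 := orderOf_of_sq (by rw [← pow_two]; exact hF.2 e he)
      (fun h => he1 (by rw [h, map_one]))
    have hez : e ≠ z := fun h => he1 (by rw [h]; exact (QuotientGroup.eq_one_iff _).2 L.z_mem_core)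
    refine mem_map_of_mem (QuotientGroup.mk' H.normalCore) (L.ctl e he2 hez (L.le (hFT he)) c ?_)
    have h1 : (QuotientGroup.mk' H.normalCore) (c * e * c⁻¹ * e⁻¹) = 1 := by
      rw [map_mul, map_mul, map_mul, map_inv, map_inv, (mem_centralizer_singleton_iff.1 hx)]
      group
    have h2 := mul_mem (L.core_le ((QuotientGroup.eq_one_iff _).1 h1)) (L.le (hFT he))
    rwa [inv_mul_cancel_right] at h2
  refine eq_bot_iff.2 fun x hx => ?_
  obtain ⟨g, rfl⟩ := QuotientGroup.mk'_surjective H.normalCore x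
  refine (QuotientGroup.eq_one_iff g).2 fun c => ?_
  obtain ⟨h, hh, hhe⟩ := hle (hAn.conj_mem _ hx ((QuotientGroup.mk' H.normalCore) c))
  have h1 : (QuotientGroup.mk' H.normalCore) (h⁻¹ * (c * g * c⁻¹)) = 1 := by
    rw [map_mul, map_inv, hhe, map_mul, map_mul, map_inv]; group
  have h2 := mul_mem hh (L.core_le ((QuotientGroup.eq_one_iff _).1 h1))
  rwa [mul_inv_cancel_left] at h2

end LocB

end Cfsg.Agent.TwoCore
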