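/-
The dichotomy of the two-core structure theorem (notes/two_core_structure.md).

* `Flat H v` : commuting conjugates of `v` modulo the core have products fixing one coset
* `PairFailure` : a conjugate `v''` of `v` in `T` with `(v v'')² = z` and `v v''` fixing two cosets
* `Loc.flat_or_failure` : one of them holds, and in the second case the core of `H` is `⟨z⟩`
-/
import Cfsg.Agent.Lib.TwoCore.Defs
import Cfsg.Agent.Lib.TwoCore.Small

set_option autoImplicit false
set_option linter.unusedSectionVars false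
set_option linter.style.haveILetI false

namespace Cfsg.Agent.TwoCore

open Subgroup Involution
open scoped Pointwise

universe u

variable {K : Type u} [Group K]

/-- Commuting conjugates of `v` modulo the core have products with centraliser in `H`. -/
def Flat (H : Subgroup K) (v : K) : Prop :=
  ∀ k : K, k * v * k⁻¹ ∈ H → k * v * k⁻¹ * v⁻¹ ∉ H.normalCore →
    v * (k * v * k⁻¹) * v⁻¹ * (k * v * k⁻¹)⁻¹ ∈ H.normalCore →
    ∀ c : K, c * (v * (k * v * k⁻¹)) * c⁻¹ * (v * (k * v * k⁻¹))⁻¹ ∈ H.normalCore → c ∈ H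

/-- A pair of conjugates of `v` in `T` generating a dihedral group of order eight through `z`. -/
def PairFailure (T : Sylow 2 K) (H : Subgroup K) (z v : K) : Prop :=
  ∃ v'' ∈ T, orderOf v'' = 2 ∧ v * v'' * (v * v'') = z ∧ FixesTwo H (v * v'') ∧
    ∃ c : K, c * v * c⁻¹ = v''

theorem FixesTwo.of_mem_core {H : Subgroup K} {u u' : K} (h : FixesTwo H u)
    (hu : u'⁻¹ * u ∈ H.normalCore) : FixesTwo H u' := by
  obtain ⟨hH, g, hg, hgu⟩ := h
  have hi := inv_mem hu
  refine ⟨?_, g, hg, ?_⟩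
  · have h1 := H.mul_mem hH (H.normalCore_le hi)
    rwa [mul_inv_rev, inv_inv, mul_inv_cancel_left] at h1
  · have h1 := H.mul_mem hgu (H.normalCore_le (H.normalCore_normal.conj_mem _ hi g⁻¹))
    rwa [inv_inv, show g⁻¹ * u * g * (g⁻¹ * (u'⁻¹ * u)⁻¹ * g) = g⁻¹ * u' * g by group] at h1

variable [Finite K] {T : Sylow 2 K} {H : Subgroup K} {z v : K}

namespace LocB

variable (L : LocB T H z v)
include L

/-- A root of `z` in the core does not centralise an element of order four fixing two cosets. -/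
theorem not_commute_root {u q : K} (hu : u * u = z) (hfix : FixesTwo H u) (huN : u ∉ H.normalCore)
    (hq : q ∈ H.normalCore) (hqq : q * q = z) : ¬ Commute u q := by
  intro hc
  have hz : z * z = 1 := mul_self L.z2
  have h2 : u * q * (u * q) = 1 := by
    rw [mul_assoc, ← mul_assoc q u q, ← hc.eq, mul_assoc u q q, hqq, ← mul_assoc, hu, hz]
  have h1 : u * q ≠ 1 := fun h => huN (by
    rw [mul_eq_one_iff_eq_inv] at h; rw [h]; exact inv_mem hq)
  have hne : u * q ≠ z := fun h => huN (by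
    rw [← eq_mul_inv_iff_mul_eq] at h; rw [h]; exact mul_mem L.z_mem_core (inv_mem hq))
  refine L.not_fixesTwo (orderOf_of_sq h2 h1) hne (hfix.of_mem_core ?_)
  rw [mul_inv_rev, inv_mul_cancel_right]
  exact inv_mem hq

theorem flat_or_failure :
    Flat H v ∨ (PairFailure T H z v ∧ H.normalCore = zpowers z) := by
  haveI : Fact (Nat.Prime 2) := ⟨Nat.prime_two⟩
  by_contra hcon
  push Not at hcon
  obtain ⟨hflat, hfail⟩ := hcon
  unfold Flat at hflat
  push Not at hflat
  obtain ⟨k, hwH, hne, hcomm, c, hc, hcH⟩ := hflat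
  set N := H.normalCore with hN
  haveI : N.Normal := H.normalCore_normal
  set w := k * v * k⁻¹ with hw
  set Q : Subgroup K := (T : Subgroup K) ⊓ N with hQ
  have hQp : IsPGroup 2 Q := T.isPGroup'.to_le inf_le_left
  have hQuniq : ∀ x ∈ Q, orderOf x = 2 → x = z := fun x hx h2 => L.eq_z_of_mem_core h2 hx.2
  have hTQ : ∀ t ∈ T, t ∈ normalizer (Q : Set K) := fun t ht => by
    rw [mem_normalizer_iff]
    intro x
    constructor
    · rintro ⟨hx1, hx2⟩
      exact ⟨T.mul_mem (T.mul_mem ht hx1) (T.inv_mem ht), ‹N.Normal›.conj_mem x hx2 t⟩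
    · rintro ⟨hx1, hx2⟩
      refine ⟨?_, ?_⟩
      · have := T.mul_mem (T.mul_mem (T.inv_mem ht) hx1) ht
        rwa [show t⁻¹ * (t * x * t⁻¹) * t = x by group] at this
      · have := ‹N.Normal›.conj_mem _ hx2 t⁻¹
        rwa [show t⁻¹ * (t * x * t⁻¹) * t⁻¹⁻¹ = x by group] at this
  -- a conjugate with the same image normalising `Q`
  obtain ⟨a, haQ, n, hn, rfl⟩ := PReduced.frattini_sylow_inf_mul T N k
  set v1 := a * v * a⁻¹ with hv1
  have hv1w : v1⁻¹ * w ∈ N := by
    rw [hw, show v1⁻¹ * (a * n * v * (a * n)⁻¹) = a * ((v⁻¹ * n * v) * n⁻¹) * a⁻¹ by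
      rw [hv1]; group]
    refine ‹N.Normal›.conj_mem _ (N.mul_mem ?_ (N.inv_mem hn)) a
    have := ‹N.Normal›.conj_mem n hn v⁻¹
    rwa [inv_inv] at this
  have hv1H : v1 ∈ H := by
    have := H.mul_mem hwH (L.core_le (N.inv_mem hv1w))
    rwa [mul_inv_rev, inv_inv, ← mul_assoc, mul_inv_cancel, one_mul] at this
  have hv1Q : v1 ∈ normalizer (Q : Set K) :=
    mul_mem (mul_mem haQ (hTQ v L.vT)) (inv_mem haQ)
  set Γ : Subgroup K :=
    { carrier := {h | h ∈ H ∧ h ∈ normalizer (Q : Set K) ∧ h * v * h⁻¹ * v⁻¹ ∈ N}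
      one_mem' := ⟨H.one_mem, one_mem _, by simp⟩
      mul_mem' := by
        rintro x y ⟨hx, hx', hx''⟩ ⟨hy, hy', hy''⟩
        refine ⟨H.mul_mem hx hy, mul_mem hx' hy', ?_⟩
        rw [show x * y * v * (x * y)⁻¹ * v⁻¹ =
          (x * (y * v * y⁻¹ * v⁻¹) * x⁻¹) * (x * v * x⁻¹ * v⁻¹) by group]
        exact N.mul_mem (‹N.Normal›.conj_mem _ hy'' x) hx''
      inv_mem' := by
        rintro x ⟨hx, hx', hx''⟩
        refine ⟨H.inv_mem hx, inv_mem hx', ?_⟩
        rw [show x⁻¹ * v * x⁻¹⁻¹ * v⁻¹ = x⁻¹ * (x * v * x⁻¹ * v⁻¹)⁻¹ * x⁻¹⁻¹ by group]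
        exact ‹N.Normal›.conj_mem _ (N.inv_mem hx'') x⁻¹ } with hΓ
  have hTΓ : (T : Subgroup K) ≤ Γ := fun t ht => ⟨L.le ht, hTQ t ht, by
    rcases L.mark t ht with h | h <;> rw [h]
    · exact N.one_mem
    · exact L.z_mem_core⟩
  have hv1o : orderOf v1 = 2 := by rw [hv1, orderOf_conj]; exact L.v2
  -- modulo `N`
  set π := QuotientGroup.mk' N with hπ
  have hπ1 : ∀ {x : K}, π x = 1 ↔ x ∈ N := fun {x} => QuotientGroup.eq_one_iff x
  have hwv1 : π w = π v1 := by
    have h := hπ1.2 hv1w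
    rwa [map_mul, map_inv, inv_mul_eq_one, eq_comm] at h
  have hcm : π v * π v1 = π v1 * π v := by
    have h := hπ1.2 hcomm
    rw [map_mul, map_mul, map_mul, map_inv, map_inv, hwv1] at h
    rwa [mul_inv_eq_one, mul_inv_eq_iff_eq_mul] at h
  have hv1Γ : v1 ∈ Γ := by
    refine ⟨hv1H, hv1Q, hπ1.1 ?_⟩
    rw [map_mul, map_mul, map_mul, map_inv, map_inv, ← hcm]
    group
  obtain ⟨γ, hγ, hγT⟩ := exists_conj_sylow_mem T hTΓ (P := zpowers v1)
    (IsPGroup.of_card (n := 1) (by rw [Nat.card_zpowers, hv1o, pow_one])) (zpowers_le.2 hv1Γ)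
  set v'' := γ * v1 * γ⁻¹ with hv''
  have hv''T : v'' ∈ T := hγT v1 (mem_zpowers v1)
  have hv''o : orderOf v'' = 2 := by rw [hv'', orderOf_conj]; exact hv1o
  set u := v * v'' with hu
  have hγv : π γ * π v = π v * π γ := by
    have h := hπ1.2 hγ.2.2
    rw [map_mul, map_mul, map_mul, map_inv, map_inv] at h
    rwa [mul_inv_eq_one, mul_inv_eq_iff_eq_mul] at h
  have huN : π u = π γ * (π v * π w) * (π γ)⁻¹ := by
    rw [hu, map_mul, hv'', map_mul, map_mul, map_inv, hwv1, ← mul_assoc (π γ), hγv]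
    group
  have hfix : FixesTwo H u := by
    have h0 : FixesTwo H (v * w) := by
      refine ⟨H.mul_mem L.v_mem_H hwH, c⁻¹, fun h => hcH (inv_mem_iff.1 h), ?_⟩
      have := H.mul_mem (L.core_le hc) (H.mul_mem L.v_mem_H hwH)
      rwa [inv_mul_cancel_right, ← inv_inv c, inv_inv c⁻¹] at this
    obtain ⟨hH0, g, hg, hgH⟩ := h0
    have h1 : FixesTwo H (γ * (v * w) * γ⁻¹) := by
      refine ⟨H.mul_mem (H.mul_mem hγ.1 hH0) (H.inv_mem hγ.1), γ * g, fun h => hg ?_, ?_⟩
      · have := H.mul_mem (H.inv_mem hγ.1) h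
        rwa [inv_mul_cancel_left] at this
      · rwa [show (γ * g)⁻¹ * (γ * (v * w) * γ⁻¹) * (γ * g) = g⁻¹ * (v * w) * g by group]
    refine h1.of_mem_core (QuotientGroup.eq.1 ?_)
    show π u = π (γ * (v * w) * γ⁻¹)
    rw [huN]
    simp only [map_mul, map_inv]
  have hune : u ∉ N := fun h => by
    have h1 : π γ * (π v * π w) * (π γ)⁻¹ = 1 := by rw [← huN]; exact hπ1.2 h
    rw [conj_eq_one_iff, mul_eq_one_iff_eq_inv] at h1
    refine hne (hπ1.1 ?_)
    rw [map_mul, map_inv, h1, inv_inv]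
    rw [show π w * π w = π (w * w) from (map_mul π w w).symm,
      mul_self (show orderOf w = 2 by rw [hw, orderOf_conj]; exact L.v2), map_one]
  have hz2 : z * z = 1 := mul_self L.z2
  have hzc : ∀ x, Commute z x := L.z_comm
  have hsq : u * u = z := by
    have h := L.mark v'' hv''T
    rw [inv_eq L.v2] at h
    rcases h with h | h
    · exfalso
      have hcv : Commute v v'' := by
        rw [mul_eq_one_iff_eq_inv, inv_eq L.v2, mul_inv_eq_iff_eq_mul] at h
        exact h.symm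
      have h2 : u * u = 1 := by
        rw [hu, mul_assoc, ← mul_assoc v'' v v'', ← hcv.eq, mul_assoc v v'' v'', mul_self hv''o,
          mul_one, mul_self L.v2]
      refine L.not_fixesTwo (orderOf_of_sq h2 fun e => hune (e ▸ N.one_mem))
        (fun e => hune (e ▸ L.z_mem_core)) hfix
    · -- `v'' v v''⁻¹ v = z`
      rw [inv_eq hv''o] at h
      rw [hu]
      calc v * v'' * (v * v'') = v * (v'' * v * v'' * v) * v := by
            calc v * v'' * (v * v'') = v * v'' * (v * v'') * (v * v) := by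
                  rw [mul_self L.v2, mul_one]
              _ = _ := by group
        _ = z := by rw [h, ← (hzc v).eq, mul_assoc, mul_self L.v2, mul_one]
  -- the core has no element of order four
  have hQz : ∀ x ∈ Q, x = 1 ∨ x = z := by
    intro x hx
    by_contra hx'
    push Not at hx'
    obtain ⟨q, hqQ, hqq, -⟩ := exists_sq_eq hQp L.z2 hQuniq hx hx'.1 hx'.2
    have hmk : ∀ y ∈ Q, v * y * v⁻¹ * y⁻¹ = 1 ∨ v * y * v⁻¹ * y⁻¹ = z := fun y hy => by
      rcases L.mark y hy.1 with h | h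
      · left
        have h1 := congrArg Inv.inv h
        rw [inv_one] at h1
        rw [← h1]; group
      · right
        have h1 := congrArg Inv.inv h
        rw [inv_eq L.z2] at h1
        rw [← h1]; group
    -- `u` acts on `Q` as the product of two automorphisms into `⟨z⟩`
    have hb : ∀ y ∈ Q, v'' * y * v''⁻¹ * y⁻¹ = 1 ∨ v'' * y * v''⁻¹ * y⁻¹ = z := by
      intro y hy
      have hga : γ * a ∈ normalizer (Q : Set K) := mul_mem hγ.2.1 haQ
      have hy' : (γ * a)⁻¹ * y * (γ * a) ∈ Q := by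
        have := (mem_normalizer_iff.1 (inv_mem hga) y).1 hy
        rwa [inv_inv] at this
      rw [show v'' * y * v''⁻¹ * y⁻¹ = (γ * a) * (v * ((γ * a)⁻¹ * y * (γ * a)) * v⁻¹ *
        ((γ * a)⁻¹ * y * (γ * a))⁻¹) * (γ * a)⁻¹ by rw [hv'', hv1]; group]
      rcases hmk _ hy' with h | h <;> rw [h]
      · left; group
      · right; rw [← (hzc _).eq, mul_inv_cancel_right]
    have key : ∀ y ∈ Q, u * y * u⁻¹ * y⁻¹ = (v * y * v⁻¹ * y⁻¹) * (v'' * y * v''⁻¹ * y⁻¹) := by
      intro y hy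
      rcases hb y hy with h | h
      · have h' : v'' * y * v''⁻¹ = y := mul_inv_eq_one.1 h
        rw [h, mul_one, hu, show v * v'' * y * (v * v'')⁻¹ * y⁻¹ =
          v * (v'' * y * v''⁻¹) * v⁻¹ * y⁻¹ by group, h']
      · have h' : v'' * y * v''⁻¹ = z * y := mul_inv_eq_iff_eq_mul.1 h
        rw [h, hu, show v * v'' * y * (v * v'')⁻¹ * y⁻¹ =
          v * (v'' * y * v''⁻¹) * v⁻¹ * y⁻¹ by group, h', ← (hzc (v * y * v⁻¹ * y⁻¹)).eq,
          ← mul_assoc v z y, ← (hzc v).eq]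
        group
    have hmove : ∀ y ∈ Q, y * y = z → u * y * u⁻¹ * y⁻¹ = z := by
      intro y hy hyy
      have hnc := L.not_commute_root hsq hfix hune hy.2 hyy
      rw [key y hy]
      rcases hmk y hy with h | h <;> rcases hb y hy with h'' | h'' <;> rw [h, h'']
      · exact absurd (mul_inv_eq_iff_eq_mul.1 (mul_inv_eq_one.1
          (show u * y * u⁻¹ * y⁻¹ = 1 by rw [key y hy, h, h'', mul_one]))) hnc
      · rw [one_mul]
      · rw [mul_one]
      · exact absurd (mul_inv_eq_iff_eq_mul.1 (mul_inv_eq_one.1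
          (show u * y * u⁻¹ * y⁻¹ = 1 by rw [key y hy, h, h'', hz2]))) hnc
    -- a further element in the kernel gives a root
    have hker : ∀ y ∈ Q, Commute u y → y = 1 ∨ y = z := by
      intro y hy hcy
      by_contra hy'
      push Not at hy'
      obtain ⟨r, hr, hrr, hry⟩ := exists_sq_eq hQp L.z2 hQuniq hy hy'.1 hy'.2
      obtain ⟨i, rfl⟩ := mem_zpowers_iff.1 hry
      exact L.not_commute_root hsq hfix hune hr.2 hrr (hcy.zpow_right i)
    have hQ4 : ∀ y ∈ Q, y = 1 ∨ y = z ∨ y = q ∨ y = q * z := by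
      intro y hy
      have hqz : u * q * u⁻¹ * q⁻¹ = z := hmove q hqQ hqq
      have hyz : u * y * u⁻¹ * y⁻¹ = 1 ∨ u * y * u⁻¹ * y⁻¹ = z := by
        rw [key y hy]
        rcases hmk y hy with h | h <;> rcases hb y hy with h'' | h'' <;> rw [h, h'']
        · exact Or.inl (one_mul _)
        · exact Or.inr (one_mul _)
        · exact Or.inr (mul_one _)
        · exact Or.inl hz2
      rcases hyz with h | h
      · rcases hker y hy (mul_inv_eq_iff_eq_mul.1 (mul_inv_eq_one.1 h)) with e | e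
        · exact Or.inl e
        · exact Or.inr (Or.inl e)
      · have h1 : u * (q⁻¹ * y) * u⁻¹ * (q⁻¹ * y)⁻¹ = 1 := by
          rw [mul_inv_eq_iff_eq_mul] at hqz h
          rw [mul_inv_eq_one]
          calc u * (q⁻¹ * y) * u⁻¹ = (u * q * u⁻¹)⁻¹ * (u * y * u⁻¹) := by group
            _ = q⁻¹ * y := by rw [hqz, h]; group
        rcases hker _ (Q.mul_mem (Q.inv_mem hqQ) hy) (mul_inv_eq_iff_eq_mul.1
          (mul_inv_eq_one.1 h1)) with e | e <;> rw [inv_mul_eq_iff_eq_mul] at e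
        · exact Or.inr (Or.inr (Or.inl (by rw [e, mul_one])))
        · exact Or.inr (Or.inr (Or.inr e))
    -- `v` and `v''` act in the same way on `Q`
    have hqz := hmove q hqQ hqq
    have hga : γ * a ∈ normalizer (Q : Set K) := mul_mem hγ.2.1 haQ
    have hq' : (γ * a)⁻¹ * q * (γ * a) ∈ Q := by
      have := (mem_normalizer_iff.1 (inv_mem hga) q).1 hqQ
      rwa [inv_inv] at this
    set q' := (γ * a)⁻¹ * q * (γ * a) with hq'def
    have hqq' : q' * q' = z := by
      rw [hq'def, show (γ * a)⁻¹ * q * (γ * a) * ((γ * a)⁻¹ * q * (γ * a)) =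
        (γ * a)⁻¹ * (q * q) * (γ * a) by group, hqq, mul_assoc, (hzc _).eq, inv_mul_cancel_left]
    have hsame : v * q' * v⁻¹ * q'⁻¹ = v * q * v⁻¹ * q⁻¹ := by
      rcases hQ4 q' hq' with h | h | h | h
      · exfalso; rw [h, one_mul] at hqq'; exact ne_one L.z2 hqq'.symm
      · exfalso; rw [h, hz2] at hqq'; exact ne_one L.z2 hqq'.symm
      · rw [h]
      · rw [h, mul_inv_rev, inv_eq L.z2, ← mul_assoc v q z, mul_assoc (v * q) z v⁻¹,
          (hzc v⁻¹).eq, ← mul_assoc (v * q), mul_assoc _ z (z * q⁻¹), ← mul_assoc z z, hz2,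
          one_mul]
    have hbq : v'' * q * v''⁻¹ * q⁻¹ = v * q * v⁻¹ * q⁻¹ := by
      rw [show v'' * q * v''⁻¹ * q⁻¹ = (γ * a) * (v * q' * v⁻¹ * q'⁻¹) * (γ * a)⁻¹ by
        rw [hv'', hv1, hq'def]; group, hsame]
      rcases hmk q hqQ with h | h <;> rw [h]
      · group
      · rw [← (hzc _).eq, mul_inv_cancel_right]
    rw [key q hqQ, hbq] at hqz
    rcases hmk q hqQ with h | h <;> rw [h] at hqz
    · rw [one_mul] at hqz; exact ne_one L.z2 hqz.symm
    · rw [hz2] at hqz; exact ne_one L.z2 hqz.symm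
  -- so the core is `⟨z⟩`
  refine hfail ⟨v'', hv''T, hv''o, hsq, hfix, γ * a, by rw [hv'', hv1]; group⟩ ?_
  have hzN : zpowers z ≤ N := zpowers_le.2 L.z_mem_core
  refine le_antisymm (fun x hx => ?_) hzN
  have hodd : ∀ y ∈ N, ∀ j : ℕ, orderOf y = 2 ^ j → y ∈ zpowers z := by
    intro y hy j hj
    obtain ⟨S, hyS⟩ := (IsPGroup.of_card (n := j) (G := zpowers y)
      (by rw [Nat.card_zpowers, hj])).exists_le_sylow
    obtain ⟨g, hg⟩ := MulAction.exists_smul_eq K S T
    have h1 : g * y * g⁻¹ ∈ Q := ⟨by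
      rw [← hg]
      show g * y * g⁻¹ ∈ MulAut.conj g • (S : Subgroup K)
      exact ⟨y, hyS (mem_zpowers y), rfl⟩, ‹N.Normal›.conj_mem y hy g⟩
    rcases hQz _ h1 with h2 | h2
    · rw [conj_eq_one_iff] at h2; rw [h2]; exact one_mem _
    · rw [mul_inv_eq_iff_eq_mul, (hzc g).eq, mul_right_inj] at h2
      rw [h2]; exact mem_zpowers z
  -- `N` is a group of twice odd order without odd core
  have hzN' : z ∈ N := L.z_mem_core
  set Z : Subgroup N := zpowers ⟨z, hzN'⟩ with hZ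
  have hZc : Nat.card Z = 2 := by rw [Nat.card_zpowers, Subgroup.orderOf_mk, L.z2]
  haveI : Z.Normal := ⟨by
    rintro _ ⟨i, rfl⟩ g
    have hg : Commute g (⟨z, hzN'⟩ : N) := Subtype.ext (hzc (g : K)).symm.eq
    show g * (⟨z, hzN'⟩ : N) ^ i * g⁻¹ ∈ Z
    rw [(hg.zpow_right i).eq, mul_inv_cancel_right]
    exact ⟨i, rfl⟩⟩
  have hidx : ¬ 2 ∣ Z.index := by
    intro h2
    -- the preimage of an involution of `N / Z` is a 2-element
    obtain ⟨y, hy⟩ := exists_prime_orderOf_dvd_card' (G := N ⧸ Z) 2 h2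
    obtain ⟨y, rfl⟩ := QuotientGroup.mk'_surjective Z y
    have hy2 : y ^ 2 ∈ Z := by
      rw [← QuotientGroup.eq_one_iff, QuotientGroup.mk_pow]
      exact orderOf_dvd_iff_pow_eq_one.1 hy.dvd
    have hy4 : (y : K) ^ 4 = 1 := by
      obtain ⟨i, hi⟩ := mem_zpowers_iff.1 hy2
      have h3 : ((⟨z, hzN'⟩ : N) ^ i) ^ 2 = 1 := by
        rw [← zpow_natCast, ← zpow_mul, mul_comm, zpow_mul, zpow_natCast,
          show (⟨z, hzN'⟩ : N) ^ 2 = 1 from Subtype.ext (by
            show z ^ 2 = 1; rw [sq, hz2]), one_zpow]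
      rw [hi, ← pow_mul] at h3
      exact congrArg Subtype.val h3
    obtain ⟨j, -, hj⟩ := (Nat.dvd_prime_pow Nat.prime_two).1
      (show orderOf (y : K) ∣ 2 ^ 2 from orderOf_dvd_iff_pow_eq_one.2 hy4)
    obtain ⟨i, hi⟩ := mem_zpowers_iff.1 (hodd y y.2 j hj)
    have hyZ : y ∈ Z := ⟨i, Subtype.ext (by
      show ((⟨z, hzN'⟩ : N) ^ i : N).1 = (y : K)
      rw [Subgroup.coe_zpow, hi])⟩
    rw [show (QuotientGroup.mk' Z) y = 1 from (QuotientGroup.eq_one_iff y).2 hyZ, orderOf_one] at hy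
    omega
  obtain ⟨A, hA⟩ := Subgroup.exists_right_complement'_of_coprime
    (N := Z) (by rw [hZc]; exact (Nat.Prime.coprime_iff_not_dvd Nat.prime_two).2 hidx)
  haveI hAn : A.Normal := normal_of_index_eq_two (by rw [hA.index_eq_card, hZc])
  have hA' : A = ⊥ := by
    have h := Cores.le_pPrimeCore (p := 2) hAn (((Nat.Prime.coprime_iff_not_dvd Nat.prime_two).2
      (by rw [← hA.symm.index_eq_card]; exact hidx)).symm)
    rwa [L.pPrimeCore_core, le_bot_iff] at h
  have htop : Z = ⊤ := by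
    refine eq_top_of_card_eq Z ?_
    rw [← hA.card_mul, hA', card_bot, mul_one]
  have hxZ : (⟨x, hx⟩ : N) ∈ Z := htop ▸ mem_top _
  obtain ⟨i, hi⟩ := mem_zpowers_iff.1 hxZ
  exact ⟨i, by rw [← Subgroup.coe_mk N x hx, ← hi, Subgroup.coe_zpow]⟩

end LocB

end Cfsg.Agent.TwoCore
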