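/-
The flat case of the core killing theorem (notes/two_core_structure.md, section NF; owner: helper56).

* `Loc.strongly` : the normal closure of the image of `v` has a strongly embedded subgroup
* `Loc.exists_shape` : so it has a rank one set-up with every good involution in `Z(Q)`
* `Loc.commute_T` : the involutions of `T` commute
* `odd_eq_bot_of_flat` : the odd subgroups normalised by `C(d)` are trivial
-/
import Cfsg.Agent.Lib.TwoCore.Defs
import Cfsg.Agent.Lib.TwoCore.Small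
import Cfsg.Agent.Lib.TwoCore.Pair
import Cfsg.Agent.Lib.TwoCore.LineDefs
import Cfsg.Agent.Lib.Aschbacher.CriterionL2Final
import Cfsg.Agent.Lib.Bender.RankOneHalf
import Cfsg.Agent.Lib.RankOne.SetupTwoRank
import Cfsg.Agent.Lib.SuzukiRankOne.Kernel.Main
import Cfsg.Agent.Lib.PReduced.Tools

set_option autoImplicit false
set_option linter.unusedSectionVars false
set_option linter.style.haveILetI false

namespace Cfsg.Agent.TwoCore

open Subgroup Involution MulAction
open scoped Pointwise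

universe u

variable {K : Type u} [Group K]

/-- The image of `H` modulo its core. -/
abbrev flatH (H : Subgroup K) : Subgroup (K ⧸ H.normalCore) :=
  H.map (QuotientGroup.mk' H.normalCore)

/-- The normal closure of the image of `v` modulo the core of `H`. -/
abbrev flatL (H : Subgroup K) (v : K) : Subgroup (K ⧸ H.normalCore) :=
  normalClosure {QuotientGroup.mk' H.normalCore v}

/-- A rank one set-up read in the quotient by the core: `Q` is regular on the other cosets in
`flatL H v`, lifts into `T` and centralises every good involution. -/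
structure FlatShape (T : Sylow 2 K) (H : Subgroup K) (z v : K) (t₀ : K ⧸ H.normalCore)
    (Q : Subgroup (K ⧸ H.normalCore)) : Prop where
  t_mem : t₀ ∈ flatL H v
  t_not_mem : t₀ ∉ flatH H
  le : Q ≤ flatH H
  lift : Q ≤ (T : Subgroup K).map (QuotientGroup.mk' H.normalCore)
  conj : ∀ x ∈ flatH H, ∀ y ∈ Q, x * y * x⁻¹ ∈ Q
  free : ∀ y ∈ Q, t₀⁻¹ * y * t₀ ∈ flatH H → y = 1
  trans : ∀ l ∈ flatL H v, l ∉ flatH H → ∃ y ∈ Q, (y * t₀)⁻¹ * l ∈ flatH H
  good : ∀ d : K, Good H z d → (QuotientGroup.mk' H.normalCore) d ∈ Q ∧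
    ∀ y ∈ Q, Commute ((QuotientGroup.mk' H.normalCore) d) y

/-- An element of 2-power order killed by an odd number is trivial. -/
theorem eq_one_of_two_pow {G : Type*} [Group G] {y : G} {k n : ℕ} (hy : y ^ 2 ^ k = 1) (hn : Odd n)
    (h : y ^ n = 1) : y = 1 :=
  orderOf_eq_one_iff.1 (Nat.eq_one_of_dvd_coprimes ((Nat.coprime_two_left.2 hn).pow_left k)
    (orderOf_dvd_of_pow_eq_one hy) (orderOf_dvd_of_pow_eq_one h))

/-- In a rank one set-up the 2-elements of the point stabiliser lie in `Q`. -/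
theorem mem_Q_of_two {G Ω : Type*} [Group G] [Finite G] [MulAction G Ω] {a : Ω} {t : G}
    {Q : Subgroup G} (h : Cfsg.IsRankOneSetup G Ω a t Q) {y : G} (hy : y ∈ stabilizer G a) {k : ℕ}
    (hk : y ^ 2 ^ k = 1) : y ∈ Q := by
  obtain ⟨x, hx, d, hd, rfl⟩ := RankOne.Setup.exists_decomp h hy
  have hpow : ∀ n : ℕ, ∃ x' ∈ Q, (x * d) ^ n = x' * d ^ n := by
    intro n
    induction n with
    | zero => exact ⟨1, one_mem _, by rw [pow_zero, pow_zero, one_mul]⟩
    | succ n ih =>
      obtain ⟨x', hx', e⟩ := ih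
      refine ⟨x' * (d ^ n * x * (d ^ n)⁻¹), Q.mul_mem hx' (h.conj_mem _ (pow_mem hd.1 n) x hx), ?_⟩
      rw [pow_succ, e, pow_succ]
      group
  obtain ⟨x', hx', e⟩ := hpow (2 ^ k)
  have e1 : (1 : G) * 1 = x' * d ^ 2 ^ k := by rw [← e, hk, one_mul]
  have hd2 := (RankOne.Setup.decomp_unique h (one_mem Q) hx' (one_mem _) (pow_mem hd _) e1).2
  rw [eq_one_of_two_pow hd2.symm h.odd_card
    (orderOf_dvd_iff_pow_eq_one.1 (Subgroup.orderOf_dvd_natCard _ hd)), mul_one]
  exact hx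

variable [Finite K] {T : Sylow 2 K} {H : Subgroup K} {z v : K}

namespace LocB

variable (L : LocB T H z v)
include L

local notation "π" => QuotientGroup.mk' (Subgroup.normalCore H)

theorem mem_flatH {g : K} : π g ∈ flatH H ↔ g ∈ H := by
  refine ⟨?_, mem_map_of_mem _⟩
  rintro ⟨x, hx, hxg⟩
  have := H.mul_mem hx (L.core_le (QuotientGroup.eq.1 hxg))
  rwa [mul_inv_cancel_left] at this

theorem good_map {d : K} (hd : Good H z d) : orderOf (π d) = 2 :=
  orderOf_of_sq (by rw [← map_mul, mul_self hd.1, map_one])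
    (fun e => hd.2.1 (L.eq_z_of_mem_core hd.1 ((QuotientGroup.eq_one_iff d).1 e)))

theorem conj_mem_flatH {d : K} (hd : Good H z d) (x : K ⧸ H.normalCore) :
    x * π d * x⁻¹ ∈ flatH H ↔ x ∈ flatH H := by
  obtain ⟨g, rfl⟩ := QuotientGroup.mk'_surjective _ x
  rw [← map_inv, ← map_mul, ← map_mul, L.mem_flatH, L.mem_flatH]
  exact ⟨L.ctl d hd.1 hd.2.1 hd.2.2 g, fun hg => H.mul_mem (H.mul_mem hg hd.2.2) (H.inv_mem hg)⟩

theorem flatH_ne_top : flatH H ≠ ⊤ := fun h =>
  L.ne_top (eq_top_iff.2 fun g _ => L.mem_flatH.1 (h ▸ mem_top _))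

theorem normalCore_flatH : (flatH H).normalCore = ⊥ := by
  refine (eq_bot_iff_forall _).2 fun x hx => ?_
  obtain ⟨g, rfl⟩ := QuotientGroup.mk'_surjective _ x
  refine (QuotientGroup.eq_one_iff g).2 ?_
  have : (flatH H).normalCore.comap π ≤ H.normalCore :=
    normal_le_normalCore.2 fun a ha => L.mem_flatH.1 (normalCore_le _ ha)
  exact this hx

theorem flat_h3 (hflat : Flat H v) (x : K ⧸ H.normalCore) (hc : Commute (π v) (x * π v * x⁻¹))
    (hne : x * π v * x⁻¹ ≠ π v) :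
    centralizer ({π v * (x * π v * x⁻¹)} : Set (K ⧸ H.normalCore)) ≤ flatH H := by
  obtain ⟨g, rfl⟩ := QuotientGroup.mk'_surjective _ x
  have hw : π g * π v * (π g)⁻¹ = π (g * v * g⁻¹) := by rw [map_mul, map_mul, map_inv]
  rw [hw] at hc hne ⊢
  have hwH : g * v * g⁻¹ ∈ H := L.mem_flatH.1 ((L.conj_mem_flatH L.good_v _).1 (by
    rw [← hc.eq, mul_inv_cancel_right]; exact L.mem_flatH.2 L.v_mem_H))
  intro y hy
  obtain ⟨c, rfl⟩ := QuotientGroup.mk'_surjective _ y
  refine L.mem_flatH.2 (hflat g hwH (fun h => hne ?_) ?_ c ?_)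
  · have h1 : π (g * v * g⁻¹ * v⁻¹) = 1 := (QuotientGroup.eq_one_iff _).2 h
    rwa [map_mul, map_inv, mul_inv_eq_one] at h1
  · refine (QuotientGroup.eq_one_iff _).1 (show π _ = 1 from ?_)
    rw [map_mul, map_mul _ _ v⁻¹, map_mul, map_inv, map_inv, hc.eq, mul_inv_cancel_right,
      mul_inv_cancel]
  · refine (QuotientGroup.eq_one_iff _).1 (show π _ = 1 from ?_)
    rw [map_mul, map_mul _ _ c⁻¹, map_mul _ c, map_inv, map_inv, map_mul _ v,
      (mem_centralizer_iff_commute.1 hy).eq, mul_inv_cancel_right, mul_inv_cancel]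

theorem pointClassV (hflat : Flat H v) :
    Aschbacher.PointClass (K ⧸ H.normalCore) ((K ⧸ H.normalCore) ⧸ flatH H) (conjugatesOf (π v))
      (Aschbacher.pointOf (flatH H) (π v)) := by
  haveI : Fact (Nat.Prime 2) := ⟨Nat.prime_two⟩
  refine Aschbacher.pointClass (T.mapSurjective (QuotientGroup.mk'_surjective _)) (L.good_map L.good_v)
    ?_ (L.conj_mem_flatH L.good_v) (L.flat_h3 hflat)
  rintro _ ⟨s, hs, rfl⟩
  refine mul_inv_eq_iff_eq_mul.1 (mul_inv_eq_one.1 ?_)
  rw [← map_inv, ← map_mul, ← map_mul, ← map_inv, ← map_mul]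
  refine (QuotientGroup.eq_one_iff _).2 ?_
  rcases L.mark s hs with h | h <;> rw [h]
  · exact one_mem _
  · exact L.z_mem_core

theorem strongly (hflat : Flat H v) : Cfsg.IsStronglyEmbedded ((flatH H).subgroupOf (flatL H v)) := by
  haveI : Fact (Nat.Prime 2) := ⟨Nat.prime_two⟩
  refine Aschbacher.coreFreeCriterion (K ⧸ H.normalCore)
    (T.mapSurjective (QuotientGroup.mk'_surjective _)) (π v) (flatH H) (L.good_map L.good_v)
    ⟨v, L.vT, rfl⟩ ?_ L.flatH_ne_top L.normalCore_flatH (L.conj_mem_flatH L.good_v) (L.flat_h3 hflat)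
  rintro _ ⟨s, hs, rfl⟩
  refine mul_inv_eq_iff_eq_mul.1 (mul_inv_eq_one.1 ?_)
  rw [← map_inv, ← map_mul, ← map_mul, ← map_inv, ← map_mul]
  refine (QuotientGroup.eq_one_iff _).2 ?_
  rcases L.mark s hs with h | h <;> rw [h]
  · exact one_mem _
  · exact L.z_mem_core

theorem good_mem_conjugates (hflat : Flat H v) {d : K} (hd : Good H z d) :
    π d ∈ conjugatesOf (π v) := by
  haveI := Bender.faithful_of_normalCore L.normalCore_flatH
  obtain ⟨g₀, -, hg₀⟩ := SetLike.exists_of_lt (lt_top_iff_ne_top.2 L.flatH_ne_top)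
  refine (L.pointClassV hflat).mem_of_unique_fixed (L.good_map hd)
    (x := ((1 : K ⧸ H.normalCore) : (K ⧸ H.normalCore) ⧸ flatH H))
    (y := (g₀ : (K ⧸ H.normalCore) ⧸ flatH H)) ?_ ?_ fun p hp => ?_
  · rw [Ne, QuotientGroup.eq, inv_one, one_mul]
    exact hg₀
  · rw [smul_mk_eq_iff, inv_one, one_mul, mul_one]
    exact L.mem_flatH.2 hd.2.2
  · induction p using QuotientGroup.induction_on with | _ a =>
    rw [smul_mk_eq_iff] at hp
    have ha : a⁻¹ ∈ flatH H := (L.conj_mem_flatH hd a⁻¹).1 (by rwa [inv_inv])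
    rw [QuotientGroup.eq, mul_one]
    exact ha

theorem good_mem_flatL (hflat : Flat H v) {d : K} (hd : Good H z d) : π d ∈ flatL H v :=
  conjugatesOfSet_subset_normalClosure
    (Group.mem_conjugatesOfSet_iff.2 ⟨_, rfl, L.good_mem_conjugates hflat hd⟩)

/-- `K / N` is the product of `flatL H v` and `flatH H`. -/
theorem exists_mul_flatH (hflat : Flat H v) (x : K ⧸ H.normalCore) :
    ∃ l ∈ flatL H v, l⁻¹ * x ∈ flatH H := by
  by_cases hx : x ∈ flatH H
  · exact ⟨1, one_mem _, by rwa [inv_one, one_mul]⟩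
  have hpt := Aschbacher.pointOf_eq (L.conj_mem_flatH L.good_v)
  have h1 : Aschbacher.pointOf (flatH H) (π v) (π v) =
      ((1 : K ⧸ H.normalCore) : (K ⧸ H.normalCore) ⧸ flatH H) := by
    simpa only [one_mul, inv_one, mul_one] using hpt 1
  obtain ⟨m, hm, -, hmx⟩ := (L.pointClassV hflat).exists_mid (e := π v) (f := x * π v * x⁻¹)
    mem_conjugatesOf_self (isConj_iff.2 ⟨x, rfl⟩) (by
      rw [h1, hpt, Ne, QuotientGroup.eq, inv_one, one_mul]; exact hx)
  refine ⟨m, conjugatesOfSet_subset_normalClosure (Group.mem_conjugatesOfSet_iff.2 ⟨_, rfl, hm⟩), ?_⟩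
  rw [h1, hpt, MulAction.Quotient.smul_mk, smul_eq_mul, mul_one, QuotientGroup.eq] at hmx
  exact hmx

theorem pPrimeCore_flatL : Cfsg.pPrimeCore 2 (flatL H v) = ⊥ := by
  have h := Cores.pPrimeCore_map_subtype (p := 2) (flatL H v)
  rw [L.pPrimeCore_quotient, bot_inf_eq, Subgroup.map_eq_bot_iff, Subgroup.ker_subtype] at h
  exact le_bot_iff.1 h

theorem flat_twoInvolutions (hflat : Flat H v) :
    SuzukiRankOne.TwoInvolutions (flatL H v) := by
  obtain ⟨F, hFT, hF, hF3, hvF⟩ := L.e8v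
  obtain ⟨b, hb, hb1, hbv⟩ : ∃ b ∈ F, π b ≠ 1 ∧ π b ≠ π v := by
    by_contra hcon
    push Not at hcon
    have h1 := L.card_map_mk' hF
    have h2 : Nat.card (F.map π) ≤ 2 := card_le_two_of_forall (x := π v) (by
      rintro _ ⟨a, ha, rfl⟩
      by_cases h : π a = 1
      · exact Or.inl h
      · exact Or.inr (hcon a ha h))
    omega
  have hgood : Good H z b := by
    refine ⟨orderOf_of_sq (by rw [← sq]; exact hF.2 b hb) (fun e => hb1 (by rw [e, map_one])),
      fun e => hb1 ?_, L.le (hFT hb)⟩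
    rw [e]
    exact (QuotientGroup.eq_one_iff z).2 L.z_mem_core
  refine ⟨⟨π v, L.good_mem_flatL hflat L.good_v⟩, ⟨π b, L.good_mem_flatL hflat hgood⟩,
    fun e => ne_one (L.good_map L.good_v) (congrArg Subtype.val e),
    fun e => hb1 (congrArg Subtype.val e), fun e => hbv (congrArg Subtype.val e).symm,
    Subtype.ext (mul_self (L.good_map L.good_v)), Subtype.ext (mul_self (L.good_map hgood)),
    Subtype.ext ?_⟩
  exact ((show Commute v b from Signalizer.commute_of_isMulCommutative hF.1 hvF hb).map π).eq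

theorem exists_shape (hflat : Flat H v) : ∃ t₀ Q, FlatShape T H z v t₀ Q := by
  haveI : Fact (Nat.Prime 2) := ⟨Nat.prime_two⟩
  have hSE := L.strongly hflat
  have h2 := L.flat_twoInvolutions hflat
  have hcore : ((flatH H).subgroupOf (flatL H v)).normalCore = ⊥ := by
    rw [Bender.core_eq_of_two_involutions hSE h2, L.pPrimeCore_flatL]
  obtain ⟨t, Q, h⟩ := Bender.rankOneHalf _ _ hSE hcore h2
  haveI := Bender.faithful_of_normalCore hcore
  obtain ⟨hQ2, -⟩ := SuzukiRankOne.kernelShape _ _ _ t Q h h2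
  have hstab : ∀ x : flatL H v,
      x ∈ stabilizer (flatL H v) ((1 : flatL H v) : (flatL H v) ⧸ (flatH H).subgroupOf (flatL H v)) ↔
        (x : K ⧸ H.normalCore) ∈ flatH H := fun x => by
    rw [stabilizer_quotient, mem_subgroupOf]
  have hpt : ∀ y : flatL H v, y • (t • ((1 : flatL H v) :
      (flatL H v) ⧸ (flatH H).subgroupOf (flatL H v))) =
      ((y * t : flatL H v) : (flatL H v) ⧸ (flatH H).subgroupOf (flatL H v)) := fun y => by
    rw [MulAction.Quotient.smul_mk, smul_eq_mul, mul_one, MulAction.Quotient.smul_mk, smul_eq_mul]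
  set TS := PReduced.sylowOfSubnormal (T.mapSurjective (QuotientGroup.mk'_surjective H.normalCore))
    (Normal.isSubnormal (inferInstance : (flatL H v).Normal)) with hTS
  have hQT : Q = (TS : Subgroup (flatL H v)) := by
    refine TS.is_maximal' hQ2 fun y hy => ?_
    obtain ⟨k, hk⟩ := TS.isPGroup' ⟨y, hy⟩
    obtain ⟨s, hs, hsy⟩ := (show (y : K ⧸ H.normalCore) ∈ (T : Subgroup K).map π from hy)
    refine mem_Q_of_two h ((hstab y).2 ?_) (congrArg Subtype.val hk)
    rw [← hsy]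
    exact L.mem_flatH.2 (L.le hs)
  have hgood : ∀ d : K, Good H z d → ∃ y ∈ Q, (y : K ⧸ H.normalCore) = π d ∧
      ∀ y' ∈ Q, y * y' = y' * y := by
    intro d hd
    have hs : (⟨π d, L.good_mem_flatL hflat hd⟩ : flatL H v) ∈ Cfsg.involutionsIn
        (stabilizer (flatL H v)
          ((1 : flatL H v) : (flatL H v) ⧸ (flatH H).subgroupOf (flatL H v)) : Set (flatL H v)) :=
      ⟨(hstab _).2 (L.mem_flatH.2 hd.2.2), fun e => ne_one (L.good_map hd) (congrArg Subtype.val e),
        Subtype.ext (mul_self (L.good_map hd))⟩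
    exact ⟨_, RankOne.Setup.mem_Q_of_ii h hs, rfl,
      fun y' hy' => RankOne.Setup.commute_ii h h2 hs hy'⟩
  refine ⟨t, Q.map (flatL H v).subtype, ⟨t.2, fun e => h.not_mem ((hstab t).2 e), ?_, ?_, ?_, ?_, ?_, ?_⟩⟩
  · rintro _ ⟨y, hy, rfl⟩
    exact (hstab y).1 (h.le hy)
  · rintro _ ⟨y, hy, rfl⟩
    rw [hQT] at hy
    exact hy
  · rintro x hx _ ⟨y, hy, rfl⟩
    have hmem : x * (y : K ⧸ H.normalCore) * x⁻¹ ∈ flatL H v :=
      (inferInstance : (flatL H v).Normal).conj_mem _ y.2 x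
    obtain ⟨k, hk⟩ := hQ2 ⟨y, hy⟩
    have hk' : (y : K ⧸ H.normalCore) ^ 2 ^ k = 1 :=
      congrArg (fun w : flatL H v => (w : K ⧸ H.normalCore)) (congrArg Subtype.val hk)
    refine ⟨⟨_, hmem⟩, mem_Q_of_two h ((hstab _).2 ?_) (k := k) ?_, rfl⟩
    · exact mul_mem (mul_mem hx ((hstab y).1 (h.le hy))) (inv_mem hx)
    · refine Subtype.ext ?_
      show (x * (y : K ⧸ H.normalCore) * x⁻¹) ^ 2 ^ k = 1
      rw [conj_pow, hk', mul_one, mul_inv_cancel]
  · rintro _ ⟨y, hy, rfl⟩ hf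
    have hfix : y • (t • ((1 : flatL H v) : (flatL H v) ⧸ (flatH H).subgroupOf (flatL H v))) =
        t • ((1 : flatL H v) : (flatL H v) ⧸ (flatH H).subgroupOf (flatL H v)) := by
      rw [hpt, MulAction.Quotient.smul_mk, smul_eq_mul, mul_one, QuotientGroup.eq, mem_subgroupOf]
      have := inv_mem hf
      simpa [mul_inv_rev, mul_assoc] using this
    rw [RankOne.Setup.eq_one_of_fix h hy (RankOne.Setup.t_smul_ne h) hfix, map_one]
  · intro l hl hlH
    have hne : ((⟨l, hl⟩ : flatL H v) : (flatL H v) ⧸ (flatH H).subgroupOf (flatL H v)) ≠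
        ((1 : flatL H v) : (flatL H v) ⧸ (flatH H).subgroupOf (flatL H v)) := by
      rw [Ne, QuotientGroup.eq, mul_one, mem_subgroupOf]
      exact fun e => hlH (inv_mem_iff.1 e)
    obtain ⟨y, hy, hyl⟩ := RankOne.Setup.exists_smul_eq h hne
    rw [hpt, QuotientGroup.eq, mem_subgroupOf] at hyl
    exact ⟨_, mem_map_of_mem _ hy, hyl⟩
  · intro d hd
    obtain ⟨y, hy, hyd, hc⟩ := hgood d hd
    refine ⟨⟨y, hy, hyd⟩, ?_⟩
    rintro _ ⟨y', hy', rfl⟩
    rw [← hyd]
    exact congrArg Subtype.val (hc y' hy')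

theorem flat_kernelComm (hflat : Flat H v) : KernelComm H := by
  obtain ⟨t₀, Q, S⟩ := L.exists_shape hflat
  intro T' hT' e he f hf he2 hf2
  by_cases hez : e = z
  · rw [hez, (L.z_comm f).eq, mul_inv_cancel_right, mul_inv_cancel]
    exact one_mem _
  by_cases hfz : f = z
  · rw [hfz, ← (L.z_comm e).eq, mul_inv_cancel_right, mul_inv_cancel]
    exact one_mem _
  have hc := (S.good e ⟨he2, hez, hT' he⟩).2 _ (S.good f ⟨hf2, hfz, hT' hf⟩).1
  refine (QuotientGroup.eq_one_iff _).1 (show π _ = 1 from ?_)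
  rw [map_mul, map_mul _ _ e⁻¹, map_mul, map_inv, map_inv, hc.eq, mul_inv_cancel_right,
    mul_inv_cancel]

end LocB

namespace Loc

variable (L : Loc T H z v)
include L

local notation "π" => QuotientGroup.mk' (Subgroup.normalCore H)

/-- The involutions of `T` commute. -/
theorem commute_T (hflat : Flat H v) {e f : K} (he : e ∈ T) (hf : f ∈ T) (he2 : orderOf e = 2)
    (hf2 : orderOf f = 2) : Commute e f := by
  have hcc := L.sep (L.flat_kernelComm hflat)
  have hv : ∀ y ∈ T, orderOf y = 2 → Commute v y := fun y hy hy2 => by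
    obtain ⟨g, hgT, hg, hgy, hgv⟩ := L.exists_third hy hy2
    exact (hcc g hgT y hy v L.vT hg.1 hy2 L.v2 hg.2.1 hgy hgv).symm
  exact hcc v L.vT e he f hf L.v2 he2 hf2 L.vz (hv e he he2) (hv f hf hf2)

/-- An element of `T` fixing `d` modulo the core moves it by at most `z`. -/
theorem conj_good_eq (hflat : Flat H v) {d : K} (hd : Good H z d) (hdT : d ∈ T) {t : K} (ht : t ∈ T)
    (hc : t * d * t⁻¹ * d⁻¹ ∈ H.normalCore) : Commute t d ∨ t * d * t⁻¹ = z * d := by
  set e := t * d * t⁻¹ with he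
  have he2 : orderOf e = 2 := by rw [he, orderOf_conj]; exact hd.1
  have hed := L.commute_T hflat (T.mul_mem (T.mul_mem ht hdT) (T.inv_mem ht)) hdT he2 hd.1
  rw [inv_eq hd.1] at hc
  have h2 : e * d * (e * d) = 1 := by
    rw [mul_assoc, ← mul_assoc d e d, ← hed.eq, mul_assoc e d d, mul_self hd.1, mul_one,
      mul_self he2]
  rcases L.eq_one_or_z_of_sq h2 hc with h | h
  · left
    have h1 : e = d := by rw [← inv_eq hd.1]; exact eq_inv_of_mul_eq_one_left h
    exact mul_inv_eq_iff_eq_mul.1 h1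
  · right
    rw [← h, mul_assoc, mul_self hd.1, mul_one]

/-- A root of `z` in the core centralises the good involutions of `T`. -/
theorem commute_root_core (hflat : Flat H v) {d : K} (hd : Good H z d) (hdT : d ∈ T) {q : K}
    (hqT : q ∈ T) (hqN : q ∈ H.normalCore) (hqq : q * q = z) : Commute d q := by
  have hc : q * d * q⁻¹ * d⁻¹ ∈ H.normalCore := by
    rw [mul_assoc (q * d), mul_assoc q d, ← mul_assoc d]
    exact mul_mem hqN (H.normalCore_normal.conj_mem _ (inv_mem hqN) d)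
  rcases L.conj_good_eq hflat hd hdT hqT hc with h | h
  · exact h.symm
  have hqd : q * d = z * d * q := mul_inv_eq_iff_eq_mul.1 h
  have h2 : d * q * (d * q) = 1 := by
    calc d * q * (d * q) = d * (q * d) * q := by group
      _ = d * z * d * (q * q) := by rw [hqd]; group
      _ = 1 := by
        rw [← (L.z_comm d).eq, mul_assoc z d d, mul_self hd.1, mul_one, hqq, mul_self L.z2]
  by_cases h1 : d * q = 1
  · rw [mul_eq_one_iff_eq_inv] at h1
    rw [h1]
    exact (Commute.refl q).inv_left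
  have hc' := L.commute_T hflat (T.mul_mem hdT hqT) hdT (orderOf_of_sq h2 h1) hd.1
  have h3 : q * d = d * q := mul_left_cancel (a := d) (by rw [← mul_assoc, hc'.eq])
  exact h3.symm

/-- An odd subgroup of the core normalised by `C(d)` is trivial. -/
theorem eq_bot_of_le_core (hflat : Flat H v) {d : K} (hd : Good H z d) (hdT : d ∈ T)
    {X : Subgroup K} (hXN : X ≤ H.normalCore) (hodd : ¬ 2 ∣ Nat.card X)
    (hnorm : ∀ c ∈ H, Commute c d → ∀ x ∈ X, c * x * c⁻¹ ∈ X) : X = ⊥ := by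
  haveI : Fact (Nat.Prime 2) := ⟨Nat.prime_two⟩
  haveI : H.normalCore.Normal := H.normalCore_normal
  set N := H.normalCore
  set S := PReduced.sylowOfSubnormal T (Normal.isSubnormal ‹N.Normal›)
  set z' : N := ⟨z, L.z_mem_core⟩ with hz'def
  have hz'2 : orderOf z' = 2 := by rw [Subgroup.orderOf_mk]; exact L.z2
  have hSuniq : ∀ x ∈ (S : Subgroup N), orderOf x = 2 → x = z' := fun x _ hx2 =>
    Subtype.ext (L.eq_z_of_mem_core (by rw [Subgroup.orderOf_coe]; exact hx2) x.2)
  have hzS : z' ∈ (S : Subgroup N) := L.z_mem_T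
  have hXcard : Nat.card (X.subgroupOf N) = Nat.card X := Cores.card_subgroupOf hXN
  suffices h : X.subgroupOf N = ⊥ by
    rw [subgroupOf_eq_bot, disjoint_iff, inf_eq_left.2 hXN] at h
    exact h
  by_cases hcyc : IsCyclic (S : Subgroup N)
  · -- `N` is a 2-group
    have hp : (Nat.card N).minFac = 2 :=
      (Nat.minFac_eq_two_iff _).2 (by rw [← hz'2]; exact orderOf_dvd_natCard z')
    set A := (MonoidHom.transferSylow S (hcyc.normalizer_le_centralizer hp)).ker
    have hA : A = ⊥ := by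
      refine le_bot_iff.1 (L.pPrimeCore_core ▸ Cores.le_pPrimeCore inferInstance ?_)
      exact ((Nat.Prime.coprime_iff_not_dvd Nat.prime_two).2
        (MonoidHom.not_dvd_card_ker_transferSylow S _)).symm
    have htop : (S : Subgroup N) = ⊤ := by
      have h := hcyc.isComplement' hp
      rw [show (MonoidHom.transferSylow S (hcyc.normalizer_le_centralizer hp)).ker = ⊥ from hA,
        isComplement'_bot_left] at h
      exact h
    refine (S.isPGroup'.to_le (htop ▸ le_top)).card_eq_or_dvd.elim (fun h => card_eq_one.1 h)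
      fun h => absurd (hXcard ▸ h) hodd
  · -- `d` centralises `N`
    have hdN : d ∉ N := fun h => hd.2.1 (L.eq_z_of_mem_core hd.1 h)
    have hcent : ∀ n ∈ N, Commute d n := by
      refine centralizes_of_sylow T L.pPrimeCore_core L.zc (mul_self L.z2)
        (fun x hx h2 => L.eq_z_of_mem_core h2 hx) hd.1 hdT hdN fun q hqT hqN => ?_
      by_contra hne
      obtain ⟨r, hr, hrr, hrne⟩ := exists_sq_eq_not_ker (Q := (S : Subgroup N)) S.isPGroup' hz'2 hzS
        hSuniq hcyc (P := fun a : N => Commute d a)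
        (fun a _ b _ ha hb => ha.mul_right hb) (a := ⟨q, hqN⟩) hqT hne
      exact hrne (L.commute_root_core hflat hd hdT hr r.2 (congrArg Subtype.val hrr))
    haveI : (X.subgroupOf N).Normal := ⟨fun x hx n =>
      hnorm n (L.core_le n.2) (hcent n n.2).symm x hx⟩
    refine le_bot_iff.1 (L.pPrimeCore_core ▸ Cores.le_pPrimeCore inferInstance ?_)
    rw [hXcard]
    exact ((Nat.Prime.coprime_iff_not_dvd Nat.prime_two).2 hodd).symm

/-- An odd subgroup normalised by `C(d)` lies in the core. -/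
theorem le_core_of_flat (hflat : Flat H v) {d : K} (hd : Good H z d) (hdT : d ∈ T)
    {X : Subgroup K} (hXH : X ≤ H) (hodd : ¬ 2 ∣ Nat.card X)
    (hnorm : ∀ c ∈ H, Commute c d → ∀ x ∈ X, c * x * c⁻¹ ∈ X) : X ≤ H.normalCore := by
  haveI : Fact (Nat.Prime 2) := ⟨Nat.prime_two⟩
  obtain ⟨t₀, Q, S⟩ := L.exists_shape hflat
  intro x hx
  set n := Nat.card X
  have hn : Odd n := Nat.odd_iff.2 (Nat.two_dvd_ne_zero.1 hodd)
  have hxn : π x ^ n = 1 := by
    rw [← map_pow, orderOf_dvd_iff_pow_eq_one.1 (Subgroup.orderOf_dvd_natCard X hx), map_one]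
  have hxH : π x ∈ flatH H := L.mem_flatH.2 (hXH hx)
  have hQ2 : ∀ y ∈ Q, ∃ k : ℕ, y ^ 2 ^ k = 1 := fun y hy => by
    obtain ⟨s, hs, rfl⟩ := S.lift hy
    obtain ⟨k, hk⟩ := T.isPGroup' ⟨s, hs⟩
    refine ⟨k, ?_⟩
    rw [← map_pow, show s ^ 2 ^ k = 1 from congrArg Subtype.val hk, map_one]
  -- `x` centralises the part of `Q` with a lift centralising `d`
  have hfix : ∀ t ∈ T, π t ∈ Q → Commute t d → Commute (π x) (π t) := by
    intro t ht htQ htd
    have hcX : x * t * x⁻¹ * t⁻¹ ∈ X := by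
      rw [show x * t * x⁻¹ * t⁻¹ = x * (t * x⁻¹ * t⁻¹) by group]
      exact X.mul_mem hx (hnorm t (L.le ht) htd _ (X.inv_mem hx))
    have hcQ : π x * π t * (π x)⁻¹ * (π t)⁻¹ ∈ Q := mul_mem (S.conj _ hxH _ htQ) (inv_mem htQ)
    obtain ⟨k, hk⟩ := hQ2 _ hcQ
    have h1 := eq_one_of_two_pow hk hn (by
      rw [← map_inv, ← map_inv, ← map_mul, ← map_mul, ← map_mul, ← map_pow,
        orderOf_dvd_iff_pow_eq_one.1 (Subgroup.orderOf_dvd_natCard X hcX), map_one])
    exact mul_inv_eq_iff_eq_mul.1 (mul_inv_eq_one.1 h1)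
  -- so it centralises `Q`
  have hcQ : ∀ y ∈ Q, Commute (π x) y := by
    intro y hy
    have hlift : ∀ y ∈ Q, ∃ t ∈ T, π t = y ∧ (Commute t d ∨ t * d * t⁻¹ = z * d) := by
      intro y hy
      obtain ⟨t, ht, rfl⟩ := S.lift hy
      refine ⟨t, ht, rfl, L.conj_good_eq hflat hd hdT ht ((QuotientGroup.eq_one_iff _).1
        (show π _ = 1 from ?_))⟩
      rw [map_mul, map_mul _ _ t⁻¹, map_mul, map_inv, map_inv, ← ((S.good d hd).2 _ hy).eq,
        mul_inv_cancel_right, mul_inv_cancel]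
    obtain ⟨t, ht, rfl, htd⟩ := hlift y hy
    rcases htd with htd | htd
    · exact hfix t ht hy htd
    obtain ⟨t', ht', hte, htd'⟩ := hlift _ (S.conj _ hxH _ hy)
    rcases htd' with htd' | htd'
    · have h1 := hfix t' ht' (by rw [hte]; exact S.conj _ hxH _ hy) htd'
      rw [hte] at h1
      have h2 : π x * π t * (π x)⁻¹ = π t := by
        have e : (π x)⁻¹ * (π x * π t * (π x)⁻¹) * π x = π x * π t * (π x)⁻¹ := by
          rw [mul_assoc, ← h1.eq, inv_mul_cancel_left]
        rw [show (π x)⁻¹ * (π x * π t * (π x)⁻¹) * π x = π t by group] at e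
        exact e.symm
      exact mul_inv_eq_iff_eq_mul.1 h2
    · set w := t⁻¹ * t' with hw
      have hwd : Commute w d := by
        refine mul_inv_eq_iff_eq_mul.1 ?_
        calc w * d * w⁻¹ = t⁻¹ * (t' * d * t'⁻¹) * t := by rw [hw]; group
          _ = d := by rw [htd', ← htd]; group
      have hwQ : π w ∈ Q := by
        rw [hw, map_mul, map_inv, hte]
        exact mul_mem (inv_mem hy) (S.conj _ hxH _ hy)
      have hxw := hfix w (T.mul_mem (T.inv_mem ht) ht') hwQ hwd
      have hxy : π x * π t * (π x)⁻¹ = π t * π w := by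
        rw [hw, map_mul, map_inv, mul_inv_cancel_left, hte]
      have hpow : ∀ j : ℕ, π x ^ j * π t * (π x ^ j)⁻¹ = π t * π w ^ j := by
        intro j
        induction j with
        | zero => simp
        | succ j ih =>
          calc π x ^ (j + 1) * π t * (π x ^ (j + 1))⁻¹
              = π x * (π x ^ j * π t * (π x ^ j)⁻¹) * (π x)⁻¹ := by rw [pow_succ']; group
            _ = (π x * π t * (π x)⁻¹) * (π x * π w ^ j * (π x)⁻¹) := by rw [ih]; group
            _ = π t * π w ^ (j + 1) := by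
              rw [hxy, (hxw.pow_right j).eq, mul_inv_cancel_right, mul_assoc, pow_succ']
      have h1 := hpow n
      rw [hxn, one_mul, inv_one, mul_one, eq_comm, mul_eq_left] at h1
      obtain ⟨k, hk⟩ := hQ2 _ hwQ
      rw [eq_one_of_two_pow hk hn h1, mul_one] at hxy
      exact mul_inv_eq_iff_eq_mul.1 hxy
  -- `Q` being regular, `x` fixes every coset
  haveI : (flatL H v).Normal := normalClosure_normal
  have hl₁ : π x * t₀ * (π x)⁻¹ ∉ flatH H := fun h => S.t_not_mem (by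
    have := mul_mem (mul_mem (inv_mem hxH) h) hxH
    rwa [show (π x)⁻¹ * (π x * t₀ * (π x)⁻¹) * π x = t₀ by group] at this)
  obtain ⟨y, hy, hyl⟩ := S.trans _ (‹(flatL H v).Normal›.conj_mem _ S.t_mem (π x)) hl₁
  have hpow : ∀ j : ℕ, (y ^ j * t₀)⁻¹ * (π x ^ j * t₀ * (π x ^ j)⁻¹) ∈ flatH H := by
    intro j
    induction j with
    | zero =>
      simp
    | succ j ih =>
      have h1 := mul_mem hyl (mul_mem (mul_mem hxH ih) (inv_mem hxH))
      have hc : π x * (y ^ j)⁻¹ = (y ^ j)⁻¹ * π x := ((hcQ y hy).pow_right j).inv_right.eq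
      have e : (y * t₀)⁻¹ * (π x * t₀ * (π x)⁻¹) *
          (π x * ((y ^ j * t₀)⁻¹ * (π x ^ j * t₀ * (π x ^ j)⁻¹)) * (π x)⁻¹) =
          t₀⁻¹ * y⁻¹ * (π x * (y ^ j)⁻¹) * (π x ^ j * t₀ * (π x ^ j)⁻¹) * (π x)⁻¹ := by group
      rw [e, hc] at h1
      convert h1 using 1
      rw [pow_succ' (π x), pow_succ y]
      group
  have hy1 : y = 1 := by
    obtain ⟨k, hk⟩ := hQ2 _ hy
    refine eq_one_of_two_pow hk hn (S.free _ (pow_mem hy n) ?_)
    have := inv_mem (hpow n)
    rwa [hxn, one_mul, inv_one, mul_one, mul_inv_rev, inv_inv, ← mul_assoc] at this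
  rw [hy1, one_mul] at hyl
  have ht₀x : t₀⁻¹ * π x * t₀ ∈ flatH H := by
    have := mul_mem hyl hxH
    rwa [show t₀⁻¹ * (π x * t₀ * (π x)⁻¹) * π x = t₀⁻¹ * π x * t₀ by group] at this
  have hall : π x ∈ (flatH H).normalCore := by
    intro g
    obtain ⟨l, hl, hlg⟩ := L.exists_mul_flatH hflat g⁻¹
    have h1 : l⁻¹ * π x * l ∈ flatH H := by
      by_cases hlH : l ∈ flatH H
      · exact mul_mem (mul_mem (inv_mem hlH) hxH) hlH
      obtain ⟨r, hr, hrl⟩ := S.trans l hl hlH
      have h2 := mul_mem (mul_mem (inv_mem hrl) ht₀x) hrl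
      have hc : π x * r = r * π x := (hcQ r hr).eq
      have e : ((r * t₀)⁻¹ * l)⁻¹ * (t₀⁻¹ * π x * t₀) * ((r * t₀)⁻¹ * l) =
          l⁻¹ * (r * π x) * r⁻¹ * l := by group
      rw [e, ← hc] at h2
      rwa [show l⁻¹ * (π x * r) * r⁻¹ * l = l⁻¹ * π x * l by group] at h2
    have h3 := mul_mem (mul_mem (inv_mem hlg) h1) hlg
    rwa [show (l⁻¹ * g⁻¹)⁻¹ * (l⁻¹ * π x * l) * (l⁻¹ * g⁻¹) = g * π x * g⁻¹ by group] at h3
  rw [L.normalCore_flatH, mem_bot] at hall
  exact (QuotientGroup.eq_one_iff x).1 hall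

/-- **The flat case**: an odd subgroup normalised by the centraliser of a good involution is
trivial. -/
theorem odd_eq_bot_of_flat (hflat : Flat H v) {d : K} (hd : Good H z d) {X : Subgroup K}
    (hXH : X ≤ H) (hodd : ¬ 2 ∣ Nat.card X)
    (hnorm : ∀ c ∈ H, Commute c d → ∀ x ∈ X, c * x * c⁻¹ ∈ X) : X = ⊥ := by
  haveI : Fact (Nat.Prime 2) := ⟨Nat.prime_two⟩
  obtain ⟨h, hh, hhT⟩ := L.exists_conj_T (P := zpowers d)
    (IsPGroup.of_card (n := 1) (by rw [Nat.card_zpowers, hd.1, pow_one])) (zpowers_le.2 hd.2.2)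
  set X' := X.map (MulAut.conj h).toMonoidHom with hX'
  have hd' : Good H z (h * d * h⁻¹) := hd.conj (L.z_comm h) hh
  have hd'T : h * d * h⁻¹ ∈ T := hhT d (mem_zpowers d)
  have hX'H : X' ≤ H := by
    rintro _ ⟨x, hx, rfl⟩
    exact H.mul_mem (H.mul_mem hh (hXH hx)) (H.inv_mem hh)
  have hodd' : ¬ 2 ∣ Nat.card X' := by
    rwa [hX', card_map_of_injective (MulAut.conj h).injective]
  have hnorm' : ∀ c ∈ H, Commute c (h * d * h⁻¹) → ∀ x ∈ X', c * x * c⁻¹ ∈ X' := by
    rintro c hc hcd _ ⟨x, hx, rfl⟩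
    refine ⟨h⁻¹ * c * h * x * (h⁻¹ * c * h)⁻¹,
      hnorm _ (H.mul_mem (H.mul_mem (H.inv_mem hh) hc) hh) ?_ x hx, ?_⟩
    · refine mul_inv_eq_iff_eq_mul.1 ?_
      calc h⁻¹ * c * h * d * (h⁻¹ * c * h)⁻¹ = h⁻¹ * (c * (h * d * h⁻¹) * c⁻¹) * h := by group
        _ = d := by rw [hcd.eq, mul_inv_cancel_right]; group
    · simp only [MulEquiv.coe_toMonoidHom, MulAut.conj_apply]
      group
  have hbot := L.eq_bot_of_le_core hflat hd' hd'T (L.le_core_of_flat hflat hd' hd'T hX'H hodd' hnorm')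
    hodd' hnorm'
  exact (map_eq_bot_iff_of_injective _ (MulAut.conj h).injective).1 hbot

end Loc

end Cfsg.Agent.TwoCore
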