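/-
The core-free criterion with rank one set-up, as used twice in notes/two_core_structure.md.

* `CritSetup` : a normal subgroup with a rank one set-up containing all involutions fixing one point
* `setup_of_class` : it exists for a central involution with condition (h3) and no odd core
-/
import Cfsg.Agent.Lib.Aschbacher.CriterionL2Final
import Cfsg.Agent.Lib.Bender.RankOneHalf
import Cfsg.Agent.Lib.SuzukiRankOne.Kernel.Main
import Cfsg.Agent.Lib.ZStar.Apply
import Cfsg.Agent.Lib.ZStar.Unique
import Cfsg.Agent.Lib.TwoCore.LineDefs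

set_option autoImplicit false
set_option linter.unusedSectionVars false
set_option linter.style.haveILetI false

namespace Cfsg.Agent.TwoCore

open Cfsg Involution MulAction

universe u v

/-- A rank one set-up moves along an equivariant bijection. -/
theorem isRankOneSetup_equiv {G : Type u} [Group G] {α β : Type v} [MulAction G α] [MulAction G β]
    (e : α → β) (he : Function.Bijective e) (hsmul : ∀ (g : G) (x : α), e (g • x) = g • e x) {a : α}
    {t : G} {Q : Subgroup G} (h : IsRankOneSetup G α a t Q) : IsRankOneSetup G β (e a) t Q := by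
  have hst : ∀ x, stabilizer G (e x) = stabilizer G x := fun x => by
    ext g; rw [mem_stabilizer_iff, mem_stabilizer_iff, ← hsmul, he.1.eq_iff]
  refine ⟨?_, h.mul_self, h.ne_one, ?_, ?_, ?_, ?_, ?_, h.even_card, ?_⟩
  · haveI := h.two_transitive
    rw [MulAction.is_two_pretransitive_iff]
    intro a b c d hab hcd
    obtain ⟨a, rfl⟩ := he.2 a
    obtain ⟨b, rfl⟩ := he.2 b
    obtain ⟨c, rfl⟩ := he.2 c
    obtain ⟨d, rfl⟩ := he.2 d
    obtain ⟨g, h1, h2⟩ := MulAction.is_two_pretransitive_iff.1 h.two_transitive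
      (fun x => hab (congrArg e x)) (fun x => hcd (congrArg e x))
    exact ⟨g, by rw [← hsmul, h1], by rw [← hsmul, h2]⟩
  · rw [hst]; exact h.not_mem
  · rw [hst]; exact h.le
  · rw [hst]; exact h.conj_mem
  · rw [← hsmul, hst]; exact h.inf_eq_bot
  · rw [← hsmul, hst, hst]; exact h.sup_eq
  · rw [← hsmul, hst, hst]; exact h.odd_card

variable {G : Type u} [Group G]

/-- The conclusion of the criterion. -/
structure CritSetup (H : Subgroup G) (z : G) (L : Subgroup G) (t : L) (Q : Subgroup L) : Prop where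
  normal : L.Normal
  z_mem : z ∈ L
  setup : IsRankOneSetup L (G ⧸ H) (base H) t Q
  isPGroup : IsPGroup 2 Q
  two : SuzukiRankOne.TwoInvolutions L
  elem : IsMulCommutative Q → ∀ x ∈ Q, x * x = 1
  faithful : FaithfulSMul L (G ⧸ H)
  mem_iff : ∀ y : G, orderOf y = 2 →
    ((∀ p q : G ⧸ H, y • p = p → y • q = q → p = q) ↔ y ∈ L)
  isConj : ∀ y ∈ L, orderOf y = 2 → IsConj z y

/-- Aschbacher's criterion with Bender's rank one set-up. -/
theorem setup_of_class [Finite G] {H : Subgroup G} (hH : H ≠ ⊤) (hcore : H.normalCore = ⊥)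
    (hO : Cfsg.pPrimeCore 2 G = ⊥) (P : Sylow 2 G) {z : G} (hz : orderOf z = 2) (hzP : z ∈ P)
    (hPz : ∀ s ∈ P, Commute s z) (hiff : ∀ g : G, g * z * g⁻¹ ∈ H ↔ g ∈ H)
    (h3 : ∀ g : G, Commute z (g * z * g⁻¹) → g * z * g⁻¹ ≠ z →
      Subgroup.centralizer ({z * (g * z * g⁻¹)} : Set G) ≤ H) :
    ∃ (L : Subgroup G) (t : L) (Q : Subgroup L), CritSetup H z L t Q := by
  have hSE := Aschbacher.coreFreeCriterion G P z H hz hzP hPz hH hcore hiff h3
  have PC := Aschbacher.pointClass P hz hPz hiff h3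
  haveI : FaithfulSMul G (G ⧸ H) := Bender.faithful_of_normalCore hcore
  set L := Subgroup.normalClosure ({z} : Set G) with hL
  haveI hLn : L.Normal := Subgroup.normalClosure_normal
  have hzL : z ∈ L := Subgroup.subset_normalClosure rfl
  have hzH : z ∈ H := by simpa using (hiff 1).2 H.one_mem
  set HL := H.subgroupOf L with hHL
  set z' : L := ⟨z, hzL⟩ with hz'
  have hz'2 : orderOf z' = 2 := by rw [Subgroup.orderOf_mk]; exact hz
  have hzHL : z' ∈ HL := Subgroup.mem_subgroupOf.2 hzH
  -- every involution of `L` is conjugate to `z`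
  have hconj : ∀ y : L, orderOf y = 2 → IsConj z (y : G) := fun y hy => by
    obtain ⟨g, hg⟩ := isConj_iff.1 (Involution.isConj_involutions hSE hz'2 hy)
    exact isConj_iff.2 ⟨g, congrArg Subtype.val hg⟩
  have huniq : ∀ y : G, IsConj z y → ∀ p q : G ⧸ H, y • p = p → y • q = q → p = q :=
    fun y hy p q hp hq => ((PC.fixed_iff y hy p).1 hp).trans ((PC.fixed_iff y hy q).1 hq).symm
  obtain ⟨g₀, -, hg₀⟩ := SetLike.exists_of_lt (lt_top_iff_ne_top.2 hH)
  have hne : ((g₀ : G) : G ⧸ H) ≠ base H := fun e => hg₀ (by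
    have := QuotientGroup.eq.1 e
    rwa [mul_one, inv_mem_iff] at this)
  -- `L` is transitive
  have htrans : ∀ p : G ⧸ H, ∃ l : L, l • base H = p := by
    intro p
    induction p using QuotientGroup.induction_on with | _ a =>
    have hy : orderOf (⟨a * z * a⁻¹, hLn.conj_mem z hzL a⟩ : L) = 2 := by
      rw [Subgroup.orderOf_mk, orderOf_conj]; exact hz
    obtain ⟨l, hl⟩ := isConj_iff.1 (Involution.isConj_involutions hSE hz'2 hy)
    have hl' : (l : G) * z * (l : G)⁻¹ = a * z * a⁻¹ := congrArg Subtype.val hl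
    refine ⟨l, ?_⟩
    show (l : G) • ((1 : G) : G ⧸ H) = (a : G ⧸ H)
    rw [Quotient.smul_mk, smul_eq_mul, mul_one, QuotientGroup.eq, ← hiff,
      show (l : G)⁻¹ * a * z * ((l : G)⁻¹ * a)⁻¹ = (l : G)⁻¹ * (a * z * a⁻¹) * l by group, ← hl',
      show (l : G)⁻¹ * ((l : G) * z * (l : G)⁻¹) * l = z by group]
    exact hzH
  have hcoreL : HL.normalCore = ⊥ := by
    refine eq_bot_iff.2 fun n hn => Subtype.ext ?_
    refine eq_of_smul_eq_smul (α := G ⧸ H) fun p => ?_
    obtain ⟨l, rfl⟩ := htrans p
    rw [Subgroup.coe_one, one_smul]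
    show (n : G) • ((l : G) • base H) = (l : G) • base H
    have h1 := HL.normalCore_le (HL.normalCore_normal.conj_mem n hn l⁻¹)
    rw [inv_inv] at h1
    have h2 : ((l : G)⁻¹ * n * l) • base H = base H := smul_base_eq_iff.2 h1
    rw [mul_smul, mul_smul, inv_smul_eq_iff] at h2
    exact h2
  have hOL : Cfsg.pPrimeCore 2 L = ⊥ := by
    haveI := Cores.pPrimeCore_normal 2 L
    have hn := Cores.map_subtype_normal_of_characteristic L (Cfsg.pPrimeCore 2 L)
    have h := Cores.le_pPrimeCore (p := 2) hn (by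
      rw [Cores.card_map_subtype]; exact Cores.coprime_card_pPrimeCore 2)
    rw [hO, le_bot_iff] at h
    exact (Subgroup.map_eq_bot_iff_of_injective _ L.subtype_injective).1 h
  have htwo : SuzukiRankOne.TwoInvolutions L := by
    by_contra hno
    refine hSE.1 (eq_top_iff.2 fun l _ => ?_)
    have hiso : IsIsolatedInvolution z' := by
      refine ⟨hz'2, fun g hg => ?_⟩
      by_contra hne
      exact hno ⟨z', g * z' * g⁻¹, ne_one hz'2, ne_one ((orderOf_conj g z').trans hz'2),
        fun e => hne e.symm, mul_self hz'2, mul_self ((orderOf_conj g z').trans hz'2), hg.eq⟩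
    have hcen := ZStar.isolated_mem_center ZStar.uniqueInvolution hiso hOL
    have hc : (l : G) * z = z * l := congrArg Subtype.val (Subgroup.mem_center_iff.1 hcen l)
    exact Subgroup.mem_subgroupOf.2 ((hiff l).1 (by rw [hc, mul_inv_cancel_right]; exact hzH))
  obtain ⟨t, Q, hQ⟩ := Bender.rankOneHalf L HL hSE hcoreL htwo
  haveI := Bender.faithful_of_normalCore hcoreL
  obtain ⟨hQ2, hel⟩ := SuzukiRankOne.kernelShape L (L ⧸ HL) _ t Q hQ htwo
  -- the equivariant bijection
  let e : L ⧸ HL → G ⧸ H := Quotient.map' (fun l : L => (l : G)) fun a b hab => by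
    rw [QuotientGroup.leftRel_apply] at hab ⊢
    exact hab
  have he : Function.Bijective e := by
    refine ⟨fun p q => ?_, fun p => ?_⟩
    · induction p using QuotientGroup.induction_on with | _ a =>
      induction q using QuotientGroup.induction_on with | _ b =>
      intro h
      exact QuotientGroup.eq.2 (Subgroup.mem_subgroupOf.2 (QuotientGroup.eq.1 h))
    · obtain ⟨l, rfl⟩ := htrans p
      exact ⟨(l : L ⧸ HL), by
        show ((l : G) : G ⧸ H) = (l : G) • base H
        rw [Quotient.smul_mk, smul_eq_mul, mul_one]⟩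
  have hsmul : ∀ (g : L) (x : L ⧸ HL), e (g • x) = g • e x := fun g x => by
    induction x using QuotientGroup.induction_on with | _ a => rfl
  refine ⟨L, t, Q, hLn, hzL, ?_, hQ2, htwo, hel, ?_, fun y hy => ⟨fun h => ?_, fun h => ?_⟩,
    fun y hyL hy => hconj ⟨y, hyL⟩ (by rw [Subgroup.orderOf_mk]; exact hy)⟩
  · exact isRankOneSetup_equiv e he hsmul hQ
  · exact ⟨fun {g g'} h => Subtype.ext (eq_of_smul_eq_smul (α := G ⧸ H) h)⟩
  · have hyD : y ∈ conjugatesOf z := by
      rcases PC.mem_or_two_fixed hne hy with h' | ⟨p, q, hpq, hp, hq⟩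
      · exact h'
      · exact absurd (h p q hp hq) hpq
    obtain ⟨g, rfl⟩ := isConj_iff.1 hyD
    exact hLn.conj_mem z hzL g
  · exact huniq y (hconj ⟨y, h⟩ (by rw [Subgroup.orderOf_mk]; exact hy))

end Cfsg.Agent.TwoCore
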