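/-
The centraliser of an element of order four fixing several cosets (notes/two_core_structure.md,
line lemma (a), (b)).

* `Loc.eq_of_fix` : involutions other than `z` fix one coset
* `Loc.inverted_mem` : a 2-element of `C(u)` inverted there by a good involution and fixing two
  cosets of the line lies in `⟨z⟩`
* `Loc.exists_conj_point` : `C(u)` is transitive on the line
* `Line H u` and the action of `lineStab u` on it
-/
import Cfsg.Agent.Lib.TwoCore.LineDefs

set_option autoImplicit false
set_option linter.unusedSectionVars false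
set_option linter.style.haveILetI false

namespace Cfsg.Agent.TwoCore

open Subgroup Involution MulAction
open scoped Pointwise

universe u

variable {K : Type u} [Group K]

/-- The elements sending `u` to itself or its inverse. -/
def lineStab (u : K) : Subgroup K where
  carrier := {k | Normalizes u k}
  one_mem' := Or.inl (by group)
  mul_mem' := by
    rintro x y hx hy
    show Normalizes u (x * y)
    have e : x * y * u * (x * y)⁻¹ = x * (y * u * y⁻¹) * x⁻¹ := by group
    rcases hy with hy | hy <;> rcases hx with hx | hx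
    · exact Or.inl (by rw [e, hy, hx])
    · exact Or.inr (by rw [e, hy, hx])
    · exact Or.inr (by rw [e, hy, ← conj_inv, hx])
    · exact Or.inl (by rw [e, hy, ← conj_inv, hx, inv_inv])
  inv_mem' := by
    rintro x (hx | hx)
    · refine Or.inl ?_
      conv_lhs => rw [← hx]
      group
    · refine Or.inr ?_
      have h : u = x⁻¹ * u⁻¹ * x := by rw [← hx]; group
      rw [inv_inv]
      conv_rhs => rw [h]
      group

theorem mem_lineStab {u k : K} : k ∈ lineStab u ↔ Normalizes u k := Iff.rfl

theorem mem_lineStab_of_commute {u k : K} (h : Commute k u) : k ∈ lineStab u :=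
  Or.inl (by rw [h.eq, mul_inv_cancel_right])

theorem commute_of_conj_eq {k u : K} (h : k * u * k⁻¹ = u) : Commute k u :=
  mul_inv_eq_iff_eq_mul.1 h

/-- The line of `u`: the cosets it fixes. -/
abbrev Line (H : Subgroup K) (u : K) : Type u := {q : K ⧸ H // u • q = q}

theorem smul_mem_line {H : Subgroup K} {u k : K} (hk : Normalizes u k) {q : K ⧸ H} (hq : u • q = q) :
    u • (k • q) = k • q := by
  have hq' : u⁻¹ • q = q := inv_smul_eq_iff.2 hq.symm
  have hk' : k⁻¹ * u * k = u ∨ k⁻¹ * u * k = u⁻¹ := by
    rcases (lineStab u).inv_mem hk with h | h <;> rw [inv_inv] at h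
    · exact Or.inl h
    · exact Or.inr h
  rw [← mul_smul, show u * k = k * (k⁻¹ * u * k) by group, mul_smul]
  rcases hk' with h | h <;> rw [h]
  · rw [hq]
  · rw [hq']

instance lineAction (H : Subgroup K) (u : K) : MulAction (lineStab u) (Line H u) where
  smul k q := ⟨(k : K) • q.1, smul_mem_line k.2 q.2⟩
  one_smul q := Subtype.ext (one_smul K q.1)
  mul_smul a b q := Subtype.ext (mul_smul (a : K) b q.1)

theorem line_smul_val {H : Subgroup K} {u : K} (k : lineStab u) (q : Line H u) :
    ((k • q : Line H u) : K ⧸ H) = (k : K) • (q : K ⧸ H) := rfl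

variable [Finite K] {T : Sylow 2 K} {H : Subgroup K} {z v : K}

namespace LocB

variable (L : LocB T H z v)
include L

theorem z_smul (p : K ⧸ H) : z • p = p := by
  induction p using QuotientGroup.induction_on with | _ a =>
  rw [Quotient.smul_mk, smul_eq_mul, (L.z_comm a).eq, QuotientGroup.eq, mul_inv_rev, mul_assoc,
    inv_mul_cancel, mul_one]
  exact H.inv_mem L.z_mem_H

/-- An involution other than `z` fixes one coset. -/
theorem eq_of_fix {d : K} (hd : orderOf d = 2) (hdz : d ≠ z) {p q : K ⧸ H} (hp : d • p = p)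
    (hq : d • q = q) : p = q := by
  induction p using QuotientGroup.induction_on with | _ a =>
  induction q using QuotientGroup.induction_on with | _ b =>
  rw [Quotient.smul_mk, smul_eq_mul, QuotientGroup.eq, mul_inv_rev] at hp hq
  have ha : a⁻¹ * d * a ∈ H := by
    have := H.inv_mem hp
    rwa [mul_inv_rev, mul_inv_rev, inv_inv, inv_inv, ← mul_assoc] at this
  have hb : b⁻¹ * d * b ∈ H := by
    have := H.inv_mem hq
    rwa [mul_inv_rev, mul_inv_rev, inv_inv, inv_inv, ← mul_assoc] at this
  have hd' : orderOf (a⁻¹ * d * a) = 2 := by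
    have := orderOf_conj a⁻¹ d; rw [inv_inv] at this; rw [this, hd]
  have hdz' : a⁻¹ * d * a ≠ z := fun e => hdz (by
    rw [show d = a * (a⁻¹ * d * a) * a⁻¹ by group, e, ← (L.z_comm a).eq, mul_inv_cancel_right])
  refine QuotientGroup.eq.2 ?_
  have h := L.ctl _ hd' hdz' ha (b⁻¹ * a) (by
    rwa [show b⁻¹ * a * (a⁻¹ * d * a) * (b⁻¹ * a)⁻¹ = b⁻¹ * d * b by group])
  have := H.inv_mem h
  rwa [mul_inv_rev, inv_inv] at this

/-- An element commuting with an involution up to `z` fixes its coset. -/
theorem fix_of_conj {d r : K} (hd : orderOf d = 2) (hdz : d ≠ z) {p : K ⧸ H} (hp : d • p = p)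
    (hr : r * d * r⁻¹ = d ∨ r * d * r⁻¹ = d * z) : r • p = p := by
  have h1 : (r * d * r⁻¹) • (r • p) = r • p := by rw [mul_smul, mul_smul, inv_smul_smul, hp]
  have h2 : (r * d * r⁻¹) • p = p := by
    rcases hr with h | h <;> rw [h]
    · exact hp
    · rw [mul_smul, L.z_smul, hp]
  have hne : r * d * r⁻¹ ≠ z := fun e => hdz (by
    rw [show d = r⁻¹ * (r * d * r⁻¹) * r by group, e, ← (L.z_comm r⁻¹).eq, inv_mul_cancel_right])
  exact L.eq_of_fix ((orderOf_conj r d).trans hd) hne h1 h2

/-- A 2-element of `C(u)` inverted by a good involution of `C(u)` fixing two cosets of the line. -/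
theorem inverted_mem {u : K} (hu : u * u = z) {d r : K}
    (hdu : Commute d u) (hru : Commute r u) (hinv : d * r * d⁻¹ = r⁻¹) {n : ℕ} (hn : r ^ 2 ^ n = 1)
    {p q : K ⧸ H} (hpq : p ≠ q) (hup : u • p = p) (huq : u • q = q) (hrp : r • p = p)
    (hrq : r • q = q) : r = 1 ∨ r = z := by
  have hz2 : z * z = 1 := mul_self L.z2
  induction n generalizing r with
  | zero => exact Or.inl (by simpa using hn)
  | succ n ih =>
    have hsq : r * r = 1 ∨ r * r = z := by
      refine ih (hru.mul_left hru) ?_ ?_ (by rw [mul_smul, hrp, hrp]) (by rw [mul_smul, hrq, hrq])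
      · rw [mul_inv_rev, ← hinv]; group
      · rw [← sq, ← pow_mul, ← pow_succ']; exact hn
    rcases hsq with h | h
    · by_cases h1 : r = 1
      · exact Or.inl h1
      · refine Or.inr (by_contra fun h2 => hpq (L.eq_of_fix (orderOf_of_sq h h1) h2 hrp hrq))
    · -- `r * u` is an involution fixing two cosets
      have h2 : r * u * (r * u) = 1 := by
        rw [mul_assoc, ← mul_assoc u r u, ← hru.eq, mul_assoc r u u, hu, ← mul_assoc, h, hz2]
      have h3 : r * u = 1 ∨ r * u = z := by
        by_cases h1 : r * u = 1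
        · exact Or.inl h1
        · refine Or.inr (by_contra fun h2' => hpq (L.eq_of_fix (orderOf_of_sq h2 h1) h2'
            (by rw [mul_smul, hup, hrp]) (by rw [mul_smul, huq, hrq])))
      -- so `d` inverts and centralises `r`
      have hdr : Commute d r := by
        rcases h3 with h3 | h3
        · rw [mul_eq_one_iff_eq_inv] at h3; rw [h3]; exact hdu.inv_right
        · rw [← eq_mul_inv_iff_mul_eq] at h3; rw [h3]
          exact ((L.z_comm d).symm).mul_right hdu.inv_right
      rw [hdr.eq, mul_inv_cancel_right] at hinv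
      exfalso
      refine ne_one L.z2 ?_
      rw [← h]
      nth_rw 2 [hinv]
      rw [mul_inv_cancel]

/-- Two good involutions of `C(u)` at cosets of the line are joined inside `C(u)`. -/
theorem exists_conj_point {u : K} (hu : u * u = z) {d e : K} (hd : orderOf d = 2) (hdz : d ≠ z)
    (he : orderOf e = 2) (hez : e ≠ z) (hdu : Commute d u) (heu : Commute e u) {p q : K ⧸ H}
    (hdp : d • p = p) (heq : e • q = q) (hup : u • p = p) (huq : u • q = q) :
    ∃ c : K, Commute c u ∧ c • q = p := by
  classical
  obtain ⟨a, m, hm, hn⟩ := Nat.exists_eq_two_pow_mul_odd (orderOf_pos (d * e)).ne'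
  obtain ⟨l, hl⟩ := hm
  set r := (d * e) ^ m with hr
  set c := (d * e) ^ (-(l : ℤ)) with hc
  have hce : c * e * c⁻¹ = d * r := by
    calc c * e * c⁻¹ = (d * e) ^ (-(l : ℤ)) * (d * (d * e)) * ((d * e) ^ (-(l : ℤ)))⁻¹ := by
          rw [left_mul_mul_left hd he, hc]
      _ = d * ((d * e) ^ (l : ℤ) * (d * e) * (d * e) ^ (l : ℤ)) := by
        rw [← mul_assoc _ d, zpow_mul_left hd he, neg_neg, zpow_neg (d * e) (l : ℤ), inv_inv]
        simp only [mul_assoc]
      _ = d * r := by rw [hr, hl, zpow_natCast, ← pow_succ, ← pow_add]; ring_nf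
  have hcu : Commute c u := (hdu.mul_left heu).zpow_left _
  have hru : Commute r u := (hdu.mul_left heu).pow_left _
  have hinv : d * r * d⁻¹ = r⁻¹ := inverts_pow (inverts_mul_left hd he) m
  set e' := c * e * c⁻¹ with he'
  have he'2 : orderOf e' = 2 := by rw [he', orderOf_conj]; exact he
  have he'z : e' ≠ z := fun h => hez (by
    rw [show e = c⁻¹ * (c * e * c⁻¹) * c by group, ← he', h, ← (L.z_comm c⁻¹).eq,
      inv_mul_cancel_right])
  have he'q : e' • (c • q) = c • q := by rw [he', mul_smul, mul_smul, inv_smul_smul, heq]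
  have hucq : u • (c • q) = c • q := by rw [← mul_smul, hcu.symm.eq, mul_smul, huq]
  refine ⟨c, hcu, ?_⟩
  by_contra hne
  by_cases hrz : r = 1 ∨ r = z
  · refine hne (L.eq_of_fix hd hdz ?_ hdp)
    rcases hrz with h | h <;> rw [h] at hce
    · rw [mul_one] at hce
      rw [← hce]; exact he'q
    · nth_rw 2 [← he'q]
      rw [hce, mul_smul d z (c • q), L.z_smul]
  · push Not at hrz
    exfalso
    have hr2 : r ^ 2 ^ a = 1 := by rw [hr, ← pow_mul, mul_comm, ← hn, pow_orderOf_eq_one]
    -- a power of `r` squaring into `⟨z⟩`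
    have key : ∀ n : ℕ, r ^ 2 ^ n = 1 → ∃ i : ℕ, r ^ i ≠ 1 ∧ r ^ i ≠ z ∧
        (r ^ i * r ^ i = 1 ∨ r ^ i * r ^ i = z) := by
      intro n
      induction n with
      | zero => intro h; simp only [pow_zero, pow_one] at h; exact absurd h hrz.1
      | succ n ih =>
        intro h
        by_cases h1 : r ^ 2 ^ n = 1
        · exact ih h1
        by_cases h2 : r ^ 2 ^ n = z
        · rcases n with _ | n
          · simp only [pow_zero, pow_one] at h2; exact absurd h2 hrz.2
          refine ⟨2 ^ n, fun e => h1 ?_, fun e => h1 ?_, Or.inr ?_⟩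
          · rw [pow_succ, pow_mul, e, one_pow]
          · rw [pow_succ, pow_mul, e, sq, mul_self L.z2]
          · rw [← pow_add, ← two_mul, ← pow_succ']; exact h2
        · exact ⟨2 ^ n, h1, h2, Or.inl (by rw [← pow_add, ← two_mul, ← pow_succ']; exact h)⟩
    obtain ⟨i, hi1, hiz, hi⟩ := key a hr2
    set s := r ^ i with hs
    have hsu : Commute s u := hru.pow_left i
    have hds : d * s * d⁻¹ = s⁻¹ := inverts_pow hinv i
    have hes : e' * s * e'⁻¹ = s⁻¹ := by
      rw [hce, show d * r * s * (d * r)⁻¹ = d * (r * s * r⁻¹) * d⁻¹ by group, hs,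
        (Commute.self_pow r i).eq, mul_inv_cancel_right]
      exact hds
    have hsz : s⁻¹ = s ∨ s⁻¹ = s * z := by
      rcases hi with h | h
      · exact Or.inl (inv_eq_of_mul_eq_one_right h)
      · refine Or.inr (inv_eq_of_mul_eq_one_right ?_)
        rw [← mul_assoc, h, mul_self L.z2]
    have hrd : ∀ x : K, orderOf x = 2 → x * s * x⁻¹ = s⁻¹ → s * x * s⁻¹ = x ∨ s * x * s⁻¹ = x * z := by
      intro x hx hxs
      rw [mul_inv_eq_iff_eq_mul] at hxs
      rcases hsz with h | h
      · left; rw [h] at hxs; rw [← hxs, mul_inv_cancel_right]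
      · right
        rw [h] at hxs
        have : s * x = x * s * z := by
          rw [hxs, mul_assoc (s * z) x z, ← (L.z_comm x).eq, mul_assoc s z (z * x), ← mul_assoc z z,
            mul_self L.z2, one_mul]
        rw [this, mul_assoc (x * s) z, (L.z_comm s⁻¹).eq]; group
    have hsp := L.fix_of_conj hd hdz hdp (hrd d hd hds)
    have hsq := L.fix_of_conj he'2 he'z he'q (hrd e' he'2 hes)
    rcases L.inverted_mem hu (n := 2) hdu hsu hds (by
          rcases hi with h | h
          · rw [show (2 : ℕ) ^ 2 = 2 + 2 from rfl, pow_add, sq, h, mul_one]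
          · rw [show (2 : ℕ) ^ 2 = 2 + 2 from rfl, pow_add, sq, h, mul_self L.z2])
        (fun h => hne h.symm) hup hucq hsp hsq with h | h
    · exact hi1 h
    · exact hiz h

end LocB

end Cfsg.Agent.TwoCore
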