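/-
The criterion on the line of `u` (notes/two_core_structure.md, line lemma (c)).

* `lineRho H u` : the action of `lineStab u` on the line, `lineImage` its image of a subgroup
* `LineSetup` : a rank one set-up containing every involution of the image with one fixed point
* `Loc.lineSetup_of_central` : it exists for a good involution central modulo `z` in a Sylow subgroup
* `Loc.pPrimeCore_lineImage` : no odd core
* `Loc.exists_lineSetup` : the set-up for the whole of `lineStab u`
-/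
import Cfsg.Agent.Lib.TwoCore.LineCent
import Cfsg.Agent.Lib.TwoCore.Criterion
import Cfsg.Agent.Lib.CyclicMeet.Basic
import Cfsg.Agent.Lib.Coprime.Basic
import Cfsg.Agent.Lib.CoreKilling.FromNormalRankThree
import Cfsg.Agent.Lib.Signalizer.GraphTrivial

set_option autoImplicit false
set_option linter.unusedSectionVars false
set_option linter.style.haveILetI false

namespace Cfsg.Agent.TwoCore

open Subgroup Involution MulAction
open scoped Pointwise

universe u

variable {K : Type u} [Group K]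

/-- The action on the line. -/
noncomputable def lineRho (H : Subgroup K) (u : K) : lineStab u →* Equiv.Perm (Line H u) :=
  MulAction.toPermHom (lineStab u) (Line H u)

/-- The image of a subgroup on the line. -/
noncomputable def lineImage (H : Subgroup K) (u : K) (Γ : Subgroup K) :
    Subgroup (Equiv.Perm (Line H u)) :=
  (Γ.subgroupOf (lineStab u)).map (lineRho H u)

theorem lineRho_apply {H : Subgroup K} {u : K} (k : lineStab u) (q : Line H u) :
    (lineRho H u k : Equiv.Perm (Line H u)) • q = k • q := rfl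

theorem mem_lineImage {H : Subgroup K} {u : K} {Γ : Subgroup K} {k : lineStab u}
    (hk : (k : K) ∈ Γ) : lineRho H u k ∈ lineImage H u Γ :=
  mem_map_of_mem _ (mem_subgroupOf.2 hk)

theorem exists_of_mem_lineImage {H : Subgroup K} {u : K} {Γ : Subgroup K}
    {g : Equiv.Perm (Line H u)} (hg : g ∈ lineImage H u Γ) :
    ∃ k : lineStab u, (k : K) ∈ Γ ∧ lineRho H u k = g := by
  obtain ⟨k, hk, rfl⟩ := hg
  exact ⟨k, mem_subgroupOf.1 hk, rfl⟩

/-- The conclusion of the criterion on the line, at the point `o`. -/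
structure LineSetup (H : Subgroup K) (z u : K) (Γ : Subgroup K) (o : Line H u)
    (Lg : Subgroup (Equiv.Perm (Line H u))) (t : Lg) (Q : Subgroup Lg) : Prop where
  le : Lg ≤ lineImage H u Γ
  setup : Cfsg.IsRankOneSetup Lg (Line H u) o t Q
  isPGroup : IsPGroup 2 Q
  two : SuzukiRankOne.TwoInvolutions Lg
  elem : IsMulCommutative Q → ∀ x ∈ Q, x * x = 1
  mem : ∀ y ∈ lineImage H u Γ, orderOf y = 2 →
    (∀ p q : Line H u, y • p = p → y • q = q → p = q) → y ∈ Lg
  unique : ∀ y ∈ Lg, orderOf y = 2 → ∀ p q : Line H u, y • p = p → y • q = q → p = q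
  lift : ∀ y ∈ Lg, orderOf y = 2 → ∃ d : lineStab u, orderOf (d : K) = 2 ∧ (d : K) ≠ z ∧
    Commute (d : K) u ∧ lineRho H u d = y

variable [Finite K] {T : Sylow 2 K} {H : Subgroup K} {z v : K}

theorem exists_line_ne {u : K} (hu : LineHyp H z u) (o : Line H u) :
    ∃ q : Line H u, q ≠ o := by
  obtain ⟨g, hg, hgu⟩ := hu.fix.2
  have hq : u • (g : K ⧸ H) = (g : K ⧸ H) := by
    rw [Quotient.smul_mk, smul_eq_mul, QuotientGroup.eq, mul_inv_rev]
    have := H.inv_mem hgu
    rwa [mul_inv_rev, mul_inv_rev, inv_inv, ← mul_assoc] at this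
  have hb : u • base H = base H := smul_base_eq_iff.2 hu.u_mem
  by_cases ho : (o : K ⧸ H) = base H
  · refine ⟨⟨_, hq⟩, fun e => hg ?_⟩
    have h1 : ((g : K) : K ⧸ H) = base H := (congrArg Subtype.val e).trans ho
    rwa [QuotientGroup.eq, mul_one, inv_mem_iff] at h1
  · exact ⟨⟨_, hb⟩, fun e => ho (congrArg Subtype.val e).symm⟩

namespace LocB

variable (L : LocB T H z v)
include L

/-- The image of an involution of `lineStab u` other than `z` fixes at most one point of the line. -/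
theorem line_unique {u : K} {d : lineStab u} (hd : orderOf (d : K) = 2) (hdz : (d : K) ≠ z)
    (p q : Line H u) (hp : lineRho H u d • p = p) (hq : lineRho H u d • q = q) : p = q :=
  Subtype.ext (L.eq_of_fix hd hdz (congrArg Subtype.val hp) (congrArg Subtype.val hq))

theorem orderOf_lineRho {u : K} (hu : LineHyp H z u) {d : lineStab u} (hd : orderOf (d : K) = 2)
    (hdz : (d : K) ≠ z) : orderOf (lineRho H u d) = 2 := by
  refine orderOf_of_sq ?_ fun h => ?_
  · rw [← map_mul, show d * d = 1 from Subtype.ext (mul_self hd), map_one]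
  · obtain ⟨q, hq⟩ := exists_line_ne hu ⟨base H, smul_base_eq_iff.2 hu.u_mem⟩
    exact hq (L.line_unique hd hdz _ _ (by rw [h, one_smul]) (by rw [h, one_smul]))

/-- Every point of the line carries an involution of `C(u)` other than `z`. -/
theorem exists_good_at {u : K} (hu : LineHyp H z u) (p : Line H u) :
    ∃ d : lineStab u, orderOf (d : K) = 2 ∧ (d : K) ≠ z ∧ Commute (d : K) u ∧
      lineRho H u d • p = p := by
  obtain ⟨p, hp⟩ := p
  induction p using QuotientGroup.induction_on with | _ a =>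
  have ha : a⁻¹ * u * a ∈ H := by
    rw [Quotient.smul_mk, smul_eq_mul, QuotientGroup.eq, mul_inv_rev] at hp
    have := H.inv_mem hp
    rwa [mul_inv_rev, mul_inv_rev, inv_inv, inv_inv, ← mul_assoc] at this
  obtain ⟨f, hf, hfu⟩ := L.exists_good_commute ha (show a⁻¹ * u * a * (a⁻¹ * u * a) = z by
    rw [show a⁻¹ * u * a * (a⁻¹ * u * a) = a⁻¹ * (u * u) * a by group, hu.sq,
      ← (L.z_comm a⁻¹).eq, inv_mul_cancel_right])
  have hcu : Commute (a * f * a⁻¹) u := by
    have := hfu.map (MulAut.conj a).toMonoidHom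
    simpa [mul_assoc] using this
  refine ⟨⟨a * f * a⁻¹, mem_lineStab_of_commute hcu⟩, (orderOf_conj a f).trans hf.1,
    fun e => hf.2.1 ?_, hcu, Subtype.ext ?_⟩
  · have e' : a * f * a⁻¹ = z := e
    rw [show f = a⁻¹ * (a * f * a⁻¹) * a by group, e', ← (L.z_comm a⁻¹).eq, inv_mul_cancel_right]
  · show (a * f * a⁻¹) • ((a : K) : K ⧸ H) = (a : K ⧸ H)
    rw [Quotient.smul_mk, smul_eq_mul, inv_mul_cancel_right, QuotientGroup.eq, mul_inv_rev,
      mul_assoc, inv_mul_cancel, mul_one]
    exact H.inv_mem hf.2.2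

/-- `C(u)` is transitive on the line. -/
theorem exists_cent_smul {u : K} (hu : LineHyp H z u) (p q : Line H u) :
    ∃ c : lineStab u, Commute (c : K) u ∧ c • q = p := by
  obtain ⟨d, hd, hdz, hdu, hdp⟩ := L.exists_good_at hu p
  obtain ⟨e, he, hez, heu, heq⟩ := L.exists_good_at hu q
  obtain ⟨c, hc, hcq⟩ := L.exists_conj_point hu.sq hd hdz he hez hdu heu
    (congrArg Subtype.val hdp) (congrArg Subtype.val heq) p.2 q.2
  exact ⟨⟨c, mem_lineStab_of_commute hc⟩, hc, Subtype.ext hcq⟩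

theorem odd_card_line {u : K} (hu : LineHyp H z u) : Odd (Nat.card (Line H u)) := by
  haveI : Fact (Nat.Prime 2) := ⟨Nat.prime_two⟩
  set o : Line H u := ⟨base H, smul_base_eq_iff.2 hu.u_mem⟩
  obtain ⟨d, hd, hdz, -, hdp⟩ := L.exists_good_at hu o
  set g := lineRho H u d with hg
  have hg2 := L.orderOf_lineRho hu hd hdz
  have h := (IsPGroup.of_card (p := 2) (G := Subgroup.zpowers g) (n := 1)
    (by rw [Nat.card_zpowers, hg2, pow_one])).card_modEq_card_fixedPoints (Line H u)
  have hfix : MulAction.fixedPoints (Subgroup.zpowers g) (Line H u) = {o} := by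
    ext p
    rw [MulAction.mem_fixedPoints, Set.mem_singleton_iff]
    refine ⟨fun h => L.line_unique hd hdz p o (h ⟨g, Subgroup.mem_zpowers g⟩) hdp, ?_⟩
    rintro rfl ⟨x, hx⟩
    obtain ⟨k, rfl⟩ := Subgroup.mem_zpowers_iff.1 hx
    exact MulAction.mem_stabilizer_iff.1
      (zpow_mem (MulAction.mem_stabilizer_iff.2 hdp : g ∈ stabilizer _ o) k)
  rw [hfix, Nat.card_eq_fintype_card (α := ({o} : Set (Line H u))), Fintype.card_unique] at h
  exact Nat.odd_iff.2 h

/-- No odd core on the line. -/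
theorem pPrimeCore_lineImage {u : K} (hu : LineHyp H z u) {Γ : Subgroup K}
    (hΓ : (Γ.subgroupOf (lineStab u)).Normal) (hC : centralizer ({u} : Set K) ≤ Γ) :
    Cfsg.pPrimeCore 2 (lineImage H u Γ) = ⊥ := by
  haveI : Fact (Nat.Prime 2) := ⟨Nat.prime_two⟩
  obtain ⟨t, f, ht, hf, htu, hfu, hft⟩ := hu.exists_inverter
  set G0 := lineImage H u Γ with hG0
  set o : Line H u := ⟨base H, smul_base_eq_iff.2 hu.u_mem⟩
  set A := (Cfsg.pPrimeCore 2 G0).map G0.subtype with hA
  have hu2 : u ≠ u⁻¹ := fun e => ne_one L.z2 (by rw [← hu.sq]; nth_rw 2 [e]; rw [mul_inv_cancel])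
  set t' : lineStab u := ⟨t, Or.inr htu⟩
  set f' : lineStab u := ⟨f, mem_lineStab_of_commute hfu⟩
  have htf : orderOf (t * f) = 2 ∧ t * f ≠ z ∧ (t * f) • base H = base H := by
    refine ⟨orderOf_of_sq ?_ ?_, ?_, smul_base_eq_iff.2 (H.mul_mem ht.2.2 hf.2.2)⟩
    · rw [mul_assoc, ← mul_assoc f t f, hft.eq, mul_assoc t f f, mul_self hf.1, mul_one,
        mul_self ht.1]
    · intro e
      rw [mul_eq_one_iff_eq_inv, inv_eq hf.1] at e
      rw [e, hfu.eq, mul_inv_cancel_right] at htu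
      exact hu2 htu
    · intro e
      have ht' : t = z * f := by
        rw [← e, mul_assoc, mul_self hf.1, mul_one]
      rw [ht', show z * f * u * (z * f)⁻¹ = z * (f * u * f⁻¹) * z⁻¹ by group, hfu.eq,
        mul_inv_cancel_right, (L.z_comm u).eq, mul_inv_cancel_right] at htu
      exact hu2 htu
  -- the four-group
  have hab : Commute (lineRho H u t') (lineRho H u f') :=
    (show Commute t' f' from Subtype.ext hft.symm.eq).map _
  set E : Subgroup (Equiv.Perm (Line H u)) :=
    Subgroup.zpowers (lineRho H u t') ⊔ Subgroup.zpowers (lineRho H u f') with hE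
  have hot := L.orderOf_lineRho hu (d := t') ht.1 ht.2.1
  have hof := L.orderOf_lineRho hu (d := f') hf.1 hf.2.1
  have hotf := L.orderOf_lineRho hu (d := t' * f') htf.1 htf.2.1
  have hE' : Cfsg.IsElementaryAbelian 2 E := by
    refine Signalizer.elemAb_sup (CoreKilling.isElementaryAbelian_zpowers
      (hot ▸ pow_orderOf_eq_one _)) (CoreKilling.isElementaryAbelian_zpowers
      (hof ▸ pow_orderOf_eq_one _)) ?_
    intro a ha b hb
    obtain ⟨i, rfl⟩ := mem_zpowers_iff.1 ha
    obtain ⟨j, rfl⟩ := mem_zpowers_iff.1 hb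
    exact (hab.zpow_zpow i j).eq
  have hEo : ∀ a ∈ E, a ≠ 1 → ∀ x : Equiv.Perm (Line H u), Commute x a → x • o = o := by
    intro a ha ha1 x hx
    have hsub : ∃ k : lineStab u, orderOf (k : K) = 2 ∧ (k : K) ≠ z ∧ lineRho H u k = a ∧
        (k : K) • base H = base H := by
      rw [hE] at ha
      have hm : a = 1 ∨ a = lineRho H u t' ∨ a = lineRho H u f' ∨ a = lineRho H u (t' * f') := by
        have hpow : ∀ {b : Equiv.Perm (Line H u)}, orderOf b = 2 → ∀ x ∈ Subgroup.zpowers b,
            x = 1 ∨ x = b := by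
          intro b hb x hx
          obtain ⟨i, rfl⟩ := mem_zpowers_iff.1 hx
          rcases Int.emod_two_eq_zero_or_one i with h | h <;>
            rw [← zpow_mod_orderOf, hb, Nat.cast_ofNat, h]
          · exact Or.inl (zpow_zero b)
          · exact Or.inr (zpow_one b)
        have hn : Subgroup.zpowers (lineRho H u f') ≤
            normalizer (Subgroup.zpowers (lineRho H u t') : Set (Equiv.Perm (Line H u))) := by
          refine zpowers_le.2 (Coprime.mem_normalizer_of_forall fun x hx => ?_)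
          obtain ⟨i, rfl⟩ := mem_zpowers_iff.1 hx
          rw [(hab.symm.zpow_right i).eq, mul_inv_cancel_right]
          exact ⟨i, rfl⟩
        obtain ⟨x1, hx1, y, hy, rfl⟩ := (Coprime.mem_sup_iff hn).1 ha
        rcases hpow hot x1 hx1 with rfl | rfl <;> rcases hpow hof y hy with rfl | rfl
        · exact Or.inl (one_mul 1)
        · exact Or.inr (Or.inr (Or.inl (one_mul _)))
        · exact Or.inr (Or.inl (mul_one _))
        · exact Or.inr (Or.inr (Or.inr (map_mul (lineRho H u) t' f').symm))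
      rcases hm with rfl | rfl | rfl | rfl
      · exact absurd rfl ha1
      · exact ⟨t', ht.1, ht.2.1, rfl, smul_base_eq_iff.2 ht.2.2⟩
      · exact ⟨f', hf.1, hf.2.1, rfl, smul_base_eq_iff.2 hf.2.2⟩
      · exact ⟨t' * f', htf.1, htf.2.1, rfl, htf.2.2⟩
    obtain ⟨k, hk, hkz, rfl, hkb⟩ := hsub
    have hko : lineRho H u k • o = o := Subtype.ext hkb
    refine L.line_unique hk hkz _ _ ?_ hko
    rw [← mul_smul, ← hx.eq, mul_smul, hko]
  haveI := Cores.pPrimeCore_normal 2 G0
  have hAodd : ¬ 2 ∣ Nat.card A := by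
    rw [hA, Cores.card_map_subtype]
    exact (Nat.Prime.coprime_iff_not_dvd Nat.prime_two).1 (Cores.coprime_card_pPrimeCore 2).symm
  have hnorm : ∀ k : lineStab u, lineRho H u k ∈ normalizer (A : Set (Equiv.Perm (Line H u))) := by
    intro k
    have hle : lineImage H u Γ ≤ lineImage H u Γ := le_rfl
    have hkG : lineRho H u k ∈ normalizer (G0 : Set (Equiv.Perm (Line H u))) := by
      refine (le_normalizer_map (H := Γ.subgroupOf (lineStab u)) (lineRho H u)) ?_
      rw [normalizer_eq_top]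
      exact mem_map_of_mem _ (mem_top k)
    exact Cores.normalizer_le_normalizer_map (Cfsg.pPrimeCore 2 G0) hkG
  have hEnorm : E ≤ normalizer (A : Set (Equiv.Perm (Line H u))) :=
    sup_le (zpowers_le.2 (hnorm t')) (zpowers_le.2 (hnorm f'))
  have hE4 : 2 ^ 2 ≤ Nat.card E := by
    rw [hE, Signalizer.card_sup_zpowers hE' le_sup_left (mem_sup_right (mem_zpowers _)) ?_,
      Nat.card_zpowers, hot]
    · norm_num
    · intro hmem
      obtain ⟨i, hi⟩ := mem_zpowers_iff.1 hmem
      rcases Int.emod_two_eq_zero_or_one i with h | h <;>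
        rw [← zpow_mod_orderOf, hot, Nat.cast_ofNat, h] at hi
      · rw [← hi, zpow_zero, orderOf_one] at hof; omega
      · rw [zpow_one] at hi
        rw [map_mul, hi, mul_self hof, orderOf_one] at hotf; omega
  have hstab : A ≤ stabilizer (Equiv.Perm (Line H u)) o :=
    Signalizer.le_of_elements hE' hE4 _ A hAodd hEnorm fun a ha ha1 x hx =>
      mem_stabilizer_iff.2 (hEo a ha ha1 x (mem_centralizer_singleton_iff.1 hx.2))
  have hbot : A = ⊥ := by
    refine eq_bot_iff.2 fun x hx => ?_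
    rw [Subgroup.mem_bot]
    refine Equiv.ext fun p => ?_
    obtain ⟨c, hc, rfl⟩ := L.exists_cent_smul hu p o
    have h1 := mem_stabilizer_iff.1 (hstab ((mem_normalizer_iff.1 (inv_mem (hnorm c)) x).1 hx))
    rw [inv_inv, mul_smul, mul_smul, inv_smul_eq_iff, lineRho_apply] at h1
    exact h1
  exact (map_eq_bot_iff_of_injective _ G0.subtype_injective).1 hbot

/-- The criterion at a good involution central modulo `z` in a Sylow subgroup of `Γ ∩ H`. -/
theorem lineSetup_of_central (hN : H.normalCore = zpowers z) {u : K} (hu : LineHyp H z u)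
    {Γ : Subgroup K} (hΓs : Γ ≤ lineStab u) (hC : centralizer ({u} : Set K) ≤ Γ)
    (hΓn : (Γ.subgroupOf (lineStab u)).Normal) {P : Subgroup K} (hP : IsPGroup 2 P)
    (hPH : P ≤ Γ ⊓ H) (hPmax : ∀ R : Subgroup K, IsPGroup 2 R → P ≤ R → R ≤ Γ ⊓ H → R ≤ P)
    {d : K} (hd : orderOf d = 2) (hdz : d ≠ z) (hdu : Commute d u) (hdP : d ∈ P)
    (hcen : ∀ s ∈ P, s * d * s⁻¹ = d ∨ s * d * s⁻¹ = d * z) :
    ∃ (Lg : Subgroup (Equiv.Perm (Line H u))) (t : Lg) (Q : Subgroup Lg),
      LineSetup H z u Γ ⟨base H, smul_base_eq_iff.2 hu.u_mem⟩ Lg t Q := by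
  classical
  haveI : Fact (Nat.Prime 2) := ⟨Nat.prime_two⟩
  set o : Line H u := ⟨base H, smul_base_eq_iff.2 hu.u_mem⟩
  set G0 := lineImage H u Γ with hG0
  set H0 : Subgroup G0 := stabilizer G0 o with hH0
  have hmemC : ∀ {x : K}, Commute x u → x ∈ Γ := fun hx =>
    hC (mem_centralizer_iff_commute.2 hx)
  have hd' : (⟨d, mem_lineStab_of_commute hdu⟩ : lineStab u).1 ∈ Γ := hmemC hdu
  set d' : lineStab u := ⟨d, mem_lineStab_of_commute hdu⟩ with hd'def
  set db : G0 := ⟨lineRho H u d', mem_lineImage hd'⟩ with hdb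
  have hdbo : db • o = o := Subtype.ext (smul_base_eq_iff.2 (hPH hdP).2)
  have htrans : ∀ p : Line H u, ∃ g : G0, g • o = p := fun p => by
    obtain ⟨c, hc, rfl⟩ := L.exists_cent_smul hu p o
    exact ⟨⟨lineRho H u c, mem_lineImage (hmemC hc)⟩, rfl⟩
  obtain ⟨q1, hq1⟩ := exists_line_ne hu o
  have hH0top : H0 ≠ ⊤ := fun e => by
    obtain ⟨g, rfl⟩ := htrans q1
    exact hq1 (mem_stabilizer_iff.1 (e ▸ mem_top g : g ∈ H0))
  have hcore : H0.normalCore = ⊥ := by
    refine eq_bot_iff.2 fun x hx => ?_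
    rw [Subgroup.mem_bot]
    refine Subtype.ext (Equiv.ext fun p => ?_)
    obtain ⟨g, rfl⟩ := htrans p
    have h1 := mem_stabilizer_iff.1 (H0.normalCore_le (H0.normalCore_normal.conj_mem x hx g⁻¹))
    rw [inv_inv, mul_smul, mul_smul, inv_smul_eq_iff] at h1
    exact h1
  -- the conjugates of `db`
  have hconjd : ∀ g : G0, ∃ e : lineStab u, (e : K) ∈ Γ ∧ orderOf (e : K) = 2 ∧ (e : K) ≠ z ∧
      Commute (e : K) u ∧ lineRho H u e = ((g * db * g⁻¹ : G0) : Equiv.Perm (Line H u)) ∧
      IsConj d (e : K) := by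
    intro g
    obtain ⟨k, hk, hkg⟩ := exists_of_mem_lineImage g.2
    refine ⟨k * d' * k⁻¹, Γ.mul_mem (Γ.mul_mem hk hd') (Γ.inv_mem hk),
      (orderOf_conj (k : K) d).trans hd, fun e => hdz ?_, ?_, ?_, isConj_iff.2 ⟨k, rfl⟩⟩
    · have e' : (k : K) * d * (k : K)⁻¹ = z := e
      rw [show d = (k : K)⁻¹ * ((k : K) * d * (k : K)⁻¹) * k by group, e',
        ← (L.z_comm (k : K)⁻¹).eq, inv_mul_cancel_right]
    · have := hdu.map (MulAut.conj (k : K)).toMonoidHom
      rcases k.2 with h | h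
      · simpa [h] using this
      · have h2 := (show Commute ((k : K) * d * (k : K)⁻¹) ((k : K) * u * (k : K)⁻¹) by
          simpa using this)
        rw [h] at h2
        show Commute ((k : K) * d * (k : K)⁻¹) u
        simpa using h2.inv_right
    · rw [map_mul, map_mul, map_inv, Subgroup.coe_mul, Subgroup.coe_mul, Subgroup.coe_inv, hkg, hdb]
  have hiff : ∀ g : G0, g * db * g⁻¹ ∈ H0 ↔ g ∈ H0 := by
    intro g
    refine ⟨fun h => mem_stabilizer_iff.2 ?_, fun h => H0.mul_mem (H0.mul_mem h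
      (mem_stabilizer_iff.2 hdbo)) (H0.inv_mem h)⟩
    obtain ⟨e, -, he, hez, -, heq, -⟩ := hconjd g
    refine L.line_unique he hez _ _ ?_ ?_
    · rw [heq]
      show (g * db * g⁻¹) • (g • o) = g • o
      rw [mul_smul, mul_smul, inv_smul_smul, hdbo]
    · rw [heq]; exact mem_stabilizer_iff.1 h
  have h3 : ∀ g : G0, Commute db (g * db * g⁻¹) → g * db * g⁻¹ ≠ db →
      centralizer ({db * (g * db * g⁻¹)} : Set G0) ≤ H0 := by
    intro g hc hne c hcc
    obtain ⟨e, heΓ, he, hez, heu, heq, -⟩ := hconjd g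
    set eb : G0 := g * db * g⁻¹ with heb
    have hebo : eb • o = o := by
      refine L.line_unique hd hdz _ o ?_ hdbo
      show db • (eb • o) = eb • o
      rw [← mul_smul, hc.eq, mul_smul, hdbo]
    -- a product fixing a second point of the line
    by_contra hcH
    have hq : c • o ≠ o := fun h => hcH (mem_stabilizer_iff.2 h)
    have hpo : (db * eb) • o = o := by rw [mul_smul, hebo, hdbo]
    have hpq : (db * eb) • (c • o) = c • o := by
      rw [← mul_smul, ← mem_centralizer_singleton_iff.1 hcc, mul_smul, hpo]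
    -- replace `e` by a conjugate with the same image
    obtain ⟨a, m, hm, hn⟩ := Nat.exists_eq_two_pow_mul_odd (orderOf_pos ((d' : K) * e)).ne'
    obtain ⟨l, hl⟩ := hm
    set r := (d' * e) ^ m with hr
    have hrimg : lineRho H u r = ((db * eb : G0) : Equiv.Perm (Line H u)) := by
      have hsq : (db * eb) ^ 2 = 1 := by
        have h1 : db * db = 1 := Subtype.ext (by
          show lineRho H u d' * lineRho H u d' = 1
          rw [← map_mul, show d' * d' = 1 from Subtype.ext (mul_self hd), map_one])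
        have h2 : eb * eb = 1 := by
          rw [heb, show g * db * g⁻¹ * (g * db * g⁻¹) = g * (db * db) * g⁻¹ by group, h1, mul_one,
            mul_inv_cancel]
        rw [sq, mul_assoc, ← mul_assoc eb db eb, ← hc.eq, mul_assoc db eb eb, h2, mul_one, h1]
      rw [hr, map_pow, map_mul, heq, hl, pow_succ, pow_mul,
        show lineRho H u d' * (eb : Equiv.Perm (Line H u)) = ((db * eb : G0) : Equiv.Perm _) from rfl,
        ← Subgroup.coe_pow, hsq, Subgroup.coe_one, one_pow, one_mul]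
    have hde2 : orderOf (e : K) = 2 := he
    have hrv : (r : K) = ((d : K) * e) ^ m := by rw [hr, Subgroup.coe_pow, Subgroup.coe_mul]
    have hr2 : (r : K) ^ 2 ^ a = 1 := by
      rw [hrv, ← pow_mul, mul_comm, ← hn, pow_orderOf_eq_one]
    have hro : (r : K) • (o : K ⧸ H) = o :=
      congrArg Subtype.val (show lineRho H u r • o = o by rw [hrimg]; exact hpo)
    have hrq : (r : K) • ((c • o : Line H u) : K ⧸ H) = ((c • o : Line H u) : K ⧸ H) :=
      congrArg Subtype.val (show lineRho H u r • (c • o) = c • o by rw [hrimg]; exact hpq)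
    rcases L.inverted_mem hu.sq (d := d) (r := (r : K)) (n := a) hdu
        (hrv ▸ (hdu.mul_left heu).pow_left m) (hrv ▸ inverts_pow (inverts_mul_left hd he) m) hr2
        (fun h => hq (Subtype.ext h.symm)) o.2 (c • o : Line H u).2 hro hrq with h | h
    all_goals
      have h1 : lineRho H u r = 1 := by
        refine Equiv.ext fun p => Subtype.ext ?_
        show (r : K) • (p : K ⧸ H) = p
        rw [h]
        first | rw [one_smul] | rw [L.z_smul]
      rw [hrimg] at h1
      have h2 : db * eb = 1 := Subtype.ext h1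
      rw [mul_eq_one_iff_inv_eq] at h2
      exact hne (h2.symm.trans (inv_eq_of_mul_eq_one_right (Subtype.ext (by
        show lineRho H u d' * lineRho H u d' = 1
        rw [← map_mul, show d' * d' = 1 from Subtype.ext (mul_self hd), map_one]))))
  -- a Sylow subgroup
  set PC : Subgroup (lineStab u) := P.subgroupOf (lineStab u) with hPC
  have hPle : PC.map (lineRho H u) ≤ G0 := map_mono fun x hx => (hPH hx).1
  set Pb : Subgroup G0 := (PC.map (lineRho H u)).subgroupOf G0 with hPb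
  have hPbp : IsPGroup 2 Pb :=
    ((hP.comap_of_injective _ (lineStab u).subtype_injective).map _).comap_of_injective _
      G0.subtype_injective
  have hidx : ¬ 2 ∣ Pb.index := by
    set Γ' := Γ.subgroupOf (lineStab u) with hΓ'
    set P' := P.subgroupOf Γ with hP'
    set H' := H.subgroupOf Γ with hH'
    have hP'le : P' ≤ H' := fun x hx => (hPH hx).2
    -- `P` has odd index in `Γ ∩ H`, which has odd index in `Γ`
    have h1 : ¬ 2 ∣ P'.relIndex H' := by
      obtain ⟨S, hS⟩ := (hP.comap_of_injective (Γ ⊓ H).subtype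
        (Γ ⊓ H).subtype_injective).exists_le_sylow
      have hSP : (S : Subgroup ↥(Γ ⊓ H)) = P.subgroupOf (Γ ⊓ H) := by
        refine le_antisymm (fun x hx => ?_) hS
        exact hPmax _ (S.isPGroup'.map (Γ ⊓ H).subtype)
          (fun y hy => ⟨⟨y, hPH hy⟩, hS hy, rfl⟩) (map_subtype_le _) ⟨x, hx, rfl⟩
      have h2 := S.not_dvd_index
      rw [hSP] at h2
      rw [hP', hH', show H.subgroupOf Γ = (Γ ⊓ H).subgroupOf Γ from
        Subgroup.ext fun x => ⟨fun h => ⟨x.2, h⟩, fun h => h.2⟩, relIndex_subgroupOf inf_le_left]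
      exact h2
    have h2 : ¬ 2 ∣ H'.index := by
      have hb : Nat.card (Γ ⧸ H') = Nat.card (Line H u) := by
        refine Nat.card_eq_of_bijective (fun x => Quotient.liftOn' x
          (fun g : Γ => (⟨(g : K) • base H, smul_mem_line (hΓs g.2) o.2⟩ : Line H u)) fun g g' hgg => ?_)
          ⟨fun x y hxy => ?_, fun p => ?_⟩
        · rw [QuotientGroup.leftRel_apply] at hgg
          refine Subtype.ext ?_
          show (g : K) • ((1 : K) : K ⧸ H) = (g' : K) • ((1 : K) : K ⧸ H)
          rw [Quotient.smul_mk, Quotient.smul_mk, smul_eq_mul, smul_eq_mul, mul_one, mul_one,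
            QuotientGroup.eq]
          exact hgg
        · induction x using QuotientGroup.induction_on with | _ g =>
          induction y using QuotientGroup.induction_on with | _ g' =>
          have h : (g : K) • ((1 : K) : K ⧸ H) = (g' : K) • ((1 : K) : K ⧸ H) :=
            congrArg Subtype.val hxy
          rw [Quotient.smul_mk, Quotient.smul_mk, smul_eq_mul, smul_eq_mul, mul_one, mul_one,
            QuotientGroup.eq] at h
          exact QuotientGroup.eq.2 h
        · obtain ⟨c, hc, rfl⟩ := L.exists_cent_smul hu p o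
          exact ⟨((⟨c, hmemC hc⟩ : Γ) : Γ ⧸ H'), rfl⟩
      rw [Subgroup.index, hb]
      exact Nat.two_dvd_ne_zero.2 (Nat.odd_iff.1 (L.odd_card_line hu))
    have h3' : ¬ 2 ∣ P'.index := by
      rw [← relIndex_mul_index hP'le]
      exact fun h => ((Nat.Prime.dvd_mul Nat.prime_two).1 h).elim h1 h2
    -- map onto the image
    let φ : Γ →* G0 :=
      { toFun := fun g => ⟨lineRho H u ⟨g, hΓs g.2⟩, mem_lineImage g.2⟩
        map_one' := Subtype.ext (map_one _)
        map_mul' := fun a b => Subtype.ext (map_mul (lineRho H u) ⟨a, hΓs a.2⟩ ⟨b, hΓs b.2⟩) }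
    have hφ : Function.Surjective φ := fun g => by
      obtain ⟨k, hk, hkg⟩ := exists_of_mem_lineImage g.2
      exact ⟨⟨k, hk⟩, Subtype.ext hkg⟩
    have hPbeq : P'.map φ = Pb := by
      ext g
      constructor
      · rintro ⟨x, hx, rfl⟩
        exact mem_map_of_mem (lineRho H u) (show (⟨x, hΓs x.2⟩ : lineStab u) ∈ PC from hx)
      · rintro ⟨k, hk, hkg⟩
        exact ⟨⟨k, (hPH hk).1⟩, hk, Subtype.ext hkg⟩
    rw [← hPbeq]
    exact fun h => h3' (h.trans (index_map_dvd P' hφ))
  let SP : Sylow 2 G0 := hPbp.toSylow hidx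
  have hdbP : db ∈ (SP : Subgroup G0) := by
    rw [IsPGroup.toSylow_coe]
    exact mem_map_of_mem (lineRho H u) (show d' ∈ PC from hdP)
  have hcomm : ∀ s ∈ SP, Commute s db := by
    intro s hs
    rw [IsPGroup.mem_toSylow] at hs
    obtain ⟨k, hk, hks⟩ := hs
    have h1 : lineRho H u (k * d' * k⁻¹) = lineRho H u d' := by
      refine Equiv.ext fun p => Subtype.ext ?_
      show ((k : K) * d * (k : K)⁻¹) • (p : K ⧸ H) = d • (p : K ⧸ H)
      rcases hcen k hk with h | h <;> rw [h]
      rw [mul_smul, L.z_smul]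
    rw [map_mul, map_mul, map_inv, hks, mul_inv_eq_iff_eq_mul] at h1
    exact Subtype.ext h1
  have hdb2 : orderOf db = 2 := by
    rw [← Subgroup.orderOf_coe]
    exact L.orderOf_lineRho hu (d := d') hd hdz
  obtain ⟨Lc, t, Q, S⟩ := setup_of_class hH0top hcore (L.pPrimeCore_lineImage hu hΓn hC) SP hdb2
    hdbP hcomm hiff h3
  -- move to permutations
  let e : G0 ⧸ H0 → Line H u := ofQuotientStabilizer G0 o
  have he : Function.Bijective e := ⟨injective_ofQuotientStabilizer G0 o, fun p => by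
    obtain ⟨g, rfl⟩ := htrans p
    exact ⟨(g : G0 ⧸ H0), rfl⟩⟩
  have hsm : ∀ (g : G0) (x : G0 ⧸ H0), e (g • x) = g • e x := fun g x =>
    ofQuotientStabilizer_smul G0 o g x
  have hS := isRankOneSetup_equiv (G := Lc) e he (fun g x => hsm g x) S.setup
  have he1 : e (base H0) = o := one_smul G0 o
  rw [he1] at hS
  let ι : Lc ≃* (Lc.map G0.subtype) := Subgroup.equivMapOfInjective Lc G0.subtype G0.subtype_injective
  have hι : ∀ (g : Lc) (p : Line H u), ι g • p = g • p := fun g p => rfl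
  have hsymm : ∀ (g : Lc.map G0.subtype) (p : Line H u), ι.symm g • p = g • p := fun g p =>
    (hι (ι.symm g) p).symm.trans (by rw [ι.apply_symm_apply])
  refine ⟨Lc.map G0.subtype, ι t, Q.map ι.toMonoidHom, ?_⟩
  have hstab : ∀ (g : Lc) (p : Line H u), ι g ∈ stabilizer (Lc.map G0.subtype) p ↔
      g ∈ stabilizer Lc p := fun g p => Iff.rfl
  have hstab' : ∀ p : Line H u, stabilizer (Lc.map G0.subtype) p =
      (stabilizer Lc p).map ι.toMonoidHom := by
    intro p
    ext g
    obtain ⟨g, rfl⟩ := ι.surjective g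
    refine (hstab g p).trans ⟨fun h => ⟨g, h, rfl⟩, ?_⟩
    rintro ⟨x, hx, hxg⟩
    rwa [← ι.injective hxg]
  refine ⟨fun x hx => ?_, ?_, S.isPGroup.map _, ?_, ?_, ?_, ?_, ?_⟩
  · obtain ⟨x, -, rfl⟩ := hx
    exact x.2
  · refine ⟨?_, ?_, ?_, ?_, ?_, ?_, ?_, ?_, ?_, ?_⟩
    · rw [MulAction.is_two_pretransitive_iff]
      intro a b c d hab hcd
      obtain ⟨g, h1, h2⟩ := MulAction.is_two_pretransitive_iff.1 hS.two_transitive hab hcd
      exact ⟨ι g, h1, h2⟩
    · rw [← map_mul, hS.mul_self, map_one]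
    · exact fun h => hS.ne_one (ι.injective (h.trans (map_one ι).symm))
    · exact fun h => hS.not_mem ((hstab t o).1 h)
    · rw [hstab']; exact map_mono hS.le
    · rw [hstab']
      rintro _ ⟨h, hh, rfl⟩ _ ⟨x, hx, rfl⟩
      exact ⟨h * x * h⁻¹, hS.conj_mem h hh x hx, by simp⟩
    · rw [show (ι t) • o = t • o from hι t o, hstab', ← map_inf _ _ ι.toMonoidHom ι.injective,
        hS.inf_eq_bot, Subgroup.map_bot]
    · rw [show (ι t) • o = t • o from hι t o, hstab', hstab', ← map_inf _ _ ι.toMonoidHom ι.injective,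
        ← Subgroup.map_sup, hS.sup_eq]
    · rw [card_map_of_injective ι.injective]
      exact hS.even_card
    · rw [show (ι t) • o = t • o from hι t o, hstab', hstab', ← map_inf _ _ ι.toMonoidHom ι.injective,
        card_map_of_injective ι.injective]
      exact hS.odd_card
  · obtain ⟨x, y, h1, h2, h3, h4, h5, h6⟩ := S.two
    exact ⟨ι x, ι y, fun h => h1 (ι.injective (h.trans (map_one ι).symm)),
      fun h => h2 (ι.injective (h.trans (map_one ι).symm)), fun h => h3 (ι.injective h),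
      by rw [← map_mul, h4, map_one], by rw [← map_mul, h5, map_one], by
        rw [← map_mul, h6, map_mul]⟩
  · intro hab
    rintro _ ⟨x, hx, rfl⟩
    show ι x * ι x = 1
    rw [← map_mul, S.elem ⟨⟨fun a b => Subtype.ext (ι.injective (by
      rw [Subgroup.coe_mul, Subgroup.coe_mul, map_mul, map_mul]
      exact Signalizer.commute_of_isMulCommutative hab (mem_map_of_mem ι.toMonoidHom a.2)
        (mem_map_of_mem ι.toMonoidHom b.2)))⟩⟩ x hx, map_one]
  · intro y hy hy2 huniq
    refine ⟨⟨y, hy⟩, (S.mem_iff ⟨y, hy⟩ (by rw [Subgroup.orderOf_mk]; exact hy2)).1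
      fun p q hp hq => he.1 (huniq (e p) (e q) ?_ ?_), rfl⟩
    · exact (hsm ⟨y, hy⟩ p).symm.trans (congrArg e hp)
    · exact (hsm ⟨y, hy⟩ q).symm.trans (congrArg e hq)
  · rintro _ ⟨y, hy, rfl⟩ hy2 p q hp hq
    obtain ⟨p, rfl⟩ := he.2 p
    obtain ⟨q, rfl⟩ := he.2 q
    exact congrArg e ((S.mem_iff y (by rw [← Subgroup.orderOf_coe]; exact hy2)).2 hy p q
      (he.1 ((hsm y p).trans hp)) (he.1 ((hsm y q).trans hq)))
  · rintro _ ⟨y, hy, rfl⟩ hy2
    obtain ⟨g, hg⟩ := isConj_iff.1 (S.isConj y hy (by rw [← Subgroup.orderOf_coe]; exact hy2))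
    obtain ⟨k, -, hk, hkz, hku, hkeq, -⟩ := hconjd g
    exact ⟨k, hk, hkz, hku, hkeq.trans (congrArg Subtype.val hg)⟩

/-- The set-up for the whole stabiliser of `{u, u⁻¹}`. -/
theorem exists_lineSetup (hN : H.normalCore = zpowers z) {u : K} (hu : LineHyp H z u) :
    ∃ (Lg : Subgroup (Equiv.Perm (Line H u))) (t : Lg) (Q : Subgroup Lg),
      LineSetup H z u (lineStab u) ⟨base H, smul_base_eq_iff.2 hu.u_mem⟩ Lg t Q := by
  classical
  haveI : Fact (Nat.Prime 2) := ⟨Nat.prime_two⟩
  obtain ⟨t₀, f, -, hf, -, hfu, -⟩ := hu.exists_inverter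
  set o : Line H u := ⟨base H, smul_base_eq_iff.2 hu.u_mem⟩
  set C := centralizer ({u} : Set K) with hC
  have hmemC : ∀ {x : K}, Commute x u → x ∈ C := fun hx => mem_centralizer_iff_commute.2 hx
  have hCu : ∀ {x : K}, x ∈ C → Commute x u := fun hx => mem_centralizer_iff_commute.1 hx
  have hCle : C ≤ lineStab u := fun x hx => mem_lineStab_of_commute (hCu hx)
  have hCn : (C.subgroupOf (lineStab u)).Normal := ⟨fun x hx g => by
    refine mem_subgroupOf.2 (hmemC ?_)
    have h := (hCu (mem_subgroupOf.1 hx)).map (MulAut.conj (g : K)).toMonoidHom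
    rcases g.2 with h' | h'
    · simpa [h'] using h
    · have h2 : Commute ((g : K) * x * (g : K)⁻¹) ((g : K) * u * (g : K)⁻¹) := by simpa using h
      rw [h'] at h2
      simpa using h2.inv_right⟩
  have hu2 : orderOf u = 4 := by
    have h := orderOf_eq_prime_pow (p := 2) (n := 1) (x := u)
      (by rw [pow_one, sq, hu.sq]; exact ne_one L.z2)
      (by rw [show (2 : ℕ) ^ (1 + 1) = 2 + 2 from rfl, pow_add, sq, hu.sq, mul_self L.z2])
    simpa using h
  -- a maximal 2-subgroup of `C ∩ H`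
  obtain ⟨S0, hS0⟩ := ((IsPGroup.of_card (p := 2) (n := 1) (G := zpowers f)
    (by rw [Nat.card_zpowers, hf.1, pow_one])).comap_of_injective (C ⊓ H).subtype
      (C ⊓ H).subtype_injective).exists_le_sylow
  set P0 := (S0 : Subgroup ↥(C ⊓ H)).map (C ⊓ H).subtype with hP0
  have hP0p : IsPGroup 2 P0 := S0.isPGroup'.map _
  have hP0le : P0 ≤ C ⊓ H := map_subtype_le _
  have hP0max : ∀ R : Subgroup K, IsPGroup 2 R → P0 ≤ R → R ≤ C ⊓ H → R ≤ P0 := by
    intro R hR hle hRle x hx
    have h1 := S0.is_maximal' (hR.comap_of_injective (C ⊓ H).subtype (C ⊓ H).subtype_injective)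
      (fun y hy => hle ⟨y, hy, rfl⟩)
    exact ⟨⟨x, hRle hx⟩, h1 ▸ (show (⟨x, hRle hx⟩ : ↥(C ⊓ H)) ∈ R.comap (C ⊓ H).subtype from hx),
      rfl⟩
  have hfP : f ∈ P0 := ⟨⟨f, hmemC hfu, hf.2.2⟩, hS0 (show _ ∈ zpowers f from mem_zpowers f), rfl⟩
  have huP : u ∈ P0 := by
    refine hP0max (P0 ⊔ zpowers u) (hP0p.to_sup_of_normal_right' (IsPGroup.of_card (n := 2)
      (by rw [Nat.card_zpowers, hu2]; norm_num)) fun x hx => ?_) le_sup_left
      (sup_le hP0le (zpowers_le.2 ⟨hmemC (Commute.refl u), hu.u_mem⟩))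
      (mem_sup_right (mem_zpowers u))
    refine Coprime.mem_normalizer_of_forall fun w hw => ?_
    obtain ⟨i, rfl⟩ := mem_zpowers_iff.1 hw
    rw [((hCu (hP0le hx).1).zpow_right i).eq, mul_inv_cancel_right]
    exact hw
  have hu2' : orderOf (⟨u, huP⟩ : P0) = 4 := by rw [Subgroup.orderOf_mk]; exact hu2
  obtain ⟨d, hdd, hdu, hdc⟩ := CyclicMeet.exists_central_involution hP0p
    (v := (⟨u, huP⟩ : P0)) (mem_center_iff.2 fun x => Subtype.ext (hCu (hP0le x.2).1).eq) hu2'
    (t₁ := ⟨f, hfP⟩) (Subtype.ext (mul_self hf.1)) (fun hm => by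
      rcases CyclicMeet.mem_zpowers_four hu2' hm (Subtype.ext (mul_self hf.1)) with h | h
      · exact ne_one hf.1 (congrArg Subtype.val h)
      · exact hf.2.1 ((congrArg Subtype.val h).trans hu.sq))
  have hd2 : orderOf (d : K) = 2 := orderOf_of_sq (congrArg Subtype.val hdd)
    fun e => hdu (by rw [show d = 1 from Subtype.ext e]; exact one_mem _)
  have hdz : (d : K) ≠ z := fun e => hdu ⟨2, Subtype.ext (by
    show ((⟨u, huP⟩ : P0) ^ (2 : ℤ) : P0).1 = d
    rw [Subgroup.coe_zpow, zpow_two, e]; exact hu.sq)⟩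
  obtain ⟨Lc, tc, Qc, SC⟩ := L.lineSetup_of_central hN hu hCle le_rfl hCn hP0p hP0le hP0max
    hd2 hdz (hCu (hP0le d.2).1) d.2 (fun s hs => by
      rcases hdc ⟨s, hs⟩ with h | h
      · exact Or.inl (congrArg Subtype.val h)
      · refine Or.inr ((congrArg Subtype.val h).trans ?_)
        show (d : K) * (u * u) = d * z
        rw [hu.sq])
  -- a maximal 2-subgroup of `lineStab u ∩ H` over `P0`
  obtain ⟨S1, hS1⟩ := (hP0p.comap_of_injective (lineStab u ⊓ H).subtype
    (lineStab u ⊓ H).subtype_injective).exists_le_sylow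
  set P1 := (S1 : Subgroup ↥(lineStab u ⊓ H)).map (lineStab u ⊓ H).subtype with hP1
  have hP1p : IsPGroup 2 P1 := S1.isPGroup'.map _
  have hP1le : P1 ≤ lineStab u ⊓ H := map_subtype_le _
  have hP1max : ∀ R : Subgroup K, IsPGroup 2 R → P1 ≤ R → R ≤ lineStab u ⊓ H → R ≤ P1 := by
    intro R hR hle hRle x hx
    have h1 := S1.is_maximal' (hR.comap_of_injective (lineStab u ⊓ H).subtype
      (lineStab u ⊓ H).subtype_injective) (fun y hy => hle ⟨y, hy, rfl⟩)
    exact ⟨⟨x, hRle hx⟩, h1 ▸ (show (⟨x, hRle hx⟩ : ↥(lineStab u ⊓ H)) ∈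
      R.comap (lineStab u ⊓ H).subtype from hx), rfl⟩
  have hP01 : P0 ≤ P1 := fun x hx =>
    ⟨⟨x, hCle (hP0le hx).1, (hP0le hx).2⟩, hS1 (show _ ∈ P0 from hx), rfl⟩
  have hP1C : ∀ x ∈ P1, x ∈ C → x ∈ P0 := fun x hx hxC =>
    hP0max (P1 ⊓ C) (hP1p.to_le inf_le_left) (le_inf hP01 (hP0le.trans inf_le_left))
      (le_inf inf_le_right (inf_le_left.trans (hP1le.trans inf_le_right))) ⟨hx, hxC⟩
  have hP1norm : ∀ s ∈ P1, ∀ x ∈ P0, s * x * s⁻¹ ∈ P0 := fun s hs x hx =>
    hP1C _ (P1.mul_mem (P1.mul_mem hs (hP01 hx)) (P1.inv_mem hs))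
      (mem_subgroupOf.1 (hCn.conj_mem ⟨x, hCle (hP0le hx).1⟩ (mem_subgroupOf.2 (hP0le hx).1)
        ⟨s, (hP1le hs).1⟩))
  -- the members centralising the image of `P0`
  set P0b := (P0.subgroupOf (lineStab u)).map (lineRho H u) with hP0b
  set Ec : Subgroup (Equiv.Perm (Line H u)) :=
    (FTUse.RankOne.ee (haveI : FaithfulSMul Lc (Line H u) := inferInstance; SC.setup)
      SC.two).map Lc.subtype ⊓ centralizer (P0b : Set (Equiv.Perm (Line H u))) with hEc
  have hEc_iff : ∀ y : Equiv.Perm (Line H u), y ≠ 1 → (y ∈ Ec ↔ y ∈ lineImage H u C ∧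
      orderOf y = 2 ∧ y • o = o ∧ (∀ p q : Line H u, y • p = p → y • q = q → p = q) ∧
      ∀ w ∈ P0b, w * y = y * w) := by
    intro y hy1
    constructor
    · rintro ⟨⟨⟨y, hyL⟩, hye, rfl⟩, hyc⟩
      have hy2 : orderOf y = 2 := orderOf_of_sq (congrArg Subtype.val hye.2) hy1
      exact ⟨SC.le hyL, hy2, mem_stabilizer_iff.1 hye.1, SC.unique y hyL hy2, hyc⟩
    · rintro ⟨h1, h2, h3, h4, h5⟩
      exact ⟨⟨⟨y, SC.mem y h1 h2 h4⟩, ⟨mem_stabilizer_iff.2 h3, Subtype.ext (mul_self h2)⟩, rfl⟩, h5⟩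
  set db := lineRho H u ⟨d, hCle (hP0le d.2).1⟩ with hdb
  have hdb2 : orderOf db = 2 := L.orderOf_lineRho hu hd2 hdz
  have hdbE : db ∈ Ec := by
    refine (hEc_iff db (ne_one hdb2)).2 ⟨mem_lineImage (hP0le d.2).1, hdb2,
      Subtype.ext (smul_base_eq_iff.2 (hP0le d.2).2), L.line_unique hd2 hdz, ?_⟩
    rintro _ ⟨k, hk, rfl⟩
    refine Equiv.ext fun p => Subtype.ext ?_
    show (k : K) • ((d : K) • (p : K ⧸ H)) = (d : K) • ((k : K) • (p : K ⧸ H))
    rw [← mul_smul, ← mul_smul]
    rcases hdc ⟨k, hk⟩ with h | h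
    · rw [show (k : K) * d = d * k from mul_inv_eq_iff_eq_mul.1 (congrArg Subtype.val h)]
    · have h' : (k : K) * d * (k : K)⁻¹ = d * (u * u) := congrArg Subtype.val h
      rw [hu.sq, mul_inv_eq_iff_eq_mul, mul_assoc, (L.z_comm k).eq, ← mul_assoc] at h'
      rw [h', mul_smul, L.z_smul]
  -- `P1` normalises it and fixes a member
  set P1b := (P1.subgroupOf (lineStab u)).map (lineRho H u) with hP1b
  have hP1bN : P1b ≤ normalizer (Ec : Set (Equiv.Perm (Line H u))) := by
    rintro _ ⟨s, hs, rfl⟩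
    refine Coprime.mem_normalizer_of_forall fun y hy => ?_
    by_cases hy1 : y = 1
    · rw [hy1, mul_one, mul_inv_cancel]; exact one_mem _
    obtain ⟨h1, h2, h3, h4, h5⟩ := (hEc_iff y hy1).1 hy
    have hso : lineRho H u s • o = o := Subtype.ext (smul_base_eq_iff.2 (hP1le hs).2)
    have hso' : (lineRho H u s)⁻¹ • o = o := inv_smul_eq_iff.2 hso.symm
    refine (hEc_iff _ (fun e => hy1 (conj_eq_one_iff.1 e))).2 ⟨?_, ?_, ?_, ?_, ?_⟩
    · obtain ⟨k, hk, rfl⟩ := h1
      exact ⟨s * k * s⁻¹, hCn.conj_mem k hk s, by rw [map_mul, map_mul, map_inv]⟩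
    · rw [orderOf_conj]; exact h2
    · rw [mul_smul, mul_smul, hso', h3, hso]
    · intro p q hp hq
      refine MulAction.injective _ (h4 ((lineRho H u s)⁻¹ • p) ((lineRho H u s)⁻¹ • q) ?_ ?_) <;>
        · rw [eq_inv_smul_iff, ← mul_smul, ← mul_smul]; assumption
    · rintro _ ⟨k, hk, rfl⟩
      have hk' : lineRho H u (s⁻¹ * k * s) ∈ P0b := by
        refine mem_map_of_mem _ ?_
        have := hP1norm _ (P1.inv_mem hs) k hk
        rwa [inv_inv] at this
      have e := h5 _ hk'
      rw [map_mul, map_mul, map_inv] at e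
      calc lineRho H u k * (lineRho H u s * y * (lineRho H u s)⁻¹)
          = lineRho H u s * ((lineRho H u s)⁻¹ * lineRho H u k * lineRho H u s * y) *
            (lineRho H u s)⁻¹ := by group
        _ = lineRho H u s * y * (lineRho H u s)⁻¹ * lineRho H u k := by rw [e]; group
  obtain ⟨y, hyE, hy1, hyfix⟩ : ∃ y ∈ Ec, y ≠ 1 ∧ ∀ s ∈ P1b, s * y * s⁻¹ = y := by
    have hP1bp : IsPGroup 2 P1b := (hP1p.comap_of_injective (lineStab u).subtype
      (lineStab u).subtype_injective).map _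
    let φ : P1b →* MulAut Ec :=
      (Subgroup.normalizerMonoidHom Ec).comp (Subgroup.inclusion hP1bN)
    letI : MulAction P1b Ec := MulAction.compHom Ec φ
    have h2 : 2 ∣ Nat.card Ec := by
      refine dvd_trans ?_ (orderOf_dvd_natCard Ec hdbE)
      rw [hdb2]
    obtain ⟨b, hb, hb1⟩ := hP1bp.exists_fixed_point_of_prime_dvd_card_of_fixed_point (α := Ec) h2
      (a := 1) (fun g => map_one (φ g))
    exact ⟨b, b.2, fun e => hb1 (Subtype.ext e.symm), fun s hs =>
      congrArg Subtype.val (hb ⟨s, hs⟩)⟩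
  -- a lift in `P0`
  obtain ⟨hyC, hy2, hyo, hyu, -⟩ := (hEc_iff y hy1).1 hyE
  obtain ⟨e, he, hez, heu, hey⟩ := SC.lift y (SC.mem y hyC hy2 hyu) hy2
  have heH : (e : K) ∈ H := smul_base_eq_iff.1 (congrArg Subtype.val (hey ▸ hyo : lineRho H u e • o = o))
  set Pre : Subgroup ↥(C ⊓ H) :=
    (Subgroup.zpowers y).comap ((lineRho H u).comp (inclusion (inf_le_left.trans hCle))) with hPre
  have hyy : ∀ s ∈ P1, ∀ hs : s ∈ lineStab u, lineRho H u ⟨s, hs⟩ * y * (lineRho H u ⟨s, hs⟩)⁻¹ = y :=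
    fun s h hs => hyfix _ (mem_map_of_mem _ (show (⟨s, hs⟩ : lineStab u) ∈ P1.subgroupOf _ from h))
  have heC : (⟨e, hmemC heu, heH⟩ : ↥(C ⊓ H)) ∈ Pre := by
    show lineRho H u ⟨e, _⟩ ∈ Subgroup.zpowers y
    rw [show (⟨(e : K), _⟩ : lineStab u) = e from Subtype.ext rfl, hey]
    exact mem_zpowers y
  set Γ1 := (S0 : Subgroup ↥(C ⊓ H)) ⊔ Pre with hΓ1
  have hS0norm : (S0 : Subgroup ↥(C ⊓ H)) ≤ normalizer (Pre : Set ↥(C ⊓ H)) := by
    intro s hs
    refine Coprime.mem_normalizer_of_forall fun x hx => ?_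
    obtain ⟨i, hi⟩ := mem_zpowers_iff.1 hx
    refine ⟨i, ?_⟩
    show y ^ i = lineRho H u _
    rw [map_mul, map_mul, map_inv, MonoidHom.map_mul, MonoidHom.map_mul, MonoidHom.map_inv]
    show y ^ i = _ * lineRho H u (inclusion _ x) * _
    rw [show lineRho H u (inclusion _ x) = y ^ i from hi.symm, ← conj_zpow]
    exact (congrArg (· ^ i) (hyy s (hP01 ⟨s, hs, rfl⟩) (hCle s.2.1))).symm
  obtain ⟨g, hg, hgS⟩ := exists_conj_sylow_mem S0 (Γ := Γ1) le_sup_left
    (P := zpowers ⟨e, hmemC heu, heH⟩) (IsPGroup.of_card (n := 1)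
      (by rw [Nat.card_zpowers, ← Subgroup.orderOf_coe, pow_one]; exact he))
    (zpowers_le.2 (mem_sup_right heC))
  set e' : K := (g : K) * e * (g : K)⁻¹ with he'def
  have he'P : e' ∈ P0 := ⟨_, hgS _ (mem_zpowers _), rfl⟩
  have he'2 : orderOf e' = 2 := by rw [he'def, orderOf_conj]; exact he
  have he'z : e' ≠ z := fun h => hez (by
    rw [show (e : K) = (g : K)⁻¹ * e' * g by rw [he'def]; group, h, ← (L.z_comm (g : K)⁻¹).eq,
      inv_mul_cancel_right])
  have he'u : Commute e' u := hCu (hP0le he'P).1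
  have he'y : lineRho H u ⟨e', hCle (hP0le he'P).1⟩ = y := by
    have hg' : g ∈ Pre ⊔ (S0 : Subgroup ↥(C ⊓ H)) := by rw [sup_comm]; exact hg
    obtain ⟨a, ha, b, hb, hab⟩ := (Coprime.mem_sup_iff hS0norm).1 hg'
    obtain ⟨i, hi⟩ := mem_zpowers_iff.1 ha
    have h1 : (⟨e', hCle (hP0le he'P).1⟩ : lineStab u) =
        (inclusion (inf_le_left.trans hCle) g) * e * (inclusion (inf_le_left.trans hCle) g)⁻¹ :=
      Subtype.ext rfl
    have hi' : lineRho H u (inclusion (inf_le_left.trans hCle) a) = y ^ i := hi.symm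
    have hb' := hyy b (hP01 ⟨b, hb, rfl⟩) (hCle b.2.1)
    have hle : C ⊓ H ≤ lineStab u := inf_le_left.trans hCle
    rw [h1, ← hab, map_mul, map_mul, map_inv, map_mul, map_mul, hey, hi']
    calc y ^ i * lineRho H u (inclusion hle b) * y * (y ^ i * lineRho H u (inclusion hle b))⁻¹
        = y ^ i * (lineRho H u (inclusion hle b) * y * (lineRho H u (inclusion hle b))⁻¹) * (y ^ i)⁻¹ := by
          group
      _ = y := by
        rw [show lineRho H u (inclusion hle b) * y * (lineRho H u (inclusion hle b))⁻¹ = y from hb',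
          ← zpow_add_one, ← zpow_neg, ← zpow_add]
        simp
  obtain ⟨q, hq⟩ := exists_line_ne hu o
  obtain ⟨Lg, t, Q, S⟩ := L.lineSetup_of_central hN hu le_rfl hCle
    (by rw [subgroupOf_self]; infer_instance) hP1p hP1le hP1max he'2 he'z he'u (hP01 he'P)
    (fun s hs => by
      have hsl := (hP1le hs).1
      have he's := hP1norm s hs e' he'P
      set r := e' * (s * e' * s⁻¹) with hr
      have hrP : r ∈ P0 := P0.mul_mem he'P he's
      have hrρ : lineRho H u ⟨r, hCle (hP0le hrP).1⟩ = 1 := by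
        rw [show (⟨r, hCle (hP0le hrP).1⟩ : lineStab u) = ⟨e', hCle (hP0le he'P).1⟩ *
          (⟨s, hsl⟩ * ⟨e', hCle (hP0le he'P).1⟩ * ⟨s, hsl⟩⁻¹) from Subtype.ext rfl,
          map_mul, map_mul, map_mul, map_inv, he'y, hyy s hs hsl, mul_self hy2]
      have hfix : ∀ p : Line H u, r • (p : K ⧸ H) = p := fun p =>
        congrArg Subtype.val (Equiv.ext_iff.1 hrρ p)
      obtain ⟨n, hn⟩ := orderOf_eq_two_pow_of_mem hP0p hrP
      rcases L.inverted_mem hu.sq (d := e') (r := r) (n := n) he'u (hCu (hP0le hrP).1)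
          (inverts_mul_left he'2 ((orderOf_conj s e').trans he'2))
          (hn ▸ pow_orderOf_eq_one r) (fun h => hq (Subtype.ext h)) q.2 o.2 (hfix q) (hfix o) with
        h | h
      · refine Or.inl ?_
        rw [hr, mul_eq_one_iff_inv_eq, inv_eq he'2] at h
        exact h.symm
      · refine Or.inr ?_
        rw [hr] at h
        have h' : e' * (e' * (s * e' * s⁻¹)) = s * e' * s⁻¹ := by
          rw [← mul_assoc e' e', mul_self he'2, one_mul]
        rw [h] at h'
        exact h'.symm)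
  exact ⟨Lg, t, Q, S⟩

end LocB

end Cfsg.Agent.TwoCore
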