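/-
The alternating group on a line of five points (notes/two_core_structure.md, line lemma (e)).

* `five_mem` : a transitive group on five points with two commuting involutions fixing one point each
  contains every element of order three or five
* `Loc.exists_alt_lift` : such permutations of the line lift to odd-order elements of `C(u)`
* `Loc.exists_three` : the field `three` of `LineData`
-/
import Cfsg.Agent.Lib.TwoCore.LineCrit

set_option autoImplicit false
set_option linter.unusedSectionVars false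
set_option linter.style.haveILetI false

namespace Cfsg.Agent.TwoCore

open Subgroup Involution MulAction Equiv

universe u

/-- An involution of five letters with at most one fixed letter. -/
def PermOneFix (x : Equiv.Perm (Fin 5)) : Prop :=
  x * x = 1 ∧ ∀ i j, x i = i → x j = j → i = j

instance (x : Equiv.Perm (Fin 5)) : Decidable (PermOneFix x) := by unfold PermOneFix; infer_instance

/-- `p → q → r → p`. -/
def cyc {α : Type*} [DecidableEq α] (p q r : α) : Equiv.Perm α := swap p r * swap p q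

theorem five_fix : ∀ x : Equiv.Perm (Fin 5), PermOneFix x → ∃ i, x i = i := by decide +kernel

set_option synthInstance.maxSize 4000 in
theorem five_four : ∀ x : Equiv.Perm (Fin 5), PermOneFix x → ∀ y : Equiv.Perm (Fin 5),
    (PermOneFix y ∧ x * y = y * x ∧ x ≠ y) → ∀ d : Equiv.Perm (Fin 5),
    (PermOneFix d ∧ ∀ i, x i = i → d i = i) → d = x ∨ d = y ∨ d = x * y := by
  decide +kernel

theorem five_cyc : ∀ p q r : Fin 5, (p ≠ q ∧ q ≠ r ∧ p ≠ r) → ∃ s t : Fin 5,
    PermOneFix (swap p r * swap s t) ∧ PermOneFix (swap p q * swap s t) ∧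
      cyc p q r = swap p r * swap s t * (swap p q * swap s t) := by
  decide +kernel

theorem five_three : ∀ c : Equiv.Perm (Fin 5), (c * c * c = 1 ∧ c ≠ 1) →
    ∃ p : Fin 5, (p ≠ c p ∧ c p ≠ c (c p) ∧ p ≠ c (c p)) ∧ c = cyc p (c p) (c (c p)) := by
  decide +kernel

theorem five_five : ∀ c : Equiv.Perm (Fin 5), (c * c * c * c * c = 1 ∧ c ≠ 1) →
    (((0 : Fin 5) ≠ c 0 ∧ c 0 ≠ c (c 0) ∧ (0 : Fin 5) ≠ c (c 0)) ∧
      (c (c 0) ≠ c (c (c 0)) ∧ c (c (c 0)) ≠ c (c (c (c 0))) ∧ c (c 0) ≠ c (c (c (c 0))))) ∧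
      c = cyc 0 (c 0) (c (c 0)) * cyc (c (c 0)) (c (c (c 0))) (c (c (c (c 0)))) := by
  decide +kernel

/-- A transitive group on five points with two commuting involutions each fixing at most one point
contains the elements of order three and five. -/
theorem five_mem {M : Subgroup (Equiv.Perm (Fin 5))} (htr : ∀ i j : Fin 5, ∃ g ∈ M, g i = j)
    {x y : Equiv.Perm (Fin 5)} (hx : x ∈ M) (hy : y ∈ M) (hx1 : PermOneFix x) (hy1 : PermOneFix y)
    (hxy : x * y = y * x) (hne : x ≠ y) {c : Equiv.Perm (Fin 5)}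
    (hc : orderOf c = 3 ∨ orderOf c = 5) : c ∈ M := by
  obtain ⟨o, ho⟩ := five_fix x hx1
  have hall : ∀ d : Equiv.Perm (Fin 5), PermOneFix d → d ∈ M := by
    intro d hd
    obtain ⟨r, hr⟩ := five_fix d hd
    obtain ⟨g, hg, hgo⟩ := htr o r
    have hgi : ∀ i, g (g⁻¹ i) = i := fun i => g.apply_symm_apply i
    have hd' : PermOneFix (g⁻¹ * d * g) := by
      refine ⟨?_, fun i j hi hj => g.injective (hd.2 _ _ ?_ ?_)⟩
      · rw [show g⁻¹ * d * g * (g⁻¹ * d * g) = g⁻¹ * (d * d) * g by group, hd.1, mul_one,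
          inv_mul_cancel]
      · conv_rhs => rw [← hi]
        rw [Perm.mul_apply, Perm.mul_apply, hgi]
      · conv_rhs => rw [← hj]
        rw [Perm.mul_apply, Perm.mul_apply, hgi]
    have hfix : ∀ i, x i = i → (g⁻¹ * d * g) i = i := by
      intro i hi
      obtain rfl : i = o := hx1.2 _ _ hi ho
      rw [Perm.mul_apply, Perm.mul_apply, hgo, hr, ← hgo]
      exact g.symm_apply_apply _
    have hmem : g⁻¹ * d * g ∈ M := by
      rcases five_four x hx1 y ⟨hy1, hxy, hne⟩ _ ⟨hd', hfix⟩ with h | h | h <;> rw [h]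
      exacts [hx, hy, M.mul_mem hx hy]
    rw [show d = g * (g⁻¹ * d * g) * g⁻¹ by group]
    exact M.mul_mem (M.mul_mem hg hmem) (M.inv_mem hg)
  have hcyc : ∀ p q r : Fin 5, (p ≠ q ∧ q ≠ r ∧ p ≠ r) → cyc p q r ∈ M := by
    intro p q r h
    obtain ⟨s, t, h1, h2, e⟩ := five_cyc p q r h
    rw [e]
    exact M.mul_mem (hall _ h1) (hall _ h2)
  have hc1 : c ≠ 1 := by
    rintro rfl
    rw [orderOf_one] at hc
    omega
  rcases hc with h | h
  · obtain ⟨p, hp, e⟩ := five_three c ⟨by
      have := pow_orderOf_eq_one c; rwa [h, pow_succ, pow_two] at this, hc1⟩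
    rw [e]
    exact hcyc _ _ _ hp
  · obtain ⟨⟨h1, h2⟩, e⟩ := five_five c ⟨by
      have := pow_orderOf_eq_one c
      rwa [h, pow_succ, pow_succ, pow_succ, pow_two] at this, hc1⟩
    rw [e]
    exact M.mul_mem (hcyc _ _ _ h1) (hcyc _ _ _ h2)

set_option linter.unusedVariables false

variable {K : Type u} [Group K] [Finite K] {T : Sylow 2 K} {H : Subgroup K} {z v : K}

namespace LocB

variable (L : LocB T H z v)
include L

/-- Permutations of order three or five of a line of five points lift to odd-order elements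
commuting with `u`. -/
theorem exists_alt_lift {u : K} (hu : LineHyp H z u) {o : Line H u}
    {Lg : Subgroup (Equiv.Perm (Line H u))} {t : Lg} {Q : Subgroup Lg}
    (S : LineSetup H z u (lineStab u) o Lg t Q) (h5 : Nat.card (Line H u) = 5)
    {c : Equiv.Perm (Line H u)} (hc : orderOf c = 3 ∨ orderOf c = 5) :
    ∃ k : lineStab u, Odd (orderOf (k : K)) ∧ Commute (k : K) u ∧ lineRho H u k = c := by
  classical
  let g : Line H u ≃ Fin 5 := Finite.equivFinOfCardEq h5
  let π := g.permCongrHom.toMonoidHom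
  have hπ : ∀ (f : Equiv.Perm (Line H u)) i, π f i = g (f (g.symm i)) := fun f i => rfl
  have hinj : Function.Injective π := g.permCongrHom.injective
  have hLg : ∀ y ∈ Lg, y ≠ 1 → y * y = 1 → PermOneFix (π y) := by
    intro y hy hy1 hy2
    refine ⟨by rw [← map_mul, hy2, map_one], fun i j hi hj => g.symm.injective ?_⟩
    have key : ∀ i, π y i = i → y • g.symm i = g.symm i := fun i h => by
      rw [hπ] at h
      exact g.injective (h.trans (g.apply_symm_apply i).symm)
    exact S.unique y hy (orderOf_of_sq hy2 hy1) _ _ (key i hi) (key j hj)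
  obtain ⟨⟨x, hx⟩, ⟨y, hy⟩, hx1, hy1, hxy, hx2, hy2, hcomm⟩ := S.two
  have htr : ∀ i j : Fin 5, ∃ f ∈ Lg.map π, f i = j := by
    intro i j
    haveI := S.setup.two_transitive
    haveI : MulAction.IsPretransitive Lg (Line H u) :=
      MulAction.isPretransitive_of_is_two_pretransitive
    obtain ⟨f, hf⟩ := MulAction.exists_smul_eq Lg (g.symm i) (g.symm j)
    refine ⟨_, mem_map_of_mem π f.2, ?_⟩
    rw [hπ]
    exact (congrArg g hf).trans (g.apply_symm_apply j)
  have hmem := five_mem htr (mem_map_of_mem π hx) (mem_map_of_mem π hy)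
    (hLg x hx (fun h => hx1 (Subtype.ext h)) (congrArg Subtype.val hx2))
    (hLg y hy (fun h => hy1 (Subtype.ext h)) (congrArg Subtype.val hy2))
    (by rw [← map_mul, ← map_mul]; exact congrArg π (congrArg Subtype.val hcomm))
    (fun h => hxy (Subtype.ext (hinj h))) (c := π c) (by rwa [orderOf_injective π hinj])
  obtain ⟨c', hc', e⟩ := hmem
  rw [hinj e] at hc'
  obtain ⟨k, -, hk⟩ := exists_of_mem_lineImage (S.le hc')
  obtain ⟨j, m, hm, hjm⟩ := Nat.exists_eq_two_pow_mul_odd (orderOf_pos k).ne'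
  set k' : lineStab u := k ^ (16 ^ j) with hk'
  have hodd : Odd (orderOf (k' : K)) := by
    refine Odd.of_dvd_nat hm ?_
    rw [Subgroup.orderOf_coe, orderOf_dvd_iff_pow_eq_one, hk', ← pow_mul,
      ← orderOf_dvd_iff_pow_eq_one, hjm]
    refine mul_dvd_mul_right ?_ m
    rw [show (16 : ℕ) = 2 ^ 4 from rfl, ← pow_mul]
    exact pow_dvd_pow 2 (by omega)
  refine ⟨k', hodd, ?_, ?_⟩
  · obtain ⟨l, hl⟩ := hodd
    have e2 : (k' : K) = ((k' : K) * k') ^ (l + 1) := by
      rw [← pow_two, ← pow_mul, show 2 * (l + 1) = orderOf (k' : K) + 1 by omega, pow_succ,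
        pow_orderOf_eq_one, one_mul]
    have hsq : Commute ((k' : K) * k') u := by
      have e1 : (k' : K) * k' * u * ((k' : K) * k')⁻¹ = k' * (k' * u * (k' : K)⁻¹) * (k' : K)⁻¹ := by
        group
      rcases mem_lineStab.1 k'.2 with h | h
      · exact commute_of_conj_eq (by rw [e1, h, h])
      · exact commute_of_conj_eq (by rw [e1, h, ← conj_inv, h, inv_inv])
    rw [e2]
    exact hsq.pow_left _
  · rw [hk', map_pow, hk]
    have h15 : c ^ 15 = 1 := by
      rw [← orderOf_dvd_iff_pow_eq_one]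
      rcases hc with h | h <;> rw [h] <;> norm_num
    have h16 : 16 ^ j = 15 * ((16 ^ j - 1) / 15) + 1 := by
      have h1 : 15 ∣ 16 ^ j - 1 := by simpa using Nat.sub_dvd_pow_sub_pow 16 1 j
      have := Nat.div_mul_cancel h1
      have : 1 ≤ 16 ^ j := Nat.one_le_pow _ _ (by norm_num)
      omega
    rw [h16, pow_succ, pow_mul, h15, one_pow, one_mul]

/-- The field `three` of `LineData`. -/
theorem exists_three {u : K} (hu : LineHyp H z u) {o : Line H u}
    {Lg : Subgroup (Equiv.Perm (Line H u))} {t : Lg} {Q : Subgroup Lg}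
    (S : LineSetup H z u (lineStab u) o Lg t Q) (h5 : Nat.card (Line H u) = 5) :
    ∀ p q r : K ⧸ H, u • p = p → u • q = q → u • r = r → p ≠ q → q ≠ r → p ≠ r →
      ∃ c : K, Odd (orderOf c) ∧ Commute c u ∧ c • p = q ∧ c • q = r ∧ c • r = p ∧
        ∀ s : K ⧸ H, u • s = s → s ≠ p → s ≠ q → s ≠ r → c • s = s := by
  classical
  letI : Fintype (Line H u) := Fintype.ofFinite _
  intro p q r hp hq hr hpq hqr hpr
  set p' : Line H u := ⟨p, hp⟩
  set q' : Line H u := ⟨q, hq⟩
  set r' : Line H u := ⟨r, hr⟩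
  have npq : p' ≠ q' := fun e => hpq (congrArg Subtype.val e)
  have nqr : q' ≠ r' := fun e => hqr (congrArg Subtype.val e)
  have npr : p' ≠ r' := fun e => hpr (congrArg Subtype.val e)
  have hc : orderOf (cyc p' q' r') = 3 :=
    (Perm.isThreeCycle_swap_mul_swap_same npr npq nqr.symm).orderOf
  obtain ⟨k, hodd, hku, hk⟩ := L.exists_alt_lift hu S h5 (Or.inl hc)
  have happ : ∀ s : Line H u, (k : K) • (s : K ⧸ H) = ((cyc p' q' r' s : Line H u) : K ⧸ H) :=
    fun s => by rw [← hk]; rfl
  refine ⟨k, hodd, hku, (happ p').trans (congrArg Subtype.val (?_ : cyc p' q' r' p' = q')),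
    (happ q').trans (congrArg Subtype.val (?_ : cyc p' q' r' q' = r')),
    (happ r').trans (congrArg Subtype.val (?_ : cyc p' q' r' r' = p')),
    fun s hs h1 h2 h3 => (happ ⟨s, hs⟩).trans
      (congrArg Subtype.val (?_ : cyc p' q' r' ⟨s, hs⟩ = ⟨s, hs⟩))⟩
  · rw [cyc, Perm.mul_apply, swap_apply_left, swap_apply_of_ne_of_ne npq.symm nqr]
  · rw [cyc, Perm.mul_apply, swap_apply_right, swap_apply_left]
  · rw [cyc, Perm.mul_apply, swap_apply_of_ne_of_ne npr.symm nqr.symm, swap_apply_right]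
  · have n1 : (⟨s, hs⟩ : Line H u) ≠ p' := fun e => h1 (congrArg Subtype.val e)
    have n2 : (⟨s, hs⟩ : Line H u) ≠ q' := fun e => h2 (congrArg Subtype.val e)
    have n3 : (⟨s, hs⟩ : Line H u) ≠ r' := fun e => h3 (congrArg Subtype.val e)
    rw [cyc, Perm.mul_apply, swap_apply_of_ne_of_ne n1 n2, swap_apply_of_ne_of_ne n1 n3]

end LocB

end Cfsg.Agent.TwoCore
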