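/-
Lifts of the involutions of the line at the base (notes/two_core_structure.md, line lemma (d)).

* `Img H u k y` : `k` acts on the line as `y`
* `lineE S` : the involutions of the set-up at the base and `1`; `preE` its preimage
* `MaxTwo P A` : `P` is a maximal 2-subgroup of `A`
* `Loc.exists_member_lift`, `Loc.lift_unique` : lifts of the members in a maximal 2-subgroup of the preimage
* `Loc.exists_normalizing` : Frattini argument
-/
import Cfsg.Agent.Lib.TwoCore.LineCrit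

set_option autoImplicit false
set_option linter.unusedSectionVars false
set_option linter.style.haveILetI false

namespace Cfsg.Agent.TwoCore

open Subgroup Involution MulAction
open scoped Pointwise

universe u

variable {K : Type u} [Group K]

/-- `k` acts on the line of `u` as `y`. -/
def Img (H : Subgroup K) (u k : K) (y : Equiv.Perm (Line H u)) : Prop :=
  ∀ q : Line H u, k • (q : K ⧸ H) = ((y • q : Line H u) : K ⧸ H)

section img

variable {H : Subgroup K} {u : K}

theorem Img.mul {k k' : K} {y y' : Equiv.Perm (Line H u)} (h : Img H u k y) (h' : Img H u k' y') :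
    Img H u (k * k') (y * y') := fun q => by rw [mul_smul, h' q, h, mul_smul]

theorem Img.inv {k : K} {y : Equiv.Perm (Line H u)} (h : Img H u k y) : Img H u k⁻¹ y⁻¹ := fun q => by
  rw [inv_smul_eq_iff, h, smul_inv_smul]

theorem Img.conj {k k' : K} {y y' : Equiv.Perm (Line H u)} (h : Img H u k y) (h' : Img H u k' y') :
    Img H u (k * k' * k⁻¹) (y * y' * y⁻¹) := (h.mul h').mul h.inv

theorem Img.unique {k : K} {y y' : Equiv.Perm (Line H u)} (h : Img H u k y) (h' : Img H u k y') :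
    y = y' := Equiv.ext fun q => Subtype.ext ((h q).symm.trans (h' q))

theorem img_one : Img H u 1 1 := fun q => by rw [one_smul, one_smul]

theorem img_lineRho (k : lineStab u) : Img H u (k : K) (lineRho H u k) := fun _ => rfl

theorem img_one_iff {k : K} : Img H u k 1 ↔ FixesLine H u k :=
  ⟨fun h q hq => (h ⟨q, hq⟩).trans (by rw [one_smul]), fun h q => (h q q.2).trans (by rw [one_smul])⟩

end img

/-- `P` is a maximal 2-subgroup of `A`. -/
structure MaxTwo (P A : Subgroup K) : Prop where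
  isPGroup : IsPGroup 2 P
  le : P ≤ A
  max : ∀ R : Subgroup K, IsPGroup 2 R → P ≤ R → R ≤ A → R ≤ P

theorem MaxTwo.mem_of_normalizer {P A : Subgroup K} (hP : MaxTwo P A) {x : K} (hx : x ∈ A) {n : ℕ}
    (hx2 : x ^ 2 ^ n = 1) (hn : x ∈ normalizer (P : Set K)) : x ∈ P := by
  refine hP.max (P ⊔ zpowers x) ?_ le_sup_left (sup_le hP.le (zpowers_le.2 hx))
    (mem_sup_right (mem_zpowers x))
  refine IsPGroup.to_sup_of_normal_left' hP.isPGroup ?_ (zpowers_le.2 hn)
  rintro ⟨_, i, rfl⟩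
  exact ⟨n, Subtype.ext (by
    rw [SubmonoidClass.coe_pow, ← zpow_natCast, ← zpow_mul, mul_comm, zpow_mul, zpow_natCast, hx2,
      one_zpow]
    rfl)⟩

variable [Finite K]

theorem exists_maxTwo {A R : Subgroup K} (hR : IsPGroup 2 R) (hRA : R ≤ A) :
    ∃ P : Subgroup K, MaxTwo P A ∧ R ≤ P := by
  obtain ⟨S, hS⟩ := (hR.comap_of_injective A.subtype A.subtype_injective).exists_le_sylow
  refine ⟨(S : Subgroup A).map A.subtype, ⟨S.isPGroup'.map _, map_subtype_le _, ?_⟩,
    fun x hx => ⟨⟨x, hRA hx⟩, hS hx, rfl⟩⟩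
  intro R' hR' hle hRle x hx
  have h1 := S.is_maximal' (hR'.comap_of_injective A.subtype A.subtype_injective)
    (fun y hy => hle ⟨y, hy, rfl⟩)
  exact ⟨⟨x, hRle hx⟩, h1 ▸ (show (⟨x, hRle hx⟩ : A) ∈ R'.comap A.subtype from hx), rfl⟩

theorem MaxTwo.exists_conj_le {P A : Subgroup K} (hP : MaxTwo P A) {R : Subgroup K}
    (hR : IsPGroup 2 R) (hRA : R ≤ A) : ∃ g ∈ A, ∀ x ∈ R, g * x * g⁻¹ ∈ P := by
  haveI : Fact (Nat.Prime 2) := ⟨Nat.prime_two⟩
  obtain ⟨S, hS⟩ := (hP.isPGroup.comap_of_injective A.subtype A.subtype_injective).exists_le_sylow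
  obtain ⟨Q, hQ⟩ := (hR.comap_of_injective A.subtype A.subtype_injective).exists_le_sylow
  obtain ⟨g, hg⟩ := MulAction.exists_smul_eq A Q S
  refine ⟨g, g.2, fun x hx => hP.max ((S : Subgroup A).map A.subtype) (S.isPGroup'.map _)
    (fun y hy => ⟨⟨y, hP.le hy⟩, hS hy, rfl⟩) (map_subtype_le _) ?_⟩
  refine ⟨g * ⟨x, hRA hx⟩ * g⁻¹, ?_, rfl⟩
  rw [← hg]
  show g * ⟨x, hRA hx⟩ * g⁻¹ ∈ MulAut.conj g • (Q : Subgroup A)
  exact ⟨⟨x, hRA hx⟩, hQ hx, rfl⟩

variable {T : Sylow 2 K} {H : Subgroup K} {z v u : K}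
variable {o : Line H u} {Lg : Subgroup (Equiv.Perm (Line H u))} {t₀ : Lg} {Q : Subgroup Lg}

/-- The involutions of the set-up at `o`, and `1`. -/
noncomputable def lineE (S : LineSetup H z u (lineStab u) o Lg t₀ Q) :
    Subgroup (Equiv.Perm (Line H u)) :=
  (FTUse.RankOne.ee S.setup S.two).map Lg.subtype

/-- The elements acting on the line as members at `o`. -/
noncomputable def preE (S : LineSetup H z u (lineStab u) o Lg t₀ Q) : Subgroup K :=
  ((lineE S).comap (lineRho H u)).map (lineStab u).subtype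

section

variable (S : LineSetup H z u (lineStab u) o Lg t₀ Q)

theorem mem_lineE {y : Equiv.Perm (Line H u)} :
    y ∈ lineE S ↔ y = 1 ∨ (y ∈ lineImage H u (lineStab u) ∧ orderOf y = 2 ∧ y • o = o ∧
      ∀ p q : Line H u, y • p = p → y • q = q → p = q) := by
  constructor
  · rintro ⟨⟨y, hyL⟩, hye, rfl⟩
    by_cases hy1 : y = 1
    · exact Or.inl hy1
    have hy2 : orderOf y = 2 := orderOf_of_sq (congrArg Subtype.val hye.2) hy1
    exact Or.inr ⟨S.le hyL, hy2, mem_stabilizer_iff.1 hye.1, S.unique y hyL hy2⟩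
  · rintro (rfl | ⟨h1, h2, h3, h4⟩)
    · exact one_mem _
    · exact ⟨⟨y, S.mem y h1 h2 h4⟩, ⟨mem_stabilizer_iff.2 h3, Subtype.ext (mul_self h2)⟩, rfl⟩

theorem lineE_comm {y y' : Equiv.Perm (Line H u)} (hy : y ∈ lineE S) (hy' : y' ∈ lineE S) :
    Commute y y' := by
  obtain ⟨a, ha, rfl⟩ := hy
  obtain ⟨b, hb, rfl⟩ := hy'
  exact congrArg (fun w : FTUse.RankOne.ee S.setup S.two => ((w : Lg) : Equiv.Perm (Line H u)))
    (FTUse.RankOne.ee_comm S.setup S.two ⟨a, ha⟩ ⟨b, hb⟩)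

theorem lineE_sq {y : Equiv.Perm (Line H u)} (hy : y ∈ lineE S) : y * y = 1 := by
  obtain ⟨a, ha, rfl⟩ := hy
  exact congrArg Subtype.val ha.2

theorem mem_preE {x : K} : x ∈ preE S ↔ x ∈ lineStab u ∧ ∃ y ∈ lineE S, Img H u x y := by
  constructor
  · rintro ⟨k, hk, rfl⟩
    exact ⟨k.2, _, hk, img_lineRho k⟩
  · rintro ⟨hx, y, hy, himg⟩
    refine ⟨⟨x, hx⟩, ?_, rfl⟩
    show lineRho H u ⟨x, hx⟩ ∈ lineE S
    rwa [(img_lineRho ⟨x, hx⟩).unique himg]

theorem preE_le (ho : (o : K ⧸ H) = base H) : preE S ≤ H := by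
  intro x hx
  obtain ⟨-, y, hy, himg⟩ := (mem_preE S).1 hx
  refine smul_base_eq_iff.1 ?_
  rw [← ho, himg o]
  rcases (mem_lineE S).1 hy with rfl | ⟨-, -, h, -⟩
  · rw [one_smul]
  · rw [h]

theorem mem_preE_of_fixes {x : K} (hx : x ∈ lineStab u) (hfix : FixesLine H u x) : x ∈ preE S :=
  (mem_preE S).2 ⟨hx, 1, one_mem _, img_one_iff.2 hfix⟩

/-- The members at `o` are permuted by the stabiliser of `o`. -/
theorem conj_mem_lineE {g : Equiv.Perm (Line H u)} (hg : g ∈ lineImage H u (lineStab u))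
    (hgo : g • o = o) {y : Equiv.Perm (Line H u)} (hy : y ∈ lineE S) : g * y * g⁻¹ ∈ lineE S := by
  rcases (mem_lineE S).1 hy with rfl | ⟨h1, h2, h3, h4⟩
  · rw [mul_one, mul_inv_cancel]; exact one_mem _
  refine (mem_lineE S).2 (Or.inr ⟨mul_mem (mul_mem hg h1) (inv_mem hg), ?_, ?_, ?_⟩)
  · rw [orderOf_conj]; exact h2
  · rw [mul_smul, mul_smul, inv_smul_eq_iff.2 hgo.symm, h3, hgo]
  · intro p q hp hq
    refine MulAction.injective g⁻¹ (h4 (g⁻¹ • p) (g⁻¹ • q) ?_ ?_) <;>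
      · rw [eq_inv_smul_iff, ← mul_smul, ← mul_smul]; assumption

end

namespace LocB

variable (L : LocB T H z v)
include L

variable (hu : LineHyp H z u) (S : LineSetup H z u (lineStab u) o Lg t₀ Q)
variable (ho : (o : K ⧸ H) = base H)
include hu ho

/-- A good involution of `lineStab u` acts as a member at `o`. -/
theorem good_img {d : K} (hd : Good H z d) (hdn : Normalizes u d) :
    ∃ y ∈ lineE S, y ≠ 1 ∧ Img H u d y := by
  refine ⟨lineRho H u ⟨d, hdn⟩, (mem_lineE S).2 (Or.inr ⟨mem_lineImage (Γ := lineStab u) hdn, ?_, ?_, ?_⟩),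
    ne_one (L.orderOf_lineRho hu (d := ⟨d, hdn⟩) hd.1 hd.2.1), img_lineRho ⟨d, hdn⟩⟩
  · exact L.orderOf_lineRho hu hd.1 hd.2.1
  · refine Subtype.ext ?_
    show d • (o : K ⧸ H) = o
    rw [ho]
    exact smul_base_eq_iff.2 hd.2.2
  · exact L.line_unique hd.1 hd.2.1

/-- Frattini: modulo the preimage every element of the stabiliser of the base normalises `P`. -/
theorem exists_normalizing {P : Subgroup K} (hP : MaxTwo P (preE S)) {k : K}
    (hk : k ∈ lineStab u) (hkH : k ∈ H) : ∃ a ∈ preE S, a * k ∈ normalizer (P : Set K) := by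
  have hconj : ∀ x ∈ preE S, k * x * k⁻¹ ∈ preE S := by
    intro x hx
    obtain ⟨hxs, y, hy, himg⟩ := (mem_preE S).1 hx
    refine (mem_preE S).2 ⟨mul_mem (mul_mem hk hxs) (inv_mem hk), _,
      conj_mem_lineE S (mem_lineImage (Γ := lineStab u) (k := ⟨k, hk⟩) hk) ?_ hy,
      (img_lineRho ⟨k, hk⟩).conj himg⟩
    refine Subtype.ext ?_
    show k • (o : K ⧸ H) = o
    rw [ho]
    exact smul_base_eq_iff.2 hkH
  obtain ⟨a, ha, haP⟩ := hP.exists_conj_le (R := P.map (MulAut.conj k).toMonoidHom)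
    (hP.isPGroup.map _) (by rintro _ ⟨x, hx, rfl⟩; exact hconj x (hP.le hx))
  refine ⟨a, ha, Coprime.mem_normalizer_of_forall fun x hx => ?_⟩
  have := haP _ ⟨x, hx, rfl⟩
  rwa [show a * k * x * (a * k)⁻¹ = a * (k * x * k⁻¹) * a⁻¹ by group]

omit hu ho in
/-- The kernel elements of a 2-subgroup centralised by `u` inverted by a member lie in `⟨z⟩`. -/
theorem ker_inverted (hu : LineHyp H z u) {P : Subgroup K} (hP : IsPGroup 2 P) {d r : K}
    (hdu : Commute d u) (hru : Commute r u) (hrP : r ∈ P) (hfix : FixesLine H u r)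
    (hinv : d * r * d⁻¹ = r⁻¹) : r = 1 ∨ r = z := by
  obtain ⟨n, hn⟩ := orderOf_eq_two_pow_of_mem hP hrP
  obtain ⟨q, hq⟩ := exists_line_ne hu ⟨base H, smul_base_eq_iff.2 hu.u_mem⟩
  exact L.inverted_mem hu.sq hdu hru hinv (hn ▸ pow_orderOf_eq_one r)
    (fun h => hq (Subtype.ext h)) q.2 (smul_base_eq_iff.2 hu.u_mem) (hfix _ q.2)
    (hfix _ (smul_base_eq_iff.2 hu.u_mem))

/-- A member has a lift in `P` centralising `u`. -/
theorem exists_member_lift {P : Subgroup K} (hP : MaxTwo P (preE S)) {y : Equiv.Perm (Line H u)}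
    (hy : y ∈ lineE S) (hy1 : y ≠ 1) :
    ∃ d ∈ P, Good H z d ∧ Commute d u ∧ Img H u d y := by
  obtain ⟨hyI, hy2, hyo, hyu⟩ := ((mem_lineE S).1 hy).resolve_left hy1
  obtain ⟨d, hd, hdz, hdu, hdy⟩ := S.lift y (S.mem y hyI hy2 hyu) hy2
  have hdimg : Img H u (d : K) y := hdy ▸ img_lineRho d
  have hdp : (d : K) ∈ preE S := (mem_preE S).2 ⟨d.2, y, hy, hdimg⟩
  obtain ⟨g, hg, hgP⟩ := hP.exists_conj_le (R := zpowers (d : K))
    (IsPGroup.of_card (n := 1) (by rw [Nat.card_zpowers, hd, pow_one])) (zpowers_le.2 hdp)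
  obtain ⟨hgs, y', hy', hgimg⟩ := (mem_preE S).1 hg
  have hcu : Commute (g * d * g⁻¹) u := by
    have h : Commute (g * (d : K) * g⁻¹) (g * u * g⁻¹) := by
      simpa using hdu.map (MulAut.conj g).toMonoidHom
    rcases hgs with h' | h' <;> rw [h'] at h
    · exact h
    · simpa using h.inv_right
  have hin := hgP _ (mem_zpowers _)
  refine ⟨_, hin, ⟨(orderOf_conj g (d : K)).trans hd, fun e => hdz ?_,
    preE_le S ho (hP.le hin)⟩, hcu, ?_⟩
  · rw [show (d : K) = g⁻¹ * (g * d * g⁻¹) * g by group, e, ← (L.z_comm g⁻¹).eq,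
      inv_mul_cancel_right]
  · have := hgimg.conj hdimg
    rwa [(lineE_comm S hy' hy).eq, mul_inv_cancel_right] at this

omit ho in
/-- Two lifts of one member agree up to `z`. -/
theorem lift_unique {P : Subgroup K} (hP : IsPGroup 2 P) {d d' : K} (hd : d ∈ P) (hd' : d' ∈ P)
    (hd2 : orderOf d = 2) (hd'2 : orderOf d' = 2) (hdu : Commute d u) (hd'u : Commute d' u)
    {y : Equiv.Perm (Line H u)} (himg : Img H u d y) (himg' : Img H u d' y) :
    d' = d ∨ d' = d * z := by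
  have hfix : FixesLine H u (d * d') := by
    have h1 := himg.inv.mul himg'
    rw [inv_mul_cancel, inv_eq hd2] at h1
    exact img_one_iff.1 h1
  rcases L.ker_inverted hu hP hdu (hdu.mul_left hd'u) (P.mul_mem hd hd') hfix
    (inverts_mul_left hd2 hd'2) with h | h
  · rw [mul_eq_one_iff_inv_eq, inv_eq hd2] at h; exact Or.inl h.symm
  · exact Or.inr (by rw [← h, ← mul_assoc, mul_self hd2, one_mul])

omit ho in
/-- An element of `P` conjugates a lift to a lift of the same member. -/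
theorem conj_lift {P : Subgroup K} (hP : IsPGroup 2 P) (hPle : P ≤ preE S) {d : K} (hd : d ∈ P)
    (hd2 : orderOf d = 2) (hdu : Commute d u) {y : Equiv.Perm (Line H u)} (hy : y ∈ lineE S)
    (himg : Img H u d y) {p : K} (hp : p ∈ P) : p * d * p⁻¹ = d ∨ p * d * p⁻¹ = d * z := by
  obtain ⟨hps, y', hy', hpimg⟩ := (mem_preE S).1 (hPle hp)
  refine L.lift_unique hu hP hd (P.mul_mem (P.mul_mem hp hd) (P.inv_mem hp)) hd2
    ((orderOf_conj p d).trans hd2) hdu ?_ himg ?_
  · have h : Commute (p * d * p⁻¹) (p * u * p⁻¹) := by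
      simpa using hdu.map (MulAut.conj p).toMonoidHom
    rcases hps with h' | h' <;> rw [h'] at h
    · exact h
    · simpa using h.inv_right
  · have := hpimg.conj himg
    rwa [(lineE_comm S hy' hy).eq, mul_inv_cancel_right] at this

end LocB

end Cfsg.Agent.TwoCore
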