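/-
Four members at the base (notes/two_core_structure.md, line lemma (d)).

* `anti` : `Anti z x y`, conjugation by `x` multiplies `y` by `z`
* `LineFrame` : the lifts `a`, `b` and `w` in a maximal 2-subgroup of the preimage
* `Loc.exists_frame` : it exists, so there are four members at the base
-/
import Cfsg.Agent.Lib.TwoCore.LineKer

set_option autoImplicit false
set_option linter.unusedSectionVars false
set_option linter.style.haveILetI false

namespace Cfsg.Agent.TwoCore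

open Subgroup Involution MulAction
open scoped Pointwise

universe u

variable {K : Type u} [Group K]

/-- Conjugation by `x` multiplies `y` by `z`. -/
def Anti (z x y : K) : Prop := x * y * x⁻¹ = y * z

section anti

variable {z : K} (hzc : ∀ x, Commute z x)
include hzc

theorem Anti.left_mul {x x' y : K} (h : Anti z x y) (h' : Commute x' y) : Anti z (x * x') y := by
  show x * x' * y * (x * x')⁻¹ = y * z
  rw [show x * x' * y * (x * x')⁻¹ = x * (x' * y * x'⁻¹) * x⁻¹ by group, h'.eq,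
    mul_inv_cancel_right]
  exact h

theorem Anti.right_mul {x y y' : K} (h : Anti z x y) (h' : Commute x y') : Anti z x (y * y') := by
  show x * (y * y') * x⁻¹ = y * y' * z
  rw [show x * (y * y') * x⁻¹ = (x * y * x⁻¹) * (x * y' * x⁻¹) by group, h, h'.eq,
    mul_inv_cancel_right, mul_assoc, (hzc y').eq, mul_assoc]

theorem Anti.mul_anti {x y y' : K} (hzz : z * z = 1) (h : Anti z x y) (h' : Anti z x y') :
    Commute x (y * y') := by
  refine mul_inv_eq_iff_eq_mul.1 ?_
  rw [show x * (y * y') * x⁻¹ = (x * y * x⁻¹) * (x * y' * x⁻¹) by group, h, h', mul_assoc,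
    ← mul_assoc z y' z, (hzc y').eq, mul_assoc y' z z, hzz, mul_one]

theorem Anti.symm' {x y : K} (hzz : z * z = 1) (h : Anti z x y) : Anti z y x := by
  show y * x * y⁻¹ = x * z
  have h1 : x * y = y * x * z := by
    rw [mul_inv_eq_iff_eq_mul.1 h, mul_assoc, (hzc x).eq, mul_assoc]
  rw [mul_inv_eq_iff_eq_mul, mul_assoc x z y, (hzc y).eq, ← mul_assoc, h1, mul_assoc, hzz, mul_one]

theorem not_commute_anti {x y : K} (hz1 : z ≠ 1) (h : Anti z x y) : ¬ Commute x y := fun hc => hz1 (by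
  have h' := h
  rw [Anti, hc.eq, mul_inv_cancel_right, left_eq_mul] at h'
  exact h')

end anti

variable [Finite K] {T : Sylow 2 K} {H : Subgroup K} {z v u : K}
variable {o : Line H u} {Lg : Subgroup (Equiv.Perm (Line H u))} {t₀ : Lg} {Q : Subgroup Lg}

/-- The lifts at the base in a maximal 2-subgroup of the preimage. -/
structure LineFrame (S : LineSetup H z u (lineStab u) o Lg t₀ Q) (P : Subgroup K) (a b w : K) :
    Prop where
  max : MaxTwo P (preE S)
  uP : u ∈ P
  aP : a ∈ P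
  bP : b ∈ P
  wP : w ∈ P
  good_a : Good H z a
  good_b : Good H z b
  au : Commute a u
  bu : Commute b u
  ab : Anti z a b
  wa : Anti z w a
  wb : Anti z w b
  sq_w : w * w = z
  wu : w * u * w⁻¹ = u⁻¹
  w_fix : FixesLine H u w
  cases : ∀ y ∈ lineE S, y = 1 ∨ Img H u a y ∨ Img H u b y ∨ Img H u (a * b) y
  img_ne : ∀ y, Img H u a y → y ≠ 1 ∧ ¬ Img H u b y
  ker : ∀ p ∈ P, Commute p u → FixesLine H u p → Commute p a ∧ Commute p b

namespace LocB

variable (L : LocB T H z v)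
include L

/-- A root of `z` in `C(u)` fixing the line is `u` or `u⁻¹`. -/
theorem ker_root (hu : LineHyp H z u) {p : K} (hpu : Commute p u) (hfix : FixesLine H u p)
    (hp : p * p = z) : p = u ∨ p = u⁻¹ := by
  have h2 : p * u * (p * u) = 1 := by
    rw [mul_assoc, ← mul_assoc u p u, ← hpu.eq, mul_assoc p u u, hu.sq, ← mul_assoc, hp,
      mul_self L.z2]
  have huinv : u⁻¹ = u * z := inv_eq_of_mul_eq_one_right (by rw [← mul_assoc, hu.sq, mul_self L.z2])
  by_cases h1 : p * u = 1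
  · exact Or.inr (mul_eq_one_iff_eq_inv.1 h1)
  by_cases hz : p * u = z
  · left
    rw [← eq_mul_inv_iff_mul_eq] at hz
    rw [hz, huinv, ← mul_assoc, (L.z_comm u).eq, mul_assoc, mul_self L.z2, mul_one]
  exfalso
  obtain ⟨q, hq⟩ := exists_line_ne hu ⟨base H, smul_base_eq_iff.2 hu.u_mem⟩
  have hb : u • base H = base H := smul_base_eq_iff.2 hu.u_mem
  exact hq (Subtype.ext (L.eq_of_fix (orderOf_of_sq h2 h1) hz
    (show (p * u) • (q : K ⧸ H) = q by rw [mul_smul, q.2, hfix _ q.2])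
    (show (p * u) • base H = base H by rw [mul_smul, hb, hfix _ hb])))

theorem exists_frame (hu : LineHyp H z u) (S : LineSetup H z u (lineStab u) o Lg t₀ Q)
    (ho : (o : K ⧸ H) = base H) : ∃ (P : Subgroup K) (a b w : K), LineFrame S P a b w := by
  classical
  haveI : Fact (Nat.Prime 2) := ⟨Nat.prime_two⟩
  obtain ⟨t, f, ht, hf, htu, hfu, hft⟩ := hu.exists_inverter
  have hzc : ∀ x, Commute z x := L.z_comm
  have hzz : z * z = 1 := mul_self L.z2
  have hz1 : z ≠ 1 := ne_one L.z2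
  have huu : u⁻¹ = u * z := inv_eq_of_mul_eq_one_right (by rw [← mul_assoc, hu.sq, hzz])
  have hune : u ≠ u⁻¹ := fun e => hz1 (by rw [← hu.sq]; nth_rw 2 [e]; rw [mul_inv_cancel])
  have hfu' : Normalizes u f := Or.inl (by rw [hfu.eq, mul_inv_cancel_right])
  have hufix : FixesLine H u u := fun q hq => hq
  obtain ⟨yt, hyt, hyt1, htimg⟩ := L.good_img hu S ho ht (Or.inr htu)
  obtain ⟨yf, hyf, hyf1, hfimg⟩ := L.good_img hu S ho hf hfu'
  have htpre : t ∈ preE S := (mem_preE S).2 ⟨Or.inr htu, yt, hyt, htimg⟩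
  have hfpre : f ∈ preE S := (mem_preE S).2 ⟨hfu', yf, hyf, hfimg⟩
  have hupre : u ∈ preE S := mem_preE_of_fixes S (mem_lineStab_of_commute (Commute.refl u)) hufix
  have hz2' : ∀ {x : K}, orderOf x = 2 → IsPGroup 2 (zpowers x) := fun hx =>
    IsPGroup.of_card (n := 1) (by rw [Nat.card_zpowers, hx, pow_one])
  have hu4 : IsPGroup 2 (zpowers u) := by
    rintro ⟨_, i, rfl⟩
    exact ⟨2, Subtype.ext (by
      rw [SubmonoidClass.coe_pow, ← zpow_natCast, ← zpow_mul, mul_comm, zpow_mul, zpow_natCast,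
        show (2 : ℕ) ^ 2 = 2 + 2 from rfl, pow_add, sq, hu.sq, hzz, one_zpow]
      rfl)⟩
  have htf : IsPGroup 2 ↥(zpowers t ⊔ zpowers f) :=
    (hz2' ht.1).to_sup_of_normal_right' (hz2' hf.1) (zpowers_le.2
      (Coprime.mem_normalizer_of_forall fun x hx => by
        obtain ⟨i, rfl⟩ := mem_zpowers_iff.1 hx
        rw [(hft.symm.zpow_right i).eq, mul_inv_cancel_right]
        exact hx))
  have hR : IsPGroup 2 ↥(zpowers t ⊔ zpowers f ⊔ zpowers u) :=
    htf.to_sup_of_normal_right' hu4 (sup_le (zpowers_le.2 (Coprime.mem_normalizer_of_forall fun x hx => by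
        obtain ⟨i, rfl⟩ := mem_zpowers_iff.1 hx
        rw [← conj_zpow, htu]
        exact zpow_mem (inv_mem (mem_zpowers u)) i))
      (zpowers_le.2 (Coprime.mem_normalizer_of_forall fun x hx => by
        obtain ⟨i, rfl⟩ := mem_zpowers_iff.1 hx
        rw [(hfu.zpow_right i).eq, mul_inv_cancel_right]
        exact hx)))
  obtain ⟨P, hP, hRP⟩ := exists_maxTwo hR (sup_le (sup_le (zpowers_le.2 htpre) (zpowers_le.2 hfpre))
    (zpowers_le.2 hupre))
  have htP : t ∈ P := hRP (mem_sup_left (mem_sup_left (mem_zpowers t)))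
  have hfP : f ∈ P := hRP (mem_sup_left (mem_sup_right (mem_zpowers f)))
  have huP : u ∈ P := hRP (mem_sup_right (mem_zpowers u))
  -- lifts
  have hlift : ∀ y ∈ lineE S, y ≠ 1 → ∃ d ∈ P, Good H z d ∧ Commute d u ∧ Img H u d y :=
    fun y hy hy1 => L.exists_member_lift hu S ho hP hy hy1
  have hconj : ∀ {d : K} {y : Equiv.Perm (Line H u)}, d ∈ P → Good H z d → Commute d u → y ∈ lineE S →
      Img H u d y → ∀ {p : K}, p ∈ P → Commute p d ∨ Anti z p d := by
    intro d y hd hdg hdu hy himg p hp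
    rcases L.conj_lift hu S hP.isPGroup hP.le hd hdg.1 hdu hy himg hp with h | h
    · exact Or.inl (mul_inv_eq_iff_eq_mul.1 h)
    · exact Or.inr h
  -- the kernel is cyclic
  let P0 : Subgroup K :=
    { carrier := {p | p ∈ P ∧ Commute p u ∧ FixesLine H u p}
      one_mem' := ⟨P.one_mem, Commute.one_left u, fun q _ => one_smul K q⟩
      mul_mem' := fun {x y} hx hy => ⟨P.mul_mem hx.1 hy.1, hx.2.1.mul_left hy.2.1,
        fun q hq => by rw [mul_smul, hy.2.2 q hq, hx.2.2 q hq]⟩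
      inv_mem' := fun {x} hx => ⟨P.inv_mem hx.1, hx.2.1.inv_left,
        fun q hq => inv_smul_eq_iff.2 (hx.2.2 q hq).symm⟩ }
  have hu0 : u ∈ P0 := ⟨huP, Commute.refl u, hufix⟩
  have hu0' : orderOf (⟨u, hu0⟩ : P0) = 4 := by
    have h := orderOf_eq_prime_pow (p := 2) (n := 1) (x := u)
      (by rw [pow_one, sq, hu.sq]; exact hz1)
      (by rw [show (2 : ℕ) ^ (1 + 1) = 2 + 2 from rfl, pow_add, sq, hu.sq, hzz])
    rw [Subgroup.orderOf_mk]
    simpa using h
  haveI hcyc : IsCyclic P0 := by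
    refine CyclicMeet.isCyclic_of_unique (hP.isPGroup.to_le fun x hx => hx.1) (v := (⟨u, hu0⟩ : P0))
      (mem_center_iff.2 fun x => Subtype.ext x.2.2.1.eq) hu0' fun x hx => ?_
    by_cases h1 : x = 1
    · rw [h1]; exact one_mem _
    have hxz : (x : K) = z := by
      by_contra hne
      obtain ⟨q, hq⟩ := exists_line_ne hu o
      exact hq (Subtype.ext (L.eq_of_fix
        (orderOf_of_sq (congrArg Subtype.val hx) fun e => h1 (Subtype.ext e)) hne
        (x.2.2.2 _ q.2) (x.2.2.2 _ o.2)))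
    exact ⟨2, Subtype.ext (by
      show ((⟨u, hu0⟩ : P0) ^ (2 : ℤ) : P0).1 = x
      rw [Subgroup.coe_zpow, zpow_two, hxz]; exact hu.sq)⟩
  obtain ⟨k₀, hk₀⟩ := IsCyclic.exists_generator (α := P0)
  have hgen : ∀ {d : K}, Commute (k₀ : K) d → ∀ p ∈ P0, Commute p d := by
    intro d hd p hp
    obtain ⟨i, hi⟩ := mem_zpowers_iff.1 (hk₀ ⟨p, hp⟩)
    have : ((k₀ : K)) ^ i = p := congrArg Subtype.val hi
    exact this ▸ hd.zpow_left i
  -- transitivity on the members by elements normalising `P`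
  have htrans : ∀ y ∈ lineE S, y ≠ 1 → ∀ y' ∈ lineE S, y' ≠ 1 → ∃ c : K, c ∈ lineStab u ∧ c ∈ H ∧
      c ∈ normalizer (P : Set K) ∧ ∃ g, Img H u c g ∧ g * y * g⁻¹ = y' := by
    rintro _ ⟨s, hs, rfl⟩ hs1 _ ⟨s', hs', rfl⟩ hs'1
    obtain ⟨k, hk, hks⟩ := RankOne.Setup.exists_conj_kk S.setup
      (s := s') (s' := s) ⟨hs'.1, fun e => hs'1 (by rw [e]; rfl), hs'.2⟩
      ⟨hs.1, fun e => hs1 (by rw [e]; rfl), hs.2⟩
    obtain ⟨k', -, hk'⟩ := exists_of_mem_lineImage (S.le k.2)
    have hkH : (k' : K) ∈ H := by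
      refine smul_base_eq_iff.1 ?_
      rw [← ho]
      have h1 : lineRho H u k' • o = o := by rw [hk']; exact hk.1.1
      exact congrArg Subtype.val h1
    obtain ⟨a, ha, hak⟩ := L.exists_normalizing hu S ho hP k'.2 hkH
    obtain ⟨has, y₁, hy₁, haimg⟩ := (mem_preE S).1 ha
    refine ⟨a * k', mul_mem has k'.2, H.mul_mem (preE_le S ho ha) hkH, hak, y₁ * k, haimg.mul
      (hk' ▸ img_lineRho k'), ?_⟩
    have e1 : (k : Equiv.Perm (Line H u)) * s * (k : Equiv.Perm (Line H u))⁻¹ = s' := by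
      rw [← hks]
      show (k : Equiv.Perm (Line H u)) * ((k : Equiv.Perm (Line H u))⁻¹ * s' * k) *
        (k : Equiv.Perm (Line H u))⁻¹ = s'
      group
    calc (y₁ * k) * (s : Equiv.Perm (Line H u)) * (y₁ * k)⁻¹
        = y₁ * ((k : Equiv.Perm (Line H u)) * s * (k : Equiv.Perm (Line H u))⁻¹) * y₁⁻¹ := by group
      _ = s' := by
        have hcm : Commute y₁ (s' : Equiv.Perm (Line H u)) := lineE_comm S hy₁ ⟨s', hs', rfl⟩
        rw [e1, hcm.eq, mul_inv_cancel_right]
  have hmove : ∀ {c : K}, c ∈ lineStab u → c ∈ H → c ∈ normalizer (P : Set K) →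
      ∀ {d : K}, d ∈ P → Good H z d → Commute d u →
      c * d * c⁻¹ ∈ P ∧ Good H z (c * d * c⁻¹) ∧ Commute (c * d * c⁻¹) u := by
    intro c hc hcH hcn d hd hdg hdu
    refine ⟨(mem_normalizer_iff.1 hcn d).1 hd, hdg.conj (hzc c) hcH, ?_⟩
    have h : Commute (c * d * c⁻¹) (c * u * c⁻¹) := by
      simpa using hdu.map (MulAut.conj c).toMonoidHom
    rcases hc with h' | h' <;> rw [h'] at h
    · exact h
    · simpa using h.inv_right
  have hmove0 : ∀ {c : K}, c ∈ lineStab u → c ∈ normalizer (P : Set K) →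
      ∀ {p : K}, p ∈ P0 → c⁻¹ * p * c ∈ P0 := by
    intro c hc hcn p hp
    refine ⟨?_, ?_, fun q hq => ?_⟩
    · have := (mem_normalizer_iff.1 (inv_mem hcn) p).1 hp.1
      rwa [inv_inv] at this
    · have h : Commute (c⁻¹ * p * c) (c⁻¹ * u * c) := by
        simpa using hp.2.1.map (MulAut.conj c⁻¹).toMonoidHom
      rcases (lineStab u).inv_mem hc with h' | h' <;> rw [inv_inv] at h' <;> rw [h'] at h
      · exact h
      · simpa using h.inv_right
    · rw [mul_smul, mul_smul, hp.2.2 _ (smul_mem_line hc hq), inv_smul_smul]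
  -- products of lifts
  have hprod : ∀ {y₁ y₂ : Equiv.Perm (Line H u)} {d e g : K}, y₁ ∈ lineE S → y₂ ∈ lineE S →
      d ∈ P → Good H z d → Commute d u → Img H u d y₁ → e ∈ P → Good H z e → Commute e u →
      Img H u e y₂ → g ∈ P → Commute g u → Img H u g (y₁ * y₂) →
      (d * e)⁻¹ * g ∈ P0 ∧ g = d * e * ((d * e)⁻¹ * g) := by
    intro y₁ y₂ d e g _ _ hd _ hdu hdi he _ heu hei hg hgu hgi
    refine ⟨⟨P.mul_mem (P.inv_mem (P.mul_mem hd he)) hg, (hdu.mul_left heu).inv_left.mul_left hgu,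
      img_one_iff.1 ?_⟩, (mul_inv_cancel_left _ _).symm⟩
    have := (hdi.mul hei).inv.mul hgi
    rwa [inv_mul_cancel] at this
  -- the image of `f` is not that of `t`
  obtain ⟨e₀, he₀P, he₀g, he₀u, he₀img⟩ := hlift yt hyt hyt1
  have hte : Anti z t e₀ := by
    refine (hconj he₀P he₀g he₀u hyt he₀img htP).resolve_left fun hc => ?_
    -- `t e₀` would be an involution fixing the line
    obtain ⟨q, hq⟩ := exists_line_ne hu o
    have himg : Img H u (t * e₀) 1 := lineE_sq S hyt ▸ htimg.mul he₀img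
    have hsq : t * e₀ * (t * e₀) = 1 := by
      rw [mul_assoc, ← mul_assoc e₀ t e₀, ← hc.eq, mul_assoc t e₀ e₀, mul_self he₀g.1, mul_one,
        mul_self ht.1]
    have hinv : t * e₀ * u * (t * e₀)⁻¹ = u⁻¹ := by
      rw [show t * e₀ * u * (t * e₀)⁻¹ = t * (e₀ * u * e₀⁻¹) * t⁻¹ by group, he₀u.eq,
        mul_inv_cancel_right, htu]
    refine hq (Subtype.ext (L.eq_of_fix (orderOf_of_sq hsq fun e => hune ?_) (fun e => hune ?_)
      (img_one_iff.1 himg _ q.2) (img_one_iff.1 himg _ o.2)))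
    · rw [e] at hinv; simpa using hinv
    · rw [e, (hzc u).eq, mul_inv_cancel_right] at hinv; exact hinv
  have hne : yf ≠ yt := by
    intro e
    rcases L.lift_unique hu hP.isPGroup hfP he₀P hf.1 he₀g.1 hfu he₀u hfimg (e ▸ he₀img) with h | h
    · exact not_commute_anti hzc hz1 hte (h ▸ hft.symm)
    · exact not_commute_anti hzc hz1 hte (h ▸ hft.symm.mul_right (hzc t).symm)
  have hy3 : yt * yf ∈ lineE S ∧ yt * yf ≠ 1 := ⟨mul_mem hyt hyf, fun e => hne (by
    rw [mul_eq_one_iff_inv_eq, inv_eq_of_mul_eq_one_right (lineE_sq S hyt)] at e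
    exact e.symm)⟩
  -- the kernel centralises the lifts
  have hmu : ∀ {y : Equiv.Perm (Line H u)}, y ∈ lineE S → y ≠ 1 → ∀ {d : K}, d ∈ P → Good H z d →
      Commute d u → Img H u d y → ∀ p ∈ P0, Commute p d := by
    by_contra hcon
    push Not at hcon
    obtain ⟨y, hy, hy1, d, hd, hdg, hdu, hdimg, p, hp, hpd⟩ := hcon
    -- then the generator moves every lift
    have hall : ∀ y' ∈ lineE S, y' ≠ 1 → ∀ {d' : K}, d' ∈ P → Good H z d' → Commute d' u →
        Img H u d' y' → Anti z (k₀ : K) d' := by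
      intro y' hy' hy'1 d' hd' hd'g hd'u hd'img
      refine (hconj hd' hd'g hd'u hy' hd'img k₀.2.1).resolve_left fun hc => hpd ?_
      obtain ⟨c, hc1, hcH, hcn, g, hgimg, hgy⟩ := htrans y' hy' hy'1 y hy hy1
      obtain ⟨hm1, hm2, hm3⟩ := hmove hc1 hcH hcn hd' hd'g hd'u
      have h1 : Commute p (c * d' * c⁻¹) := by
        have := (hgen hc _ (hmove0 hc1 hcn hp)).map (MulAut.conj c).toMonoidHom
        simpa [mul_assoc] using this
      rcases L.lift_unique hu hP.isPGroup hm1 hd hm2.1 hdg.1 hm3 hdu (hgy ▸ hgimg.conj hd'img)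
        hdimg with h | h <;> rw [h]
      · exact h1
      · exact h1.mul_right (hzc p).symm
    obtain ⟨g, hgP, hgg, hgu, hgimg⟩ := hlift _ hy3.1 hy3.2
    obtain ⟨hr, hge⟩ := hprod hyt hyf he₀P he₀g he₀u he₀img hfP hf hfu hfimg hgP hgu hgimg
    have h1 := (hall yt hyt hyt1 he₀P he₀g he₀u he₀img).mul_anti hzc hzz
      (hall yf hyf hyf1 hfP hf hfu hfimg)
    have h2 : Commute (k₀ : K) ((e₀ * f)⁻¹ * g) := by
      obtain ⟨i, hi⟩ := mem_zpowers_iff.1 (hk₀ ⟨_, hr⟩)
      rw [show (e₀ * f)⁻¹ * g = (k₀ : K) ^ i from (congrArg Subtype.val hi).symm]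
      exact Commute.self_zpow _ _
    refine not_commute_anti hzc hz1 (hall _ hy3.1 hy3.2 hgP hgg hgu hgimg) ?_
    rw [hge]
    exact h1.mul_right h2
  -- `w`
  set w := t * e₀ with hw
  have hwP : w ∈ P := P.mul_mem htP he₀P
  have hwimg : Img H u w 1 := lineE_sq S hyt ▸ htimg.mul he₀img
  have hwu : w * u * w⁻¹ = u⁻¹ := by
    rw [hw, show t * e₀ * u * (t * e₀)⁻¹ = t * (e₀ * u * e₀⁻¹) * t⁻¹ by group, he₀u.eq,
      mul_inv_cancel_right, htu]
  have hww : w * w = z := by
    have h1 : t * e₀ * t = e₀ * z := by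
      have := hte
      rwa [Anti, inv_eq ht.1] at this
    rw [hw, show t * e₀ * (t * e₀) = t * e₀ * t * e₀ by group, h1, mul_assoc, (hzc e₀).eq,
      ← mul_assoc, mul_self he₀g.1, one_mul]
  have hwe : Anti z w e₀ := hte.left_mul hzc (Commute.refl e₀)
  have hA : ∀ {y : Equiv.Perm (Line H u)}, y ∈ lineE S → y ≠ 1 → ∀ {d : K}, d ∈ P → Good H z d →
      Commute d u → Img H u d y → Anti z w d := by
    intro y hy hy1 d hd hdg hdu hdimg
    refine (hconj hd hdg hdu hy hdimg hwP).resolve_left fun hc => not_commute_anti hzc hz1 hwe ?_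
    obtain ⟨c, hc1, hcH, hcn, g, hgimg, hgy⟩ := htrans y hy hy1 yt hyt hyt1
    obtain ⟨hm1, hm2, hm3⟩ := hmove hc1 hcH hcn hd hdg hdu
    -- the conjugate of `w` differs from `w` by a kernel element
    set w' := c * w * c⁻¹ with hw'
    have hwk : w⁻¹ * w' ∈ P0 := by
      refine ⟨P.mul_mem (P.inv_mem hwP) ((mem_normalizer_iff.1 hcn w).1 hwP), ?_, fun q hq => ?_⟩
      · have h1 : w' * u * w'⁻¹ = u⁻¹ := by
          rcases (lineStab u).inv_mem hc1 with h | h <;> rw [inv_inv] at h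
          · have hcu : c * u * c⁻¹ = u :=
              calc c * u * c⁻¹ = c * (c⁻¹ * u * c) * c⁻¹ := by rw [h]
                _ = u := by group
            rw [hw', show c * w * c⁻¹ * u * (c * w * c⁻¹)⁻¹ = c * (w * (c⁻¹ * u * c) * w⁻¹) * c⁻¹ by
              group, h, hwu, ← conj_inv, hcu]
          · have hcu : c * u⁻¹ * c⁻¹ = u :=
              calc c * u⁻¹ * c⁻¹ = c * (c⁻¹ * u * c) * c⁻¹ := by rw [h]
                _ = u := by group
            rw [hw', show c * w * c⁻¹ * u * (c * w * c⁻¹)⁻¹ = c * (w * (c⁻¹ * u * c) * w⁻¹) * c⁻¹ by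
              group, h, ← conj_inv, hwu, inv_inv]
            have := congrArg Inv.inv hcu
            rw [← conj_inv, inv_inv] at this
            exact this
        refine mul_inv_eq_iff_eq_mul.1 ?_
        rw [show w⁻¹ * w' * u * (w⁻¹ * w')⁻¹ = w⁻¹ * (w' * u * w'⁻¹) * w by group, h1, ← hwu]
        group
      · have hfw : ∀ q : K ⧸ H, u • q = q → w • q = q := img_one_iff.1 hwimg
        rw [mul_smul, hw', mul_smul, mul_smul, hfw _ (smul_mem_line ((lineStab u).inv_mem hc1) hq),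
          smul_inv_smul, inv_smul_eq_iff, hfw q hq]
    have h1 : Commute w' (c * d * c⁻¹) := by
      have := hc.map (MulAut.conj c).toMonoidHom
      simpa [hw', mul_assoc] using this
    have hdimg' : Img H u (c * d * c⁻¹) yt := hgy ▸ hgimg.conj hdimg
    have h3 : Commute w (c * d * c⁻¹) := by
      have := h1.mul_left ((hmu hyt hyt1 hm1 hm2 hm3 hdimg' _ hwk).inv_left)
      rwa [mul_inv_rev, inv_inv, mul_inv_cancel_left] at this
    rcases L.lift_unique hu hP.isPGroup hm1 he₀P hm2.1 he₀g.1 hm3 he₀u hdimg' he₀img with h | h <;>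
      rw [h]
    · exact h3
    · exact h3.mul_right (hzc w).symm
  have hB : ∀ {y₁ y₂ : Equiv.Perm (Line H u)}, y₁ ∈ lineE S → y₂ ∈ lineE S → y₁ ≠ 1 → y₂ ≠ 1 →
      y₁ ≠ y₂ → ∀ {d e : K}, d ∈ P → Good H z d → Commute d u → Img H u d y₁ →
      e ∈ P → Good H z e → Commute e u → Img H u e y₂ → Anti z d e ∧
      ∀ {g : K}, g ∈ P → Good H z g → Commute g u → Img H u g (y₁ * y₂) →
        ∃ p : K, (p = u ∨ p = u⁻¹) ∧ g = d * e * p := by
    intro y₁ y₂ hy₁ hy₂ h1 h2 h12 d e hd hdg hdu hdi he heg heu hei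
    have hy12 : y₁ * y₂ ∈ lineE S ∧ y₁ * y₂ ≠ 1 := ⟨mul_mem hy₁ hy₂, fun h => h12 (by
      rw [mul_eq_one_iff_inv_eq, inv_eq_of_mul_eq_one_right (lineE_sq S hy₁)] at h; exact h)⟩
    have main : ∀ {g : K}, g ∈ P → Good H z g → Commute g u → Img H u g (y₁ * y₂) →
        ∃ p : K, (p = u ∨ p = u⁻¹) ∧ g = d * e * p ∧ d * e * (d * e) = z := by
      intro g hg hgg hgu hgi
      obtain ⟨hr, hge⟩ := hprod hy₁ hy₂ hd hdg hdu hdi he heg heu hei hg hgu hgi
      set p := (d * e)⁻¹ * g with hp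
      have hwg := hA hy12.1 hy12.2 hg hgg hgu hgi
      have hwde : Commute w (d * e) :=
        (hA hy₁ h1 hd hdg hdu hdi).mul_anti hzc hzz (hA hy₂ h2 he heg heu hei)
      have hpde : Commute p (d * e) :=
        (hmu hy₁ h1 hd hdg hdu hdi p hr).mul_right (hmu hy₂ h2 he heg heu hei p hr)
      have hde2 : d * e * (d * e) = 1 ∨ d * e * (d * e) = z := by
        rcases hconj he heg heu hy₂ hei hd with h | h
        · left
          rw [mul_assoc, ← mul_assoc e d e, ← h.eq, mul_assoc d e e, mul_self heg.1, mul_one,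
            mul_self hdg.1]
        · right
          rw [Anti, inv_eq hdg.1] at h
          rw [show d * e * (d * e) = d * e * d * e by group, h, mul_assoc, (hzc e).eq, ← mul_assoc,
            mul_self heg.1, one_mul]
      have hgsq : d * e * (d * e) * (p * p) = 1 := by
        have h : d * e * p * (d * e * p) = 1 := by rw [← hge]; exact mul_self hgg.1
        rw [mul_assoc (d * e) p, ← mul_assoc p (d * e) p, hpde.eq, mul_assoc (d * e) p p,
          ← mul_assoc] at h
        exact h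
      rcases hde2 with h | h <;> rw [h] at hgsq
      · -- then `p` is `1` or `z` and `g` would commute with `w`
        rw [one_mul] at hgsq
        refine absurd ?_ (not_commute_anti hzc hz1 hwg)
        rw [hge]
        refine hwde.mul_right ?_
        by_cases hp1 : p = 1
        · rw [hp1]; exact Commute.one_right w
        · have hpz : p = z := by
            by_contra hne
            obtain ⟨q, hq⟩ := exists_line_ne hu o
            exact hq (Subtype.ext (L.eq_of_fix (orderOf_of_sq hgsq hp1) hne (hr.2.2 _ q.2)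
              (hr.2.2 _ o.2)))
          rw [hpz]; exact (hzc w).symm
      · have hpp : p * p = z := by
          rw [mul_eq_one_iff_inv_eq, inv_eq L.z2] at hgsq; exact hgsq.symm
        exact ⟨p, L.ker_root hu hr.2.1 hr.2.2 hpp, hge, h⟩
    refine ⟨?_, fun hg hgg hgu hgi => ?_⟩
    · refine (hconj he heg heu hy₂ hei hd).resolve_left fun hc => hz1 ?_
      obtain ⟨g, hg, hgg, hgu, hgi⟩ := hlift _ hy12.1 hy12.2
      obtain ⟨p, -, -, h⟩ := main hg hgg hgu hgi
      rw [← h, mul_assoc, ← mul_assoc e d e, ← hc.eq, mul_assoc d e e, mul_self heg.1, mul_one,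
        mul_self hdg.1]
    · obtain ⟨p, hp, hge, -⟩ := main hg hgg hgu hgi
      exact ⟨p, hp, hge⟩
  obtain ⟨hfe, hfeg⟩ := hB hyf hyt hyf1 hyt1 hne hfP hf hfu hfimg he₀P he₀g he₀u he₀img
  refine ⟨P, f, e₀, w, hP, huP, hfP, he₀P, hwP, hf, he₀g, hfu, he₀u, hfe, hA hyf hyf1 hfP hf hfu hfimg,
    hwe, hww, hwu, img_one_iff.1 hwimg, ?_, ?_, ?_⟩
  · intro y hy
    by_contra hcon
    push Not at hcon
    obtain ⟨hy1, hya, hyb, hyab⟩ := hcon
    have hy12 : yf * yt ∈ lineE S ∧ yf * yt ≠ 1 := ⟨mul_mem hyf hyt, by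
      rw [(lineE_comm S hyf hyt).eq]; exact hy3.2⟩
    obtain ⟨d, hd, hdg, hdu, hdi⟩ := hlift y hy hy1
    obtain ⟨g, hg, hgg, hgu, hgi⟩ := hlift _ hy12.1 hy12.2
    obtain ⟨p, hp, hge⟩ := hfeg hg hgg hgu hgi
    have hd1 := (hB hy hyf hy1 hyf1 (fun e => hya (e ▸ hfimg)) hd hdg hdu hdi hfP hf hfu hfimg).1
    have hd2 := (hB hy hyt hy1 hyt1 (fun e => hyb (e ▸ he₀img)) hd hdg hdu hdi he₀P he₀g he₀u he₀img).1
    refine not_commute_anti hzc hz1 (hB hy hy12.1 hy1 hy12.2 (fun e => hyab (e ▸ hfimg.mul he₀img))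
      hd hdg hdu hdi hg hgg hgu hgi).1 ?_
    rw [hge]
    refine (hd1.mul_anti hzc hzz hd2).mul_right ?_
    rcases hp with h | h <;> rw [h]
    · exact hdu
    · exact hdu.inv_right
  · intro y hy
    rw [Img.unique hy hfimg]
    exact ⟨hyf1, fun h => hne (h.unique he₀img)⟩
  · exact fun p hp hpu hpf => ⟨hmu hyf hyf1 hfP hf hfu hfimg p ⟨hp, hpu, hpf⟩,
      hmu hyt hyt1 he₀P he₀g he₀u he₀img p ⟨hp, hpu, hpf⟩⟩

end LocB

end Cfsg.Agent.TwoCore
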