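/-
The line lemma (notes/two_core_structure.md, line lemma (e), (f)).

* `Loc.card_line_eq_five` : the line of `u` has five points
* `Loc.inv_root_fix` : a root of `z` inverting `u` and fixing the line fixes nothing else
* `Loc.exists_odd_conj` : elements acting as `a` are conjugate to `u * a` by odd kernel elements, up to `z`
* `Loc.exists_lineData` : the conclusion `LineData`
-/
import Cfsg.Agent.Lib.TwoCore.LineFour
import Cfsg.Agent.Lib.TwoCore.FiveLine
import Cfsg.Agent.Lib.TwoCore.CoverPoint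
import Mathlib.GroupTheory.Transfer

set_option autoImplicit false
set_option linter.unusedSectionVars false
set_option linter.style.haveILetI false

namespace Cfsg.Agent.TwoCore

open Subgroup Involution MulAction
open scoped Pointwise

universe u

variable {K : Type u} [Group K]

theorem Img.pow {H : Subgroup K} {u k : K} {y : Equiv.Perm (Line H u)} (h : Img H u k y) (n : ℕ) :
    Img H u (k ^ n) (y ^ n) := by
  induction n with
  | zero => rw [pow_zero, pow_zero]; exact img_one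
  | succ n ih => rw [pow_succ, pow_succ]; exact ih.mul h

theorem Anti.commute_mul {z x x' y : K} (hzc : ∀ g, Commute z g) (hzz : z * z = 1) (h : Anti z x y)
    (h' : Anti z x' y) : Commute (x * x') y := by
  refine mul_inv_eq_iff_eq_mul.1 ?_
  rw [show x * x' * y * (x * x')⁻¹ = x * (x' * y * x'⁻¹) * x⁻¹ by group, h',
    show x * (y * z) * x⁻¹ = (x * y * x⁻¹) * (x * z * x⁻¹) by group, h, (hzc x).symm.eq,
    mul_inv_cancel_right, mul_assoc, hzz, mul_one]

/-- An element of `lineStab u` preserves the centraliser of `u`. -/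
theorem commute_conj_of_normalizes {u g x : K} (hg : Normalizes u g) (hx : Commute x u) :
    Commute (g * x * g⁻¹) u := by
  have h : Commute (g * x * g⁻¹) (g * u * g⁻¹) := by
    simpa using hx.map (MulAut.conj g).toMonoidHom
  rcases hg with h' | h' <;> rw [h'] at h
  · exact h
  · simpa using h.inv_right

/-- An element of `lineStab u` preserves the inverters of `u`. -/
theorem inverts_conj_of_normalizes {u g x : K} (hg : Normalizes u g) (hx : x * u * x⁻¹ = u⁻¹) :
    g * x * g⁻¹ * u * (g * x * g⁻¹)⁻¹ = u⁻¹ := by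
  have hx' : x * u⁻¹ * x⁻¹ = u := by rw [← conj_inv, hx, inv_inv]
  rcases hg with h | h
  · calc g * x * g⁻¹ * u * (g * x * g⁻¹)⁻¹ = g * x * g⁻¹ * (g * u * g⁻¹) * (g * x * g⁻¹)⁻¹ := by rw [h]
      _ = g * (x * u * x⁻¹) * g⁻¹ := by group
      _ = (g * u * g⁻¹)⁻¹ := by rw [hx]; group
      _ = u⁻¹ := by rw [h]
  · have h' : g * u⁻¹ * g⁻¹ = u := by rw [← conj_inv, h, inv_inv]
    calc g * x * g⁻¹ * u * (g * x * g⁻¹)⁻¹ =
          g * x * g⁻¹ * (g * u⁻¹ * g⁻¹) * (g * x * g⁻¹)⁻¹ := by rw [h']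
      _ = g * (x * u⁻¹ * x⁻¹) * g⁻¹ := by group
      _ = u⁻¹ := by rw [hx', h]

/-- The elements of `C(u)` fixing the line of `u`. -/
def lineKer (H : Subgroup K) (u : K) : Subgroup K where
  carrier := {p | Commute p u ∧ FixesLine H u p}
  one_mem' := ⟨Commute.one_left u, fun q _ => one_smul K q⟩
  mul_mem' := fun {x y} hx hy => ⟨hx.1.mul_left hy.1,
    fun q hq => by rw [mul_smul, hy.2 q hq, hx.2 q hq]⟩
  inv_mem' := fun {x} hx => ⟨hx.1.inv_left, fun q hq => inv_smul_eq_iff.2 (hx.2 q hq).symm⟩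

theorem mem_lineKer {H : Subgroup K} {u p : K} :
    p ∈ lineKer H u ↔ Commute p u ∧ FixesLine H u p := Iff.rfl

theorem conj_mem_lineKer {H : Subgroup K} {u g p : K} (hg : Normalizes u g)
    (hp : p ∈ lineKer H u) : g * p * g⁻¹ ∈ lineKer H u :=
  ⟨commute_conj_of_normalizes hg hp.1, fun q hq => by
    rw [mul_smul, mul_smul, hp.2 _ (smul_mem_line ((lineStab u).inv_mem hg) hq), smul_inv_smul]⟩

variable [Finite K] {T : Sylow 2 K} {H : Subgroup K} {z v u : K}

namespace LocB

variable (L : LocB T H z v)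
include L

theorem isPGroup_root {x : K} (hx : x * x = z) : IsPGroup 2 (zpowers x) := by
  rintro ⟨_, i, rfl⟩
  exact ⟨2, Subtype.ext (by
    rw [SubmonoidClass.coe_pow, ← zpow_natCast, ← zpow_mul, mul_comm, zpow_mul, zpow_natCast,
      show (2 : ℕ) ^ 2 = 2 + 2 from rfl, pow_add, sq, hx, mul_self L.z2, one_zpow]
    rfl)⟩

section frame

variable {o : Line H u} {Lg : Subgroup (Equiv.Perm (Line H u))} {t₀ : Lg} {Q : Subgroup Lg}
variable (hu : LineHyp H z u) (S : LineSetup H z u (lineStab u) o Lg t₀ Q)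
variable (ho : (o : K ⧸ H) = base H) {P : Subgroup K} {a b w : K} (F : LineFrame S P a b w)
include hu ho F

/-- The images of `a` and `b` as members of the set-up. -/
theorem exists_members : ∃ A B : Lg, A ∈ FTUse.RankOne.ee S.setup S.two ∧
    B ∈ FTUse.RankOne.ee S.setup S.two ∧ A ≠ 1 ∧ B ≠ 1 ∧ A ≠ B ∧
    Img H u a (A : Equiv.Perm (Line H u)) ∧ Img H u b (B : Equiv.Perm (Line H u)) := by
  obtain ⟨ya, hya, hya1, hai⟩ := L.good_img hu S ho F.good_a (Or.inl (by
    rw [F.au.eq, mul_inv_cancel_right]))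
  obtain ⟨yb, hyb, hyb1, hbi⟩ := L.good_img hu S ho F.good_b (Or.inl (by
    rw [F.bu.eq, mul_inv_cancel_right]))
  obtain ⟨A, hA, rfl⟩ := hya
  obtain ⟨B, hB, rfl⟩ := hyb
  exact ⟨A, B, hA, hB, fun e => hya1 (by rw [e]; rfl), fun e => hyb1 (by rw [e]; rfl),
    fun e => (F.img_ne _ hai).2 (e ▸ hbi), hai, hbi⟩

/-- `Q` has exponent two. -/
theorem sq_mem_ee {x : Lg} (hx : x ∈ Q) (hxx : x * x ∈ FTUse.RankOne.ee S.setup S.two) :
    x ∈ FTUse.RankOne.ee S.setup S.two := by
  classical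
  haveI : Fact (Nat.Prime 2) := ⟨Nat.prime_two⟩
  by_contra hx'
  set E := FTUse.RankOne.ee S.setup S.two with hE
  have hzc : ∀ g, Commute z g := L.z_comm
  have hzz : z * z = 1 := mul_self L.z2
  have hz1 : z ≠ 1 := ne_one L.z2
  obtain ⟨A, B, hA, hB, -, -, -, hai, hbi⟩ := L.exists_members hu S ho F
  have hxo : x ∈ stabilizer Lg o := S.setup.le hx
  have hxc : ∀ e ∈ E, Commute e x := fun e he => by
    by_cases h1 : e = 1
    · rw [h1]; exact Commute.one_left x
    · exact RankOne.Setup.commute_ii S.setup S.two (s := e) ⟨he.1, h1, he.2⟩ hx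
  have hy1 : x * x ≠ 1 := fun e => hx' ⟨hxo, e⟩
  -- a lift normalising `P`
  obtain ⟨k, -, hk⟩ := exists_of_mem_lineImage (S.le x.2)
  have hkimg : Img H u (k : K) (x : Equiv.Perm (Line H u)) := hk ▸ img_lineRho k
  have hkH : (k : K) ∈ H := by
    refine smul_base_eq_iff.1 ?_
    rw [← ho, hkimg o]
    exact congrArg Subtype.val (mem_stabilizer_iff.1 hxo)
  obtain ⟨a', ha', hn⟩ := L.exists_normalizing hu S ho F.max k.2 hkH
  obtain ⟨ha's, y', ⟨E1, hE1, rfl⟩, ha'img⟩ := (mem_preE S).1 ha'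
  set k1 := a' * (k : K) with hk1
  have hk1img : Img H u k1 ((E1 * x : Lg) : Equiv.Perm (Line H u)) := ha'img.mul hkimg
  obtain ⟨n, m, ⟨l, hl⟩, hnm⟩ := Nat.exists_eq_two_pow_mul_odd (orderOf_pos k1).ne'
  set k2 := k1 ^ m with hk2
  have hk2n : k2 ∈ normalizer (P : Set K) := pow_mem hn m
  have hk2p : IsPGroup 2 (zpowers k2) := by
    rintro ⟨_, i, rfl⟩
    exact ⟨n, Subtype.ext (by
      rw [SubmonoidClass.coe_pow, ← zpow_natCast, ← zpow_mul, mul_comm, zpow_mul, zpow_natCast,
        hk2, ← pow_mul, mul_comm, ← hnm, pow_orderOf_eq_one, one_zpow]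
      rfl)⟩
  set R := P ⊔ zpowers k2 with hR
  have hRp : IsPGroup 2 R :=
    IsPGroup.to_sup_of_normal_left' F.max.isPGroup hk2p (zpowers_le.2 hk2n)
  have hRn : R ≤ normalizer (P : Set K) := sup_le le_normalizer (zpowers_le.2 hk2n)
  have hRs : R ≤ lineStab u := sup_le (fun p hp => ((mem_preE S).1 (F.max.le hp)).1)
    (zpowers_le.2 (pow_mem (mul_mem ha's k.2) m))
  have hPR : P ≤ R := le_sup_left
  let Ok : K → Prop := fun g => g ∈ R ∧ ∃ e ∈ E, Img H u g ((e * x : Lg) : Equiv.Perm (Line H u))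
  have hmul : ∀ {g d : K} {D : Lg}, Ok g → d ∈ P → D ∈ E →
      Img H u d (D : Equiv.Perm (Line H u)) → Ok (g * d) := by
    rintro g d D ⟨hg, e, he, hgimg⟩ hd hD hdimg
    refine ⟨R.mul_mem hg (hPR hd), e * D, mul_mem he hD, ?_⟩
    have h := hgimg.mul hdimg
    rwa [← Subgroup.coe_mul, mul_assoc, ← (hxc D hD).eq, ← mul_assoc] at h
  have h2 : Ok k2 := by
    refine ⟨mem_sup_right (mem_zpowers k2), (x * x) ^ l * E1, mul_mem (pow_mem hxx l) hE1, ?_⟩
    have h := hk1img.pow m
    have he : (E1 * x) ^ m = (x * x) ^ l * E1 * x := by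
      rw [hl, pow_succ, pow_mul, sq,
        show E1 * x * (E1 * x) = E1 * (x * E1) * x by group, ← (hxc E1 hE1).eq, ← mul_assoc E1 E1 x,
        hE1.2, one_mul, mul_assoc ((x * x) ^ l)]
    rwa [← SubmonoidClass.coe_pow, he] at h
  -- centralising `u`
  obtain ⟨k3, hk3, hk3u⟩ : ∃ g, Ok g ∧ Commute g u := by
    rcases (mem_lineStab.1 (hRs h2.1)) with h | h
    · exact ⟨k2, h2, commute_of_conj_eq h⟩
    · refine ⟨k2 * w, hmul (D := 1) h2 F.wP (one_mem _) (img_one_iff.2 F.w_fix),
        commute_of_conj_eq ?_⟩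
      rw [show k2 * w * u * (k2 * w)⁻¹ = k2 * (w * u * w⁻¹) * k2⁻¹ by group, F.wu, ← conj_inv, h,
        inv_inv]
  -- commuting or anticommuting with the lifts
  have hca : ∀ {g d : K} {D : Lg}, Ok g → Commute g u → d ∈ P → Good H z d → Commute d u →
      D ∈ E → Img H u d (D : Equiv.Perm (Line H u)) → Commute g d ∨ Anti z g d := by
    intro g d D hg hgu hd hdg hdu hD hdimg
    obtain ⟨hgR, e, he, hgimg⟩ := hg
    have hin : g * d * g⁻¹ ∈ P := (mem_normalizer_iff.1 (hRn hgR) d).1 hd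
    have himg : Img H u (g * d * g⁻¹) (D : Equiv.Perm (Line H u)) := by
      have h := hgimg.conj hdimg
      rwa [← Subgroup.coe_inv, ← Subgroup.coe_mul, ← Subgroup.coe_mul,
        show (e * x) * D * (e * x)⁻¹ = D by
          rw [mul_inv_eq_iff_eq_mul]
          exact (show Commute (e * x) D from Commute.mul_left
            (congrArg Subtype.val (FTUse.RankOne.ee_comm S.setup S.two ⟨e, he⟩ ⟨D, hD⟩))
            (hxc D hD).symm).eq] at h
    rcases L.lift_unique hu F.max.isPGroup hd hin hdg.1 ((orderOf_conj g d).trans hdg.1) hdu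
      (commute_conj_of_normalizes (mem_lineStab_of_commute hgu) hdu) hdimg himg with h | h
    · exact Or.inl (mul_inv_eq_iff_eq_mul.1 h)
    · exact Or.inr h
  obtain ⟨k4, hk4, hk4u, hk4a⟩ : ∃ g, Ok g ∧ Commute g u ∧ Commute g a := by
    rcases hca hk3 hk3u F.aP F.good_a F.au hA hai with h | h
    · exact ⟨k3, hk3, hk3u, h⟩
    · exact ⟨k3 * b, hmul hk3 F.bP hB hbi, hk3u.mul_left F.bu,
        h.commute_mul hzc hzz (F.ab.symm' hzc hzz)⟩
  obtain ⟨g, hg, hgu, hga, hgb⟩ : ∃ g, Ok g ∧ Commute g u ∧ Commute g a ∧ Commute g b := by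
    rcases hca hk4 hk4u F.bP F.good_b F.bu hB hbi with h | h
    · exact ⟨k4, hk4, hk4u, hk4a, h⟩
    · exact ⟨k4 * a, hmul hk4 F.aP hA hai, hk4u.mul_left F.au, hk4a.mul_left (Commute.refl a),
        h.commute_mul hzc hzz F.ab⟩
  -- the square
  obtain ⟨hgR, e, he, hgimg⟩ := hg
  have hsq : Img H u (g * g) ((x * x : Lg) : Equiv.Perm (Line H u)) := by
    have h := hgimg.mul hgimg
    rwa [← Subgroup.coe_mul, show e * x * (e * x) = e * (x * e) * x by group, ← (hxc e he).eq,
      ← mul_assoc e e x, he.2, one_mul] at h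
  have hggu : Commute (g * g) u := hgu.mul_left hgu
  have hyE : ((x * x : Lg) : Equiv.Perm (Line H u)) ∈ lineE S := ⟨x * x, hxx, rfl⟩
  have hggP : g * g ∈ P := by
    obtain ⟨j, hj⟩ := orderOf_eq_two_pow_of_mem hRp (R.mul_mem hgR hgR)
    exact F.max.mem_of_normalizer
      ((mem_preE S).2 ⟨mem_lineStab_of_commute hggu, _, hyE, hsq⟩) (n := j)
      (hj ▸ pow_orderOf_eq_one _) (hRn (R.mul_mem hgR hgR))
  have hfin : ∀ {c d : K}, c ∈ P → Commute c u →
      Img H u c ((x * x : Lg) : Equiv.Perm (Line H u)) → Commute (g * g) d →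
      (∀ p, Commute p a ∧ Commute p b → Commute p d) → Commute c d := by
    intro c d hc hcu hci hd hdd
    have hp : Img H u (c⁻¹ * (g * g)) 1 := by
      have h := hci.inv.mul hsq
      rwa [inv_mul_cancel] at h
    have h := hdd _ (F.ker _ (P.mul_mem (P.inv_mem hc) hggP) (hcu.inv_left.mul_left hggu)
      (img_one_iff.1 hp))
    have h' := hd.mul_left h.inv_left
    rwa [show g * g * (c⁻¹ * (g * g))⁻¹ = c by group] at h'
  have hab : ¬ Commute a b := not_commute_anti hzc hz1 F.ab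
  rcases F.cases _ hyE with h | h | h | h
  · exact hy1 (Subtype.ext h)
  · exact hab (hfin F.aP F.au h (hgb.mul_left hgb) fun p hp => hp.2)
  · exact hab (hfin F.bP F.bu h (hga.mul_left hga) fun p hp => hp.1).symm
  · have h' := hfin (P.mul_mem F.aP F.bP) (F.au.mul_left F.bu) h (hga.mul_left hga) fun p hp => hp.1
    exact hab (mul_left_cancel (a := a) (h'.eq.symm.trans (mul_assoc a b a)))

/-- The line has five points. -/
theorem card_line_of_frame : Nat.card (Line H u) = 5 := by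
  classical
  set E := FTUse.RankOne.ee S.setup S.two with hE
  obtain ⟨A, B, hA, hB, hA1, hB1, hAB, hai, hbi⟩ := L.exists_members hu S ho F
  have hQE : ∀ x ∈ Q, x ∈ E := by
    have key : ∀ n : ℕ, ∀ x ∈ Q, x ^ 2 ^ n = 1 → x ∈ E := by
      intro n
      induction n with
      | zero => intro x _ h; rw [pow_zero, pow_one] at h; rw [h]; exact one_mem _
      | succ n ih =>
        intro x hx h
        refine L.sq_mem_ee hu S ho F hx (ih (x * x) (mul_mem hx hx) ?_)
        rwa [← sq, ← pow_mul, ← pow_succ']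
    intro x hx
    obtain ⟨n, hn⟩ := S.isPGroup ⟨x, hx⟩
    exact key n x hx (by simpa using congrArg Subtype.val hn)
  have hEQ : ∀ x ∈ E, x ∈ Q := fun x hx => by
    by_cases h1 : x = 1
    · rw [h1]; exact one_mem _
    · exact RankOne.Setup.mem_Q_of_ii S.setup (s := x) ⟨hx.1, h1, hx.2⟩
  have hcard : Nat.card Q = 4 := by
    let f : Bool × Bool → Q := fun p =>
      ⟨(if p.1 then A else 1) * (if p.2 then B else 1), hEQ _ (mul_mem
        (by split_ifs <;> [exact hA; exact one_mem _]) (by split_ifs <;> [exact hB; exact one_mem _]))⟩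
    have hne : A * B ≠ 1 := fun e => hAB (by
      rw [← mul_one A, ← hB.2, ← mul_assoc, e, one_mul])
    have hf : Function.Bijective f := by
      constructor
      · rintro ⟨i, j⟩ ⟨i', j'⟩ h
        have h' : (if i then A else 1) * (if j then B else 1) =
            (if i' then A else 1) * (if j' then B else 1) := congrArg Subtype.val h
        cases i <;> cases j <;> cases i' <;> cases j' <;> simp at h' <;>
          first
          | rfl
          | exact absurd h' hA1
          | exact absurd h'.symm hA1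
          | exact absurd h' hB1
          | exact absurd h'.symm hB1
          | exact absurd h' hAB
          | exact absurd h'.symm hAB
          | exact absurd h' hne
          | exact absurd h'.symm hne
      · rintro ⟨x, hx⟩
        have hxE : ((x : Equiv.Perm (Line H u))) ∈ lineE S := ⟨x, hQE x hx, rfl⟩
        rcases F.cases _ hxE with h | h | h | h
        · exact ⟨(false, false), Subtype.ext ((one_mul 1).trans (Subtype.ext h : x = 1).symm)⟩
        · exact ⟨(true, false), Subtype.ext ((mul_one A).trans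
            (Subtype.ext (h.unique hai) : x = A).symm)⟩
        · exact ⟨(false, true), Subtype.ext ((one_mul B).trans
            (Subtype.ext (h.unique hbi) : x = B).symm)⟩
        · exact ⟨(true, true), Subtype.ext
            (Subtype.ext (h.unique (hai.mul hbi)) : x = A * B).symm⟩
    rw [← Nat.card_eq_of_bijective f hf]
    simp
  rw [RankOne.Setup.card_omega S.setup, hcard]

end frame

theorem card_line_eq_five (hN : H.normalCore = zpowers z) (hu : LineHyp H z u) :
    Nat.card (Line H u) = 5 := by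
  obtain ⟨Lg, t, Q, S⟩ := L.exists_lineSetup hN hu
  obtain ⟨P, a, b, w, F⟩ := L.exists_frame hu S rfl
  exact L.card_line_of_frame hu S rfl F

section frame

variable {o : Line H u} {Lg : Subgroup (Equiv.Perm (Line H u))} {t₀ : Lg} {Q : Subgroup Lg}
variable (hu : LineHyp H z u) (S : LineSetup H z u (lineStab u) o Lg t₀ Q)
variable (ho : (o : K ⧸ H) = base H) {P : Subgroup K} {a b w : K} (F : LineFrame S P a b w)
include hu ho F

/-- A root of `z` inverting `u` and fixing the line fixes nothing else. -/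
theorem inv_root_fix (hN : H.normalCore = zpowers z) {k : K} (hk : k * k = z)
    (hku : k * u * k⁻¹ = u⁻¹) (hkfix : FixesLine H u k) {q : K ⧸ H} (hq : k • q = q) :
    u • q = q := by
  classical
  have hzc : ∀ g, Commute z g := L.z_comm
  have hzz : z * z = 1 := mul_self L.z2
  obtain ⟨g, hg, hgP⟩ := F.max.exists_conj_le (R := zpowers k) (L.isPGroup_root hk)
    (zpowers_le.2 (mem_preE_of_fixes S (Or.inr hku) hkfix))
  obtain ⟨hgs, -, -, -⟩ := (mem_preE S).1 hg
  set k' := g * k * g⁻¹ with hk'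
  have hk'P : k' ∈ P := hgP k (mem_zpowers k)
  have hk'u : k' * u * k'⁻¹ = u⁻¹ := inverts_conj_of_normalizes hgs hku
  have hk'sq : k' * k' = z := by
    rw [hk', show g * k * g⁻¹ * (g * k * g⁻¹) = g * (k * k) * g⁻¹ by group, hk, (hzc g).symm.eq,
      mul_inv_cancel_right]
  have hk'fix : FixesLine H u k' := fun r hr => by
    rw [hk', mul_smul, mul_smul, hkfix _ (smul_mem_line ((lineStab u).inv_mem hgs) hr),
      smul_inv_smul]
  have hk'H : k' ∈ H := preE_le S ho (F.max.le hk'P)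
  -- `k'` moves `a` and `b` as `w` does
  have hpu : Commute (w⁻¹ * k') u := commute_of_conj_eq (by
    rw [show w⁻¹ * k' * u * (w⁻¹ * k')⁻¹ = w⁻¹ * (k' * u * k'⁻¹) * w by group, hk'u, ← F.wu]
    group)
  have hpfix : FixesLine H u (w⁻¹ * k') := fun r hr => by
    rw [mul_smul, hk'fix r hr, inv_smul_eq_iff, F.w_fix r hr]
  obtain ⟨hpa, hpb⟩ := F.ker _ (P.mul_mem (P.inv_mem F.wP) hk'P) hpu hpfix
  have hk'a : Anti z k' a := by
    have h := F.wa.left_mul hzc hpa
    rwa [mul_inv_cancel_left] at h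
  have hk'b : Anti z k' b := by
    have h := F.wb.left_mul hzc hpb
    rwa [mul_inv_cancel_left] at h
  have huz : u⁻¹ = u * z :=
    inv_eq_of_mul_eq_one_right (by rw [← mul_assoc, hu.sq, hzz])
  have hk'uz : Anti z k' u := by rw [Anti, hk'u, huz]
  -- the second involution
  set f := k' * b * u with hf
  have hxb : (k' * b) * (k' * b) = 1 := by
    have h : b * k' = k' * (b * z) :=
      (mul_inv_eq_iff_eq_mul.1 (hk'b.symm' hzc hzz)).trans (by rw [mul_assoc, (hzc b).eq])
    rw [show k' * b * (k' * b) = k' * (b * k') * b by group, h,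
      show k' * (k' * (b * z)) * b = (k' * k') * (b * (z * b)) by group, hk'sq, (hzc b).eq,
      ← mul_assoc b b z, mul_self F.good_b.1, one_mul, hzz]
  have hxu : Anti z (k' * b) u := by
    have h := hk'uz.left_mul hzc F.bu
    exact h
  have hff : f * f = 1 := by
    have h : u * (k' * b) = (k' * b) * (u * z) :=
      (mul_inv_eq_iff_eq_mul.1 (hxu.symm' hzc hzz)).trans (by
        rw [mul_assoc (k' * b) z u, (hzc u).eq])
    rw [hf, show k' * b * u * (k' * b * u) = k' * b * (u * (k' * b)) * u by group, h,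
      show k' * b * (k' * b * (u * z)) * u = (k' * b * (k' * b)) * u * (z * u) by group, hxb,
      one_mul, (hzc u).eq, ← mul_assoc, hu.sq, hzz]
  obtain ⟨A, B, -, -, -, hB1, -, -, hbi⟩ := L.exists_members hu S ho F
  have hfimg : Img H u f (B : Equiv.Perm (Line H u)) := by
    have h := ((img_one_iff.2 hk'fix).mul hbi).mul (img_one_iff.2 (fun r (hr : u • r = r) => hr))
    rwa [one_mul, mul_one] at h
  have hfne : f ≠ 1 ∧ f ≠ z := by
    refine ⟨fun e => hB1 ?_, fun e => hB1 ?_⟩ <;>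
      refine Subtype.ext (hfimg.unique ?_)
    · rw [e]; exact img_one
    · rw [e]; exact img_one_iff.2 (fun r _ => L.z_smul r)
  have hfgood : Good H z f := ⟨orderOf_of_sq hff hfne.1, hfne.2,
    H.mul_mem (H.mul_mem hk'H F.good_b.2.2) hu.u_mem⟩
  have hfk : Commute f k' := by
    have h := hk'b.mul_anti hzc hzz hk'uz
    rw [hf, mul_assoc]
    exact ((Commute.refl k').mul_right h).symm
  have hfa : Commute f a :=
    (hk'a.commute_mul hzc hzz (F.ab.symm' hzc hzz)).mul_left F.au.symm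
  obtain ⟨q₁, hq₁⟩ := Cfsg.Agent.TwoCore.exists_line_ne hu o
  have hne : (q₁ : K ⧸ H) ≠ base H := fun e => hq₁ (Subtype.ext (e.trans ho.symm))
  have hk'hyp : LineHyp H z k' := ⟨hk'H, hk'sq, fixesTwo_of_smul hk'H hne (hk'fix _ q₁.2),
    a, f, F.good_a, hfgood, by
      have h : a * k' * a⁻¹ = k' * z := hk'a.symm' hzc hzz
      rw [h]
      exact (inv_eq_of_mul_eq_one_right (by rw [← mul_assoc, hk'sq, hzz])).symm,
    hfk, hfa⟩
  -- the two lines agree
  have hsub : {r : K ⧸ H | u • r = r} ⊆ {r : K ⧸ H | k' • r = r} := fun r hr => hk'fix r hr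
  have h5 : ({r : K ⧸ H | k' • r = r}).ncard ≤ ({r : K ⧸ H | u • r = r}).ncard := by
    rw [← Nat.card_coe_set_eq, ← Nat.card_coe_set_eq]
    exact le_of_eq ((L.card_line_eq_five hN hk'hyp).trans (L.card_line_eq_five hN hu).symm)
  have heq := Set.eq_of_subset_of_ncard_le hsub h5
  have hgq : u • (g • q) = g • q := by
    have h : g • q ∈ {r : K ⧸ H | k' • r = r} := by
      show k' • (g • q) = g • q
      rw [hk', mul_smul, mul_smul, inv_smul_smul, hq]
    rw [← heq] at h
    exact h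
  have h := smul_mem_line ((lineStab u).inv_mem hgs) hgq
  rwa [inv_smul_smul] at h

/-- Elements acting as `a` are conjugate to `u * a` by odd kernel elements, up to `z`. -/
theorem exists_odd_conj {i : K} (hi : i * i = z) (hiu : Normalizes u i)
    (hline : ∀ q : K ⧸ H, u • q = q → i • q = a • q) :
    ∃ k : K, Odd (orderOf k) ∧ Commute k u ∧ FixesLine H u k ∧
      (k * (u * a) * k⁻¹ = i ∨ k * (u * a) * k⁻¹ = i * z) := by
  classical
  haveI : Fact (Nat.Prime 2) := ⟨Nat.prime_two⟩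
  have hzc : ∀ g, Commute z g := L.z_comm
  have hzz : z * z = 1 := mul_self L.z2
  have hz1 : z ≠ 1 := ne_one L.z2
  have huz : u⁻¹ = u * z :=
    inv_eq_of_mul_eq_one_right (by rw [← mul_assoc, hu.sq, hzz])
  obtain ⟨A, B, hA, hB, -, -, -, hai, hbi⟩ := L.exists_members hu S ho F
  have hAl : (A : Equiv.Perm (Line H u)) ∈ lineE S := ⟨A, hA, rfl⟩
  have hiimg : Img H u i (A : Equiv.Perm (Line H u)) := fun q => (hline q q.2).trans (hai q)
  obtain ⟨g, hg, hgP⟩ := F.max.exists_conj_le (R := zpowers i) (L.isPGroup_root hi)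
    (zpowers_le.2 ((mem_preE S).2 ⟨hiu, _, hAl, hiimg⟩))
  obtain ⟨hgs, yg, hyg, hgimg⟩ := (mem_preE S).1 hg
  set j := g * i * g⁻¹ with hj
  have hjP : j ∈ P := hgP i (mem_zpowers i)
  have hjimg : Img H u j (A : Equiv.Perm (Line H u)) := by
    have h := hgimg.conj hiimg
    rwa [(lineE_comm S hyg hAl).eq, mul_inv_cancel_right] at h
  have hjsq : j * j = z := by
    rw [hj, show g * i * g⁻¹ * (g * i * g⁻¹) = g * (i * i) * g⁻¹ by group, hi, (hzc g).symm.eq,
      mul_inv_cancel_right]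
  have hjafix : FixesLine H u (j * a) := img_one_iff.1 (by
    have h := hjimg.mul hai
    rwa [show (A : Equiv.Perm (Line H u)) * A = 1 from congrArg Subtype.val hA.2] at h)
  -- `j` centralises `u`
  have hju : Commute j u := by
    rcases ((mem_preE S).1 (F.max.le hjP)).1 with h | h
    · exact commute_of_conj_eq h
    exfalso
    have hjau : j * a * u * (j * a)⁻¹ = u⁻¹ := by
      rw [show j * a * u * (j * a)⁻¹ = j * (a * u * a⁻¹) * j⁻¹ by group, F.au.eq,
        mul_inv_cancel_right, h]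
    -- `j` moves `a`, so `j * a` is an involution
    have hpu : Commute (w⁻¹ * (j * a)) u := commute_of_conj_eq (by
      rw [show w⁻¹ * (j * a) * u * (w⁻¹ * (j * a))⁻¹ = w⁻¹ * (j * a * u * (j * a)⁻¹) * w by group,
        hjau, ← F.wu]
      group)
    obtain ⟨hpa, -⟩ := F.ker _ (P.mul_mem (P.inv_mem F.wP) (P.mul_mem hjP F.aP)) hpu
      (fun r hr => by rw [mul_smul, hjafix r hr, inv_smul_eq_iff, F.w_fix r hr])
    have hja : Anti z j a := by
      have h' := (F.wa.left_mul hzc hpa).left_mul hzc (Commute.refl a)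
      rwa [mul_inv_cancel_left, mul_assoc, mul_self F.good_a.1, mul_one] at h'
    have h2 : j * a * (j * a) = 1 := by
      have e : a * j = j * a * z := by
        rw [mul_inv_eq_iff_eq_mul.1 (hja.symm' hzc hzz), mul_assoc, (hzc a).eq, ← mul_assoc]
      rw [show j * a * (j * a) = j * (a * j) * a by group, e,
        show j * (j * a * z) * a = (j * j) * (a * (z * a)) by group, hjsq, (hzc a).eq,
        ← mul_assoc a a z, mul_self F.good_a.1, one_mul, hzz]
    obtain ⟨q, hq⟩ := Cfsg.Agent.TwoCore.exists_line_ne hu o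
    refine hq (Subtype.ext (L.eq_of_fix (orderOf_of_sq h2 fun e => ?_) (fun e => ?_)
      (hjafix _ q.2) (hjafix _ o.2)))
    · rw [e] at hjau
      exact hz1 (by simpa [huz] using hjau)
    · rw [e, (hzc u).eq, mul_inv_cancel_right] at hjau
      exact hz1 (by simpa [huz] using hjau)
  -- so `j` is `u * a` up to `z`
  have hpu : Commute (a * j) u := F.au.mul_left hju
  have hpfix : FixesLine H u (a * j) := img_one_iff.1 (by
    have h := hai.mul hjimg
    rwa [show (A : Equiv.Perm (Line H u)) * A = 1 from congrArg Subtype.val hA.2] at h)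
  obtain ⟨hpa, -⟩ := F.ker _ (P.mul_mem F.aP hjP) hpu hpfix
  have hpp : a * j * (a * j) = z := by
    calc a * j * (a * j) = (a * j * a) * j := by group
      _ = (a * (a * j)) * j := by rw [hpa.eq]
      _ = z := by rw [← mul_assoc a a j, mul_self F.good_a.1, one_mul, hjsq]
  have hja : j = u * a ∨ j = u * a * z := by
    have hje : j = a * (a * j) := by rw [← mul_assoc, mul_self F.good_a.1, one_mul]
    rcases L.ker_root hu hpu hpfix hpp with h | h <;> rw [h] at hje
    · exact Or.inl (hje.trans F.au.eq)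
    · exact Or.inr (by rw [hje, huz, ← mul_assoc, F.au.eq])
  have hz_conj : ∀ c x : K, c * (x * z) * c⁻¹ = c * x * c⁻¹ * z := fun c x => by
    rw [← mul_assoc c x z, mul_assoc (c * x) z c⁻¹, (hzc c⁻¹).eq, ← mul_assoc]
  have hsucc : g⁻¹ * (u * a) * g = i ∨ g⁻¹ * (u * a) * g = i * z := by
    have e : i = g⁻¹ * j * g := by rw [hj]; group
    rcases hja with h | h <;> rw [h] at e
    · exact Or.inl e.symm
    · refine Or.inr ?_
      rw [e, show g⁻¹ * (u * a * z) * g = g⁻¹ * (u * a) * (z * g) by group, (hzc g).eq,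
        ← mul_assoc (g⁻¹ * (u * a)) g z, mul_assoc (g⁻¹ * (u * a) * g) z z, hzz, mul_one]
  -- elements fixing `u * a` up to `z`
  have hstep : ∀ {h c : K}, (h * (u * a) * h⁻¹ = i ∨ h * (u * a) * h⁻¹ = i * z) →
      (c * (u * a) * c⁻¹ = u * a ∨ c * (u * a) * c⁻¹ = u * a * z) →
      (h * c * (u * a) * (h * c)⁻¹ = i ∨ h * c * (u * a) * (h * c)⁻¹ = i * z) := by
    intro h c hh hc
    rw [show h * c * (u * a) * (h * c)⁻¹ = h * (c * (u * a) * c⁻¹) * h⁻¹ by group]
    rcases hc with hc | hc <;> rw [hc]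
    · exact hh
    · rw [hz_conj]
      rcases hh with hh | hh <;> rw [hh]
      · exact Or.inr rfl
      · exact Or.inl (by rw [mul_assoc, hzz, mul_one])
  have hsa : a * (u * a) * a⁻¹ = u * a ∨ a * (u * a) * a⁻¹ = u * a * z :=
    Or.inl (by rw [← mul_assoc, F.au.eq, mul_inv_cancel_right])
  have hsb : b * (u * a) * b⁻¹ = u * a ∨ b * (u * a) * b⁻¹ = u * a * z := by
    right
    rw [show b * (u * a) * b⁻¹ = (b * u * b⁻¹) * (b * a * b⁻¹) by group, F.bu.eq,
      mul_inv_cancel_right, F.ab.symm' hzc hzz, mul_assoc u a z]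
  have hsw : w * (u * a) * w⁻¹ = u * a ∨ w * (u * a) * w⁻¹ = u * a * z := by
    left
    rw [show w * (u * a) * w⁻¹ = (w * u * w⁻¹) * (w * a * w⁻¹) by group, F.wu, F.wa, huz,
      show u * z * (a * z) = u * (z * a) * z by group, (hzc a).eq, ← mul_assoc u a z,
      mul_assoc (u * a) z z, hzz, mul_one]
  -- act trivially
  obtain ⟨h₁, hh₁, hh₁s, hh₁fix⟩ : ∃ h : K, (h * (u * a) * h⁻¹ = i ∨ h * (u * a) * h⁻¹ = i * z) ∧
      Normalizes u h ∧ FixesLine H u h := by
    have hh : g⁻¹ * (u * a) * g⁻¹⁻¹ = i ∨ g⁻¹ * (u * a) * g⁻¹⁻¹ = i * z := by rwa [inv_inv]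
    have hs := (lineStab u).inv_mem hgs
    have him : Img H u g⁻¹ yg := by
      have h := hgimg.inv
      rwa [inv_eq_of_mul_eq_one_right (lineE_sq S hyg)] at h
    have ha' : Normalizes u a := mem_lineStab_of_commute F.au
    have hb' : Normalizes u b := mem_lineStab_of_commute F.bu
    rcases F.cases _ hyg with h | h | h | h
    · exact ⟨g⁻¹, hh, hs, img_one_iff.1 (h ▸ him)⟩
    all_goals have h2 := him.mul h; rw [lineE_sq S hyg] at h2
    · exact ⟨g⁻¹ * a, hstep hh hsa, (lineStab u).mul_mem hs ha', img_one_iff.1 h2⟩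
    · exact ⟨g⁻¹ * b, hstep hh hsb, (lineStab u).mul_mem hs hb', img_one_iff.1 h2⟩
    · rw [← mul_assoc] at h2
      exact ⟨g⁻¹ * a * b, hstep (hstep hh hsa) hsb,
        (lineStab u).mul_mem ((lineStab u).mul_mem hs ha') hb', img_one_iff.1 h2⟩
  -- centralise `u`
  obtain ⟨h₂, hh₂, hh₂Y⟩ : ∃ h : K, (h * (u * a) * h⁻¹ = i ∨ h * (u * a) * h⁻¹ = i * z) ∧
      h ∈ lineKer H u := by
    rcases hh₁s with h | h
    · exact ⟨h₁, hh₁, commute_of_conj_eq h, hh₁fix⟩
    · refine ⟨h₁ * w, hstep hh₁ hsw, commute_of_conj_eq ?_,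
        fun r hr => by rw [mul_smul, F.w_fix r hr, hh₁fix r hr]⟩
      rw [show h₁ * w * u * (h₁ * w)⁻¹ = h₁ * (w * u * w⁻¹) * h₁⁻¹ by group, F.wu, ← conj_inv, h,
        inv_inv]
  -- a cyclic Sylow subgroup of the kernel
  set Y := lineKer H u with hY
  set SY : Subgroup Y := P.subgroupOf Y with hSY
  have huY : u ∈ Y := ⟨Commute.refl u, fun q hq => hq⟩
  have hu4 : orderOf u = 4 := by
    have h := orderOf_eq_prime_pow (p := 2) (n := 1) (x := u)
      (by rw [pow_one, sq, hu.sq]; exact hz1)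
      (by rw [show (2 : ℕ) ^ (1 + 1) = 2 + 2 from rfl, pow_add, sq, hu.sq, hzz])
    simpa using h
  have hSYp : IsPGroup 2 SY := F.max.isPGroup.comap_of_injective Y.subtype Y.subtype_injective
  obtain ⟨SS, hSS⟩ := hSYp.exists_le_sylow
  have hSSeq : SY = (SS : Subgroup Y) := by
    refine eq_of_le_of_card_ge hSS ?_
    obtain ⟨c, hc, hcP⟩ := F.max.exists_conj_le (R := (SS : Subgroup Y).map Y.subtype)
      (SS.isPGroup'.map _) (by
        rintro _ ⟨y, -, rfl⟩
        exact mem_preE_of_fixes S (mem_lineStab_of_commute y.2.1) y.2.2)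
    obtain ⟨hcs, -⟩ := (mem_preE S).1 hc
    refine Nat.card_le_card_of_injective
      (fun y : SS => (⟨⟨c * ((y : Y) : K) * c⁻¹, conj_mem_lineKer hcs (y : Y).2⟩,
        hcP _ ⟨y, y.2, rfl⟩⟩ : SY)) ?_
    intro y y' h
    have h' : c * ((y : Y) : K) * c⁻¹ = c * ((y' : Y) : K) * c⁻¹ :=
      congrArg (fun s : SY => ((s : Y) : K)) h
    exact Subtype.ext (Subtype.ext (mul_left_cancel (mul_right_cancel h')))
  haveI hcyc : IsCyclic SY := by
    refine CyclicMeet.isCyclic_of_unique hSYp (v := (⟨⟨u, huY⟩, F.uP⟩ : SY))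
      (mem_center_iff.2 fun x => Subtype.ext (Subtype.ext (x : Y).2.1.eq))
      (by rw [← Subgroup.orderOf_coe, ← Subgroup.orderOf_coe]; exact hu4) fun x hx => ?_
    by_cases h1 : x = 1
    · rw [h1]; exact one_mem _
    have hxz : ((x : Y) : K) = z := by
      by_contra hne
      obtain ⟨q, hq⟩ := Cfsg.Agent.TwoCore.exists_line_ne hu o
      exact hq (Subtype.ext (L.eq_of_fix (orderOf_of_sq (congrArg (fun s : SY => ((s : Y) : K)) hx)
        fun e => h1 (Subtype.ext (Subtype.ext e))) hne ((x : Y).2.2 _ q.2) ((x : Y).2.2 _ o.2)))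
    refine ⟨2, Subtype.ext (Subtype.ext ?_)⟩
    show ((((⟨⟨u, huY⟩, F.uP⟩ : SY) ^ (2 : ℤ) : SY) : Y) : K) = ((x : Y) : K)
    rw [Subgroup.coe_zpow, Subgroup.coe_zpow, zpow_two, hxz]
    exact hu.sq
  haveI : IsCyclic (SS : Subgroup Y) := hSSeq ▸ hcyc
  have heven : (Nat.card Y).minFac = 2 := (Nat.minFac_eq_two_iff _).2 (by
    have hzY : z ∈ Y := ⟨hzc u, fun q _ => L.z_smul q⟩
    have h := Subgroup.orderOf_dvd_natCard Y hzY
    rwa [L.z2] at h)
  have hnc := IsCyclic.normalizer_le_centralizer (P := SS) heven inferInstance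
  obtain ⟨⟨n, s⟩, hns⟩ :=
    (MonoidHom.ker_transferSylow_isComplement' SS hnc).2 (⟨h₂, hh₂Y⟩ : Y)
  have hnsK : ((n : Y) : K) * ((s : Y) : K) = h₂ := congrArg Subtype.val hns
  have hsY : (s : Y) ∈ SY := by rw [hSSeq]; exact s.2
  have hsP : ((s : Y) : K) ∈ P := hsY
  refine ⟨((n : Y) : K), ?_, (n : Y).2.1, (n : Y).2.2, ?_⟩
  · rw [Subgroup.orderOf_coe, Subgroup.orderOf_coe]
    refine Odd.of_dvd_nat ?_ (orderOf_dvd_natCard n)
    exact Nat.odd_iff.2 (Nat.two_dvd_ne_zero.1 (MonoidHom.not_dvd_card_ker_transferSylow SS hnc))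
  · have hs : Commute ((s : Y) : K) (u * a) :=
      (s : Y).2.1.mul_right (F.ker _ hsP (s : Y).2.1 (s : Y).2.2).1
    have e : h₂ * (u * a) * h₂⁻¹ = ((n : Y) : K) * (u * a) * ((n : Y) : K)⁻¹ := by
      rw [← hnsK, show ((n : Y) : K) * ((s : Y) : K) * (u * a) * (((n : Y) : K) * ((s : Y) : K))⁻¹ =
        ((n : Y) : K) * (((s : Y) : K) * (u * a) * ((s : Y) : K)⁻¹) * ((n : Y) : K)⁻¹ by group,
        hs.eq, mul_inv_cancel_right]
    rwa [← e]

end frame

/-- The line lemma. -/
theorem exists_lineData (hN : H.normalCore = zpowers z) (hu : LineHyp H z u) :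
    ∃ w a b : K, LineData H z u w a b := by
  obtain ⟨Lg, t, Q, S⟩ := L.exists_lineSetup hN hu
  obtain ⟨P, a, b, w, F⟩ := L.exists_frame hu S rfl
  have h5 := L.card_line_eq_five hN hu
  have hb : u • base H = base H := smul_base_eq_iff.2 hu.u_mem
  have hzz : z * z = 1 := mul_self L.z2
  have hc : ∀ {x y : K}, Anti z x y → x * y * x⁻¹ * y⁻¹ = z := fun {x y} h => by
    rw [h, mul_assoc, (L.z_comm y⁻¹).eq, ← mul_assoc, mul_inv_cancel, one_mul]
  obtain ⟨A, B, hA, hB, -, -, hAB, hai, hbi⟩ := L.exists_members hu S rfl F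
  have hone : ∀ {d : K}, Good H z d → ∀ p : K ⧸ H, u • p = p → d • p = p → p = base H :=
    fun hd p _ hdp => L.eq_of_fix hd.1 hd.2.1 hdp (smul_base_eq_iff.2 hd.2.2)
  refine ⟨w, a, b, ⟨hu.u_mem, hu.sq, F.good_a, F.good_b, F.au, F.bu, hc F.ab, F.sq_w,
    preE_le S rfl (F.max.le F.wP), F.wu, hc F.wa, hc F.wb, h5, ?_, L.exists_three hu S h5,
    hone F.good_a, hone F.good_b, ?_, F.w_fix, fun p hp hf h => L.ker_root hu hp hf h,
    fun k hk hku hkf q hq => ?_, ?_, fun i hi hiu hline => L.exists_odd_conj hu S rfl F hi hiu hline⟩⟩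
  · intro p hp
    obtain ⟨c, hc, hcp⟩ := L.exists_cent_smul hu ⟨p, hp⟩ ⟨base H, hb⟩
    exact ⟨c, hc, congrArg Subtype.val hcp⟩
  · intro p hp hfix
    have hne : A * B ≠ 1 := fun e => hAB (by
      rw [← mul_one A, ← hB.2, ← mul_assoc, e, one_mul])
    have hyE : ((A * B : Lg) : Equiv.Perm (Line H u)) ∈ lineE S := ⟨A * B, mul_mem hA hB, rfl⟩
    obtain ⟨-, -, h3, h4⟩ :=
      ((mem_lineE S).1 hyE).resolve_left (fun e => hne (Subtype.ext e))
    have h : ((A * B : Lg) : Equiv.Perm (Line H u)) • (⟨p, hp⟩ : Line H u) = ⟨p, hp⟩ :=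
      Subtype.ext (((hai.mul hbi) ⟨p, hp⟩).symm.trans hfix)
    exact congrArg Subtype.val (h4 _ _ h h3)
  · exact L.inv_root_fix hu S rfl F hN hk hku hkf hq
  · intro d hd hdn
    obtain ⟨y, hy, hy1, hdi⟩ := L.good_img hu S rfl hd hdn
    rcases F.cases y hy with h | h | h | h
    · exact absurd h hy1
    · exact ⟨a, Or.inl rfl, fun q hq => (hdi ⟨q, hq⟩).trans (h ⟨q, hq⟩).symm⟩
    · exact ⟨b, Or.inr (Or.inl rfl), fun q hq => (hdi ⟨q, hq⟩).trans (h ⟨q, hq⟩).symm⟩
    · exact ⟨a * b, Or.inr (Or.inr rfl), fun q hq => (hdi ⟨q, hq⟩).trans (h ⟨q, hq⟩).symm⟩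

end LocB

end Cfsg.Agent.TwoCore
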