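/-
Permutations of nine points for the nine-point case (notes/two_core_structure.md).

* `fix_of_commute_fpf` : odd order commuting with an involution moving four points fixes those
* `eq_one_of_twist` : an odd-order element on four points twisted by a double transposition
* `starPair_mem` : even star products from two families of three-cycles meeting at one point
* `dbl_mem` : hence every product of two transpositions avoiding the centre
-/
import Cfsg.Agent.EqLemmas
import Cfsg.Agent.Lib.Signalizer.PAction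
import Mathlib.GroupTheory.Perm.Cycle.Type
import Mathlib.Data.Fintype.Perm

set_option autoImplicit false
set_option linter.unusedSectionVars false
set_option linter.style.haveILetI false

namespace Cfsg.Agent.TwoCore.Nine

open Equiv

variable {α : Type*} [DecidableEq α] [Fintype α]

theorem four_commute : ∀ c e : Perm (Fin 4), ((∀ x, e x ≠ x) ∧ e * e = 1 ∧ c * e = e * c ∧
    c * c * c = 1) → c = 1 := by
  decide +kernel

theorem four_twist : ∀ c e : Perm (Fin 4), ((∀ x, e x ≠ x) ∧ e * e = 1 ∧ c * c * c = 1 ∧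
    (c * (e * c * e)) * (c * (e * c * e)) * (c * (e * c * e)) = 1 ∧
    (c * (e * c⁻¹ * e)) * (c * (e * c⁻¹ * e)) * (c * (e * c⁻¹ * e)) = 1) → c = 1 := by
  decide +kernel

theorem cube_of_odd {c : Equiv.Perm (Fin 4)} (hc : Odd (orderOf c)) : c * c * c = 1 := by
  have h24 : orderOf c ∣ 8 * 3 := by
    have h := orderOf_dvd_natCard c
    rwa [Nat.card_eq_fintype_card, Fintype.card_perm, Fintype.card_fin,
      show Nat.factorial 4 = 8 * 3 from rfl] at h
  have h8 : (orderOf c).Coprime 8 := by
    rw [show (8 : ℕ) = 2 ^ 3 from rfl]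
    exact Nat.Coprime.pow_right 3 (Nat.coprime_two_right.2 hc)
  have h3 := orderOf_dvd_iff_pow_eq_one.1 (h8.dvd_of_dvd_mul_left h24)
  rwa [pow_succ, pow_two] at h3

/-- The permutations preserving the fixed set of `e`. -/
def keep (e : Perm α) : Subgroup (Perm α) where
  carrier := {σ | ∀ x, e (σ x) = σ x ↔ e x = x}
  one_mem' _ := Iff.rfl
  mul_mem' {σ τ} hσ hτ x := (hσ (τ x)).trans (hτ x)
  inv_mem' {σ} hσ x := by
    have h := hσ (σ⁻¹ x)
    rw [show σ (σ⁻¹ x) = x from σ.apply_symm_apply x] at h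
    exact h.symm

theorem mem_keep_of_commute {e σ : Perm α} (h : σ * e = e * σ) : σ ∈ keep e := fun x => by
  rw [show e (σ x) = σ (e x) from (congrArg (· x) h).symm]
  exact σ.injective.eq_iff

theorem mem_keep_of_fixes {e σ : Perm α} (h : ∀ x, e x = x → σ x = x) : σ ∈ keep e := fun x => by
  constructor
  · intro hx
    have h1 := σ.injective (h (σ x) hx)
    rwa [h1] at hx
  · intro hx
    rw [h x hx, hx]

/-- Read the moved set of `e` on four letters. -/
theorem exists_toFour {e : Perm α} (h4 : Nat.card {x : α // e x ≠ x} = 4) :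
    ∃ (g : {x : α // e x ≠ x} ≃ Fin 4) (R : keep e →* Perm (Fin 4)),
      ∀ (σ : keep e) (x : {x : α // e x ≠ x}), R σ (g x) =
        g ⟨(σ : Perm α) x, fun h => x.2 ((σ.2 x).1 h)⟩ := by
  classical
  let g := (Finite.equivFinOfCardEq h4 : {x : α // e x ≠ x} ≃ Fin 4)
  refine ⟨g,
    { toFun := fun σ => g.permCongr ((σ : Perm α).subtypePerm fun x => not_congr (σ.2 x))
      map_one' := ?_
      map_mul' := ?_ }, ?_⟩
  · ext i; simp [Equiv.permCongr_apply]
  · intro σ τ; ext i; simp [Equiv.permCongr_apply, Perm.subtypePerm_apply]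
  · intro σ x; simp [Equiv.permCongr_apply, Perm.subtypePerm_apply]

/-- Odd order, commuting with an involution that moves four points: those points are fixed. -/
theorem fix_of_commute_fpf {e c : Perm α} (he : e * e = 1)
    (h4 : Nat.card {x : α // e x ≠ x} = 4) (hc : Odd (orderOf c)) (hce : c * e = e * c) :
    ∀ x, e x ≠ x → c x = x := by
  intro x hx
  obtain ⟨g, R, hR⟩ := exists_toFour h4
  have hcK : c ∈ keep e := mem_keep_of_commute hce
  have heK : e ∈ keep e := mem_keep_of_commute rfl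
  have hodd : Odd (orderOf (R ⟨c, hcK⟩)) := by
    refine Odd.of_dvd_nat ?_ (orderOf_map_dvd R _)
    rwa [Subgroup.orderOf_mk]
  have h1 : R ⟨c, hcK⟩ = 1 := by
    refine four_commute _ (R ⟨e, heK⟩) ⟨fun i h => ?_, ?_, ?_, cube_of_odd hodd⟩
    · obtain ⟨y, rfl⟩ := g.surjective i
      rw [hR] at h
      exact y.2 (congrArg Subtype.val (g.injective h))
    · rw [← map_mul, show (⟨e, heK⟩ * ⟨e, heK⟩ : keep e) = 1 from Subtype.ext he, map_one]
    · rw [← map_mul, ← map_mul]; exact congrArg R (Subtype.ext hce)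
  have h2 := hR ⟨c, hcK⟩ ⟨x, hx⟩
  rw [h1, Perm.one_apply] at h2
  exact (congrArg Subtype.val (g.injective h2)).symm

/-- An odd-order element living on the four points moved by `e`, with both twists of odd order. -/
theorem eq_one_of_twist {e c : Perm α} (he : e * e = 1)
    (h4 : Nat.card {x : α // e x ≠ x} = 4) (hsupp : ∀ x, e x = x → c x = x)
    (hc : Odd (orderOf c)) (hp : Odd (orderOf (c * (e * c * e))))
    (hm : Odd (orderOf (c * (e * c⁻¹ * e)))) : c = 1 := by
  obtain ⟨g, R, hR⟩ := exists_toFour h4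
  set C : keep e := ⟨c, mem_keep_of_fixes hsupp⟩ with hC
  set E : keep e := ⟨e, mem_keep_of_commute rfl⟩ with hE
  have hodd : ∀ σ : keep e, Odd (orderOf (σ : Perm α)) → Odd (orderOf (R σ)) := fun σ h =>
    Odd.of_dvd_nat (by rwa [Subgroup.orderOf_coe] at h) (orderOf_map_dvd R σ)
  have h1 : R C = 1 := by
    refine four_twist _ (R E) ⟨fun i h => ?_, ?_, cube_of_odd (hodd C hc), ?_, ?_⟩
    · obtain ⟨y, rfl⟩ := g.surjective i
      rw [hR] at h
      exact y.2 (congrArg Subtype.val (g.injective h))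
    · rw [← map_mul, show E * E = 1 from Subtype.ext he, map_one]
    · have h := cube_of_odd (hodd (C * (E * C * E)) hp)
      simpa only [map_mul] using h
    · have h := cube_of_odd (hodd (C * (E * C⁻¹ * E)) hm)
      simpa only [map_mul, map_inv] using h
  ext x
  by_cases hx : e x = x
  · rw [Perm.one_apply, hsupp x hx]
  · have h2 := hR C ⟨x, hx⟩
    rw [h1, Perm.one_apply] at h2
    exact (congrArg Subtype.val (g.injective h2)).symm

/-- The three-cycle `o → i → j → o`. -/
theorem comm_star {o i i' j j' : α} (h : [o, i, i', j, j'].Nodup) :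
    (swap o i' * swap o i) * (swap o j' * swap o j) * (swap o i' * swap o i)⁻¹ *
      (swap o j' * swap o j)⁻¹ = swap o j * swap o i := by
  simp only [List.nodup_cons, List.mem_cons, List.not_mem_nil, or_false, not_or, not_false_eq_true,
    List.nodup_nil, and_true] at h
  obtain ⟨⟨h1, h2, h3, h4⟩, ⟨h5, h6, h7⟩, ⟨h8, h9⟩, h10⟩ := h
  have := Ne.symm h1; have := Ne.symm h2; have := Ne.symm h3; have := Ne.symm h4
  have := Ne.symm h5; have := Ne.symm h6; have := Ne.symm h7; have := Ne.symm h8
  have := Ne.symm h9; have := Ne.symm h10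
  ext x
  simp only [mul_inv_rev, swap_inv, Perm.mul_apply]
  by_cases e1 : x = o
  · subst e1; simp [swap_apply_def, *]
  by_cases e2 : x = i
  · subst e2; simp [swap_apply_def, *]
  by_cases e3 : x = i'
  · subst e3; simp [swap_apply_def, *]
  by_cases e4 : x = j
  · subst e4; simp [swap_apply_def, *]
  by_cases e5 : x = j'
  · subst e5; simp [swap_apply_def, *]
  · simp [swap_apply_def, *]

/-- Even products of star transpositions from two families meeting at the centre. -/
theorem starPair_mem {R : Subgroup (Perm α)} {o : α} {A B : α → Prop}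
    (hAB : ∀ x, x ≠ o → A x ∨ B x) (hdisj : ∀ x, x ≠ o → A x → B x → False)
    (hA : ∀ i i', A i → A i' → i ≠ o → i' ≠ o → i ≠ i' → swap o i' * swap o i ∈ R)
    (hB : ∀ i i', B i → B i' → i ≠ o → i' ≠ o → i ≠ i' → swap o i' * swap o i ∈ R)
    (hA' : ∀ i, ∃ i', A i' ∧ i' ≠ o ∧ i' ≠ i) (hB' : ∀ i, ∃ i', B i' ∧ i' ≠ o ∧ i' ≠ i)
    {x y : α} (hx : x ≠ o) (hy : y ≠ o) : swap o x * swap o y ∈ R := by
  by_cases hxy : x = y
  · rw [hxy, swap_mul_self]; exact R.one_mem
  have mixed : ∀ i j, A i → B j → i ≠ o → j ≠ o → swap o j * swap o i ∈ R := by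
    intro i j hi hj hio hjo
    obtain ⟨i', hi', hi'o, hi'i⟩ := hA' i
    obtain ⟨j', hj', hj'o, hj'j⟩ := hB' j
    have ne : ∀ a b, A a → B b → a ≠ o → a ≠ b := fun a b ha hb hao e =>
      hdisj a hao ha (e ▸ hb)
    rw [← comm_star (i' := i') (j' := j') (by
      simp [hio.symm, hjo.symm, hi'o.symm, hj'o.symm, hi'i.symm, hj'j.symm, ne i j hi hj hio,
        ne i j' hi hj' hio, ne i' j hi' hj hi'o, ne i' j' hi' hj' hi'o])]
    exact R.mul_mem (R.mul_mem (R.mul_mem (hA i i' hi hi' hio hi'o hi'i.symm)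
      (hB j j' hj hj' hjo hj'o hj'j.symm)) (R.inv_mem (hA i i' hi hi' hio hi'o hi'i.symm)))
      (R.inv_mem (hB j j' hj hj' hjo hj'o hj'j.symm))
  rcases hAB x hx with hxA | hxB <;> rcases hAB y hy with hyA | hyB
  · exact hA y x hyA hxA hy hx (Ne.symm hxy)
  · simpa [mul_inv_rev, swap_inv] using R.inv_mem (mixed x y hxA hyB hx hy)
  · exact mixed y x hyA hxB hy hx
  · exact hB y x hyB hxB hy hx (Ne.symm hxy)

/-- Every product of two transpositions avoiding the centre. -/
theorem dbl_mem {R : Subgroup (Perm α)} {o : α}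
    (hR : ∀ {x y : α}, x ≠ o → y ≠ o → swap o x * swap o y ∈ R) {i j k l : α} (hi : i ≠ o)
    (hj : j ≠ o) (hk : k ≠ o) (hl : l ≠ o) (hij : i ≠ j) (hkl : k ≠ l) :
    swap i j * swap k l ∈ R := by
  have key : ∀ {a b : α}, a ≠ o → b ≠ o → a ≠ b → swap a b = swap o a * swap o b * swap o a := by
    intro a b ha hb hab
    ext x
    simp only [Perm.mul_apply, swap_apply_def]
    split_ifs <;> simp_all
  rw [key hi hj hij, key hk hl hkl,
    show swap o i * swap o j * swap o i * (swap o k * swap o l * swap o k) =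
      swap o i * swap o j * (swap o i * swap o k) * (swap o l * swap o k) by group]
  exact R.mul_mem (R.mul_mem (hR hi hj) (hR hi hk)) (hR hl hk)

/-- The product of two transpositions of nine letters. -/
def dbl (a b c d : Fin 9) : Perm (Fin 9) := swap a b * swap c d

/-- `(12)(34)(56)(78)`. -/
def std : Perm (Fin 9) := dbl 1 2 3 4 * dbl 5 6 7 8

/-- A root of `dbl a b c d` commuting with `std`, when `{e, f}` is a further pair. -/
def root (a b c d e f : Fin 9) : Perm (Fin 9) := dbl e f a d * dbl a b a c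

theorem std_card : std.support.card = 8 := by decide +kernel

theorem std_sq : std * std = 1 := by decide +kernel

theorem std_zero : std 0 = 0 := by decide +kernel

/-- An involution of nine points fixing one is labelled as `std`. -/
theorem exists_label {e : Perm α} (h9 : Fintype.card α = 9) (he : e * e = 1) {o : α}
    (ho : ∀ x, e x = x ↔ x = o) : ∃ f : Fin 9 ≃ α, f 0 = o ∧ ∀ i, e (f i) = f (std i) := by
  haveI : Fact (Nat.Prime 2) := ⟨Nat.prime_two⟩
  let g : α ≃ Fin 9 := Fintype.equivFinOfCardEq h9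
  have he' : g.permCongr e * g.permCongr e = 1 := by
    ext i
    simp only [Equiv.permCongr_apply, Perm.mul_apply, symm_apply_apply, Perm.one_apply]
    rw [← Perm.mul_apply, he, Perm.one_apply, apply_symm_apply]
  have hsupp : (g.permCongr e).support.card = 8 := by
    have h : (g.permCongr e).support = Finset.univ.erase (g o) := by
      ext i
      simp only [Perm.mem_support, Equiv.permCongr_apply, Finset.mem_erase, Finset.mem_univ, and_true]
      exact not_congr (g.apply_eq_iff_eq_symm_apply.trans ((ho _).trans g.symm_apply_eq))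
    rw [h, Finset.card_erase_of_mem (Finset.mem_univ _), Finset.card_univ, Fintype.card_fin]
  have hct : ∀ σ : Perm (Fin 9), σ * σ = 1 → σ.support.card = 8 →
      σ.cycleType = Multiset.replicate 4 2 := fun σ hσ h8 => by
    have h := Perm.cycleType_of_pow_prime_eq_one (p := 2) (σ := σ) (by rwa [pow_two])
    have hs := σ.sum_cycleType
    rw [h, Multiset.sum_replicate, h8, smul_eq_mul] at hs
    rw [h, show σ.cycleType.card = 4 by omega]
  obtain ⟨σ, hσ⟩ := isConj_iff.1 (Perm.isConj_iff_cycleType_eq.2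
    ((hct std std_sq std_card).trans (hct _ he' hsupp).symm))
  have key : ∀ i, e (g.symm (σ i)) = g.symm (σ (std i)) := fun i => by
    have h := congrArg (fun π : Perm (Fin 9) => π (σ i)) hσ
    simp only [Perm.mul_apply, Equiv.permCongr_apply, show σ⁻¹ (σ i) = i from σ.symm_apply_apply i] at h
    rw [h, symm_apply_apply]
  refine ⟨σ.trans g.symm, (ho _).1 ?_, fun i => key i⟩
  show e (g.symm (σ 0)) = g.symm (σ 0)
  rw [key, std_zero]

/-- The four-group `{1, (12)(34), (12)(56), (34)(56)}`. -/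
def fourGroup : Subgroup (Perm (Fin 9)) where
  carrier := {π | π = 1 ∨ π = dbl 1 2 3 4 ∨ π = dbl 1 2 5 6 ∨ π = dbl 3 4 5 6}
  one_mem' := Or.inl rfl
  mul_mem' {x y} hx hy := by
    simp only [Set.mem_ofPred_eq] at hx hy ⊢
    rcases hx with rfl | rfl | rfl | rfl <;> rcases hy with rfl | rfl | rfl | rfl <;> decide +kernel
  inv_mem' {x} hx := by
    simp only [Set.mem_ofPred_eq] at hx ⊢
    rcases hx with rfl | rfl | rfl | rfl <;> decide +kernel

theorem fourGroup_elementary : Cfsg.IsElementaryAbelian 2 fourGroup := by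
  refine ⟨⟨⟨?_⟩⟩, ?_⟩
  · rintro ⟨x, hx⟩ ⟨y, hy⟩
    refine Subtype.ext (show x * y = y * x from ?_)
    rcases hx with rfl | rfl | rfl | rfl <;> rcases hy with rfl | rfl | rfl | rfl <;> decide +kernel
  · rintro x hx
    rcases hx with rfl | rfl | rfl | rfl <;> decide +kernel

theorem card_fourGroup : 2 ^ 2 ≤ Nat.card fourGroup := by
  let f : Fin 4 → fourGroup := ![⟨1, Or.inl rfl⟩, ⟨dbl 1 2 3 4, Or.inr (Or.inl rfl)⟩,
    ⟨dbl 1 2 5 6, Or.inr (Or.inr (Or.inl rfl))⟩, ⟨dbl 3 4 5 6, Or.inr (Or.inr (Or.inr rfl))⟩]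
  have hf : Function.Injective f := by
    intro a b h
    have h' : (f a : Perm (Fin 9)) = f b := congrArg Subtype.val h
    fin_cases a <;> fin_cases b <;> first | rfl | exact absurd h' (by decide +kernel)
  simpa using Nat.card_le_card_of_injective f hf

/-- An odd group of permutations fixing `0` normalised by the double transpositions is trivial. -/
theorem bot_of_double {X : Subgroup (Perm (Fin 9))} (hodd : ¬ 2 ∣ Nat.card X)
    (h0 : ∀ x ∈ X, x 0 = 0)
    (h12 : dbl 1 2 3 4 ∈ Subgroup.normalizer (X : Set (Perm (Fin 9))))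
    (h13 : dbl 1 2 5 6 ∈ Subgroup.normalizer (X : Set (Perm (Fin 9))))
    (h23 : dbl 3 4 5 6 ∈ Subgroup.normalizer (X : Set (Perm (Fin 9))))
    (h34 : dbl 5 6 7 8 ∈ Subgroup.normalizer (X : Set (Perm (Fin 9))))
    (h24 : dbl 3 4 7 8 ∈ Subgroup.normalizer (X : Set (Perm (Fin 9))))
    (h14 : dbl 1 2 7 8 ∈ Subgroup.normalizer (X : Set (Perm (Fin 9)))) : X = ⊥ := by
  haveI : Fact (Nat.Prime 2) := ⟨Nat.prime_two⟩
  have hoX : ∀ x ∈ X, Odd (orderOf x) := fun x hx =>
    Odd.of_dvd_nat (Nat.not_even_iff_odd.1 fun h => hodd h.two_dvd) (X.orderOf_dvd_natCard hx)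
  have kill : ∀ e e' : Perm (Fin 9), e' ∈ Subgroup.normalizer (X : Set (Perm (Fin 9))) →
      (e * e = 1 ∧ e' * e' = 1 ∧ Fintype.card {x // e x ≠ x} = 4 ∧
        Fintype.card {x // e' x ≠ x} = 4 ∧ (∀ x, e' x = x → x = 0 ∨ e x ≠ x)) →
      X ⊓ Subgroup.centralizer ({e} : Set (Perm (Fin 9))) ≤ ⊥ := by
    rintro e e' he'n ⟨he, he', hc, hc', hfix⟩ x ⟨hxX, hxc⟩
    rw [Subgroup.mem_bot]
    have hfe := fix_of_commute_fpf he (by rw [Nat.card_eq_fintype_card]; exact hc) (hoX x hxX)
      (Subgroup.mem_centralizer_singleton_iff.1 hxc)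
    have htw : ∀ y ∈ X, e' * y * e' ∈ X := fun y hy => by
      have h := (Subgroup.mem_normalizer_iff.1 he'n y).1 hy
      rwa [inv_eq_of_mul_eq_one_right he'] at h
    refine eq_one_of_twist he' (by rw [Nat.card_eq_fintype_card]; exact hc') (fun i hi => ?_)
      (hoX x hxX) (hoX _ (X.mul_mem hxX (htw x hxX)))
      (hoX _ (X.mul_mem hxX (htw _ (X.inv_mem hxX))))
    rcases hfix i hi with rfl | h
    · exact h0 x hxX
    · exact hfe i h
  refine le_bot_iff.1 (Signalizer.le_of_elements fourGroup_elementary card_fourGroup ⊥ X hodd ?_ ?_)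
  · rintro x (rfl | rfl | rfl | rfl)
    exacts [one_mem _, h12, h13, h23]
  · rintro a (rfl | rfl | rfl | rfl) ha
    · exact absurd rfl ha
    · exact kill _ _ h34 (by decide +kernel)
    · exact kill _ _ h24 (by decide +kernel)
    · exact kill _ _ h14 (by decide +kernel)

end Cfsg.Agent.TwoCore.Nine
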