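/-
The nine-point case (notes/two_core_structure.md, last paragraph).

* `line_cycle` : lifts of the three-cycles of one line fix the points off it
* `starPair_range` : the image of `K` on `K / H` has every even product of star transpositions
* `Loc.odd_eq_bot_of_nine` : the conclusion (II) on nine points
-/
import Cfsg.Agent.Lib.TwoCore.LineDefs
import Cfsg.Agent.Lib.TwoCore.NinePerm

set_option autoImplicit false
set_option linter.unusedSectionVars false
set_option linter.style.haveILetI false

namespace Cfsg.Agent.TwoCore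

open Subgroup Involution Equiv

universe u

variable {K : Type u} [Group K] [Finite K] {T : Sylow 2 K} {H : Subgroup K} {z v : K}

/-- The action on the cosets. -/
local notation "φ" => MulAction.toPermHom K (K ⧸ H)

theorem act_z (hN : H.normalCore = zpowers z) : φ z = 1 := by
  have h : z ∈ H.normalCore := by rw [hN]; exact mem_zpowers z
  rwa [normalCore_eq_ker, MonoidHom.mem_ker] at h

theorem eq_one_or_z_of_act (hz : orderOf z = 2) (hN : H.normalCore = zpowers z) {k : K}
    (hk : φ k = 1) : k = 1 ∨ k = z := by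
  classical
  have h : k ∈ H.normalCore := by rw [normalCore_eq_ker, MonoidHom.mem_ker]; exact hk
  rw [hN, mem_zpowers_iff_mem_range_orderOf, hz] at h
  simp only [Finset.mem_image, Finset.mem_range] at h
  obtain ⟨n, hn, rfl⟩ := h
  interval_cases n <;> simp

/-- The three-cycles of a line act as three-cycles of the nine points. -/
theorem line_cycle [Fintype (K ⧸ H)] [DecidableEq (K ⧸ H)] (hN : H.normalCore = zpowers z)
    {u w a b : K} (D : LineData H z u w a b) (h9 : Nat.card (K ⧸ H) = 9) {i i' : K ⧸ H}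
    (hi : u • i = i) (hi' : u • i' = i') (hio : i ≠ base H) (hi'o : i' ≠ base H) (hne : i ≠ i') :
    swap (base H) i' * swap (base H) i ∈ (φ).range := by
  obtain ⟨c, hodd, hcu, hc1, hc2, hc3, hrest⟩ :=
    D.three (base H) i i' (smul_base_eq_iff.2 D.u_mem) hi hi' hio.symm hne hi'o.symm
  have he : φ u * φ u = 1 := by rw [← map_mul, D.sq_u, act_z hN]
  have h4 : Nat.card {q : K ⧸ H // φ u q ≠ q} = 4 := by
    have h := D.card_fix
    rw [Nat.card_eq_fintype_card] at h h9 ⊢
    rw [Fintype.card_subtype_compl, h9]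
    have e : Fintype.card {q : K ⧸ H // φ u q = q} = 5 := h
    omega
  have hoff := Nine.fix_of_commute_fpf he h4 (Odd.of_dvd_nat hodd (orderOf_map_dvd φ c))
    (by rw [← map_mul, ← map_mul, hcu.eq])
  refine ⟨c, ?_⟩
  ext q
  show c • q = swap (base H) i' (swap (base H) i q)
  by_cases e1 : q = base H
  · subst e1; rw [hc1, swap_apply_left, swap_apply_of_ne_of_ne hio hne]
  by_cases e2 : q = i
  · subst e2; rw [hc2, swap_apply_right, swap_apply_left]
  by_cases e3 : q = i'
  · subst e3; rw [hc3, swap_apply_of_ne_of_ne hi'o hne.symm, swap_apply_right]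
  rw [swap_apply_of_ne_of_ne e1 e2, swap_apply_of_ne_of_ne e1 e3]
  by_cases hq : u • q = q
  · exact hrest q hq e1 e2 e3
  · exact hoff q hq

theorem exists_line_point [Fintype (K ⧸ H)] [DecidableEq (K ⧸ H)] {u : K}
    (h5 : Nat.card {q : K ⧸ H // u • q = q} = 5) (i : K ⧸ H) :
    ∃ i', u • i' = i' ∧ i' ≠ base H ∧ i' ≠ i := by
  rw [Nat.card_eq_fintype_card, Fintype.card_subtype] at h5
  have h : (((Finset.univ.filter fun q : K ⧸ H => u • q = q).erase (base H)).erase i).Nonempty := by
    rw [← Finset.card_pos]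
    have h1 := Finset.pred_card_le_card_erase (s := Finset.univ.filter fun q : K ⧸ H => u • q = q) (a := base H)
    have h2 := Finset.pred_card_le_card_erase
      (s := (Finset.univ.filter fun q : K ⧸ H => u • q = q).erase (base H)) (a := i)
    omega
  obtain ⟨i', hi'⟩ := h
  simp only [Finset.mem_erase, Finset.mem_filter, Finset.mem_univ, true_and] at hi'
  exact ⟨i', hi'.2.2, hi'.2.1, hi'.1⟩

/-- The image of `K` on the nine points contains every even product of star transpositions. -/
theorem starPair_range [Fintype (K ⧸ H)] [DecidableEq (K ⧸ H)] (hN : H.normalCore = zpowers z)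
    {u w a b w' a' b' : K} (D : LineData H z u w a b) (D' : LineData H z (u * a) w' a' b')
    (h9 : Nat.card (K ⧸ H) = 9) {x y : K ⧸ H} (hx : x ≠ base H) (hy : y ≠ base H) :
    swap (base H) x * swap (base H) y ∈ (φ).range := by
  have hdisj : ∀ q : K ⧸ H, q ≠ base H → u • q = q → (u * a) • q = q → False := by
    intro q hq hu hua
    rw [← D.au.eq, mul_smul, hu] at hua
    exact hq (D.a_fix q hu hua)
  have hcover : ∀ q : K ⧸ H, q ≠ base H → u • q = q ∨ (u * a) • q = q := by
    have h5 := D.card_fix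
    have h5' := D'.card_fix
    rw [Nat.card_eq_fintype_card] at h9
    rw [Nat.card_eq_fintype_card, Fintype.card_subtype] at h5 h5'
    have hub := smul_base_eq_iff.2 D.u_mem
    have huab := smul_base_eq_iff.2 D'.u_mem
    have hinter : (Finset.univ.filter fun q : K ⧸ H => u • q = q) ∩
        (Finset.univ.filter fun q : K ⧸ H => (u * a) • q = q) = {base H} := by
      ext q
      simp only [Finset.mem_inter, Finset.mem_filter, Finset.mem_univ, true_and, Finset.mem_singleton]
      exact ⟨fun h => by_contra fun hq => hdisj q hq h.1 h.2, by rintro rfl; exact ⟨hub, huab⟩⟩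
    have hc := Finset.card_union_add_card_inter (Finset.univ.filter fun q : K ⧸ H => u • q = q)
      (Finset.univ.filter fun q : K ⧸ H => (u * a) • q = q)
    rw [hinter, h5, h5', Finset.card_singleton] at hc
    have huniv := Finset.eq_univ_of_card _ (show ((Finset.univ.filter fun q : K ⧸ H => u • q = q) ∪
      (Finset.univ.filter fun q : K ⧸ H => (u * a) • q = q)).card = Fintype.card (K ⧸ H) by omega)
    intro q _
    have hq := Finset.mem_univ q
    rw [← huniv] at hq
    simpa using hq
  exact Nine.starPair_mem (A := fun q => u • q = q) (B := fun q => (u * a) • q = q) hcover hdisj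
    (fun i i' hi hi' hio hi'o hne => line_cycle hN D h9 hi hi' hio hi'o hne)
    (fun i i' hi hi' hio hi'o hne => line_cycle hN D' h9 hi hi' hio hi'o hne)
    (exists_line_point D.card_fix) (exists_line_point D'.card_fix) hx hy

namespace Loc

variable (L : Loc T H z v)
include L

/-- On nine points, an odd group normalised by the centraliser in `H` of a good element is trivial. -/
theorem odd_eq_bot_of_nine (hN : H.normalCore = zpowers z) {u w a b w' a' b' : K}
    (D : LineData H z u w a b) (D' : LineData H z (u * a) w' a' b') (h9 : Nat.card (K ⧸ H) = 9)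
    {d : K} (hd : Good H z d) {X : Subgroup K} (hXH : X ≤ H) (hodd : ¬ 2 ∣ Nat.card X)
    (hnorm : ∀ c ∈ H, Commute c d → ∀ x ∈ X, c * x * c⁻¹ ∈ X) : X = ⊥ := by
  classical
  letI : Fintype (K ⧸ H) := Fintype.ofFinite _
  have he : φ d * φ d = 1 := by rw [← map_mul, mul_self hd.1, map_one]
  have ho : ∀ q : K ⧸ H, φ d q = q ↔ q = base H := by
    refine fun q => ⟨fun hq => ?_, ?_⟩
    · obtain ⟨g, rfl⟩ := QuotientGroup.mk_surjective q
      by_contra hne
      refine L.not_fixesTwo hd.1 hd.2.1 ⟨hd.2.2, g, fun hg => hne ?_, ?_⟩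
      · rw [QuotientGroup.eq, mul_one]; exact H.inv_mem hg
      · have h : ((d * g : K) : K ⧸ H) = (g : K ⧸ H) := hq
        rw [QuotientGroup.eq] at h
        have := H.inv_mem h
        simpa [mul_assoc] using this
    · rintro rfl; exact smul_base_eq_iff.2 hd.2.2
  obtain ⟨f, hf0, hf⟩ := Nine.exists_label (by rw [← Nat.card_eq_fintype_card]; exact h9) he ho
  let ψ : K →* Perm (Fin 9) := f.symm.permCongrHom.toMonoidHom.comp φ
  have hψ : ∀ k i, ψ k i = f.symm (k • f i) := fun k i => rfl
  have hψd : ψ d = Nine.std := by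
    ext1 i
    rw [hψ, show d • f i = φ d (f i) from rfl, hf, symm_apply_apply]
  have hψH : ∀ k, k ∈ H ↔ ψ k 0 = 0 := fun k => by
    rw [hψ, hf0, symm_apply_eq, hf0, smul_base_eq_iff]
  have hdbl : ∀ i j k l : Fin 9, i ≠ 0 → j ≠ 0 → k ≠ 0 → l ≠ 0 → i ≠ j → k ≠ l →
      Nine.dbl i j k l ∈ ψ.range := by
    intro i j k l hi hj hk hl hij hkl
    have hne : ∀ {m : Fin 9}, m ≠ 0 → f m ≠ base H := fun hm h => hm (f.injective (h.trans hf0.symm))
    obtain ⟨g, hg⟩ := Nine.dbl_mem (R := (φ).range) (o := base H)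
      (fun hx hy => starPair_range hN D D' h9 hx hy) (hne hi) (hne hj) (hne hk) (hne hl)
      (f.injective.ne hij) (f.injective.ne hkl)
    refine ⟨g, ?_⟩
    show f.symm.permCongrHom.toMonoidHom (φ g) = _
    rw [hg]
    show f.symm.permCongr (swap (f i) (f j) * swap (f k) (f l)) = Nine.dbl i j k l
    ext1 x
    simp only [Nine.dbl, Equiv.permCongr_apply, Perm.mul_apply, symm_symm, f.injective.swap_apply,
      symm_apply_apply]
  -- double transpositions of two pairs of `d` are induced by its centraliser in `H`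
  have hnmz : ∀ i j k l m n : Fin 9, (i ≠ 0 ∧ j ≠ 0 ∧ k ≠ 0 ∧ l ≠ 0 ∧ m ≠ 0 ∧ n ≠ 0 ∧ i ≠ j ∧ k ≠ l ∧
      m ≠ n ∧ i ≠ k ∧ i ≠ l ∧ Nine.root i j k l m n * Nine.std = Nine.std * Nine.root i j k l m n ∧
      Nine.root i j k l m n * Nine.root i j k l m n = Nine.dbl i j k l ∧
      Nine.root i j k l m n 0 = 0) →
      Nine.dbl i j k l ∈ normalizer ((X.map ψ : Subgroup (Perm (Fin 9))) : Set (Perm (Fin 9))) := by
    rintro i j k l m n ⟨hi, hj, hk, hl, hm, hn, hij, hkl, hmn, hik, hil, hcomm, hsq, h0⟩
    obtain ⟨g, hg⟩ : Nine.root i j k l m n ∈ ψ.range :=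
      mul_mem (hdbl m n i l hm hn hi hl hmn hil) (hdbl i j i k hi hj hi hk hij hik)
    have hgH : g ∈ H := (hψH g).2 (by rw [hg]; exact h0)
    have hg1 : ψ (g * d * g⁻¹ * d⁻¹) = 1 := by
      rw [map_mul, map_mul, map_mul, map_inv, map_inv, hg, hψd, hcomm]; group
    have hgd : g * d * g⁻¹ * d⁻¹ = 1 ∨ g * d * g⁻¹ * d⁻¹ = z :=
      eq_one_or_z_of_act L.z2 hN (f.symm.permCongrHom.injective (hg1.trans (map_one _).symm))
    have hgg : Commute (g * g) d := by
      rcases hgd with h | h
      · have hc : Commute g d := mul_inv_eq_iff_eq_mul.1 (mul_inv_eq_one.1 h)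
        exact hc.mul_left hc
      · have h' : g * d * g⁻¹ = z * d := mul_inv_eq_iff_eq_mul.1 h
        have e : g * g * d * (g * g)⁻¹ = d := by
          calc g * g * d * (g * g)⁻¹ = g * (g * d * g⁻¹) * g⁻¹ := by group
            _ = g * z * d * g⁻¹ := by rw [h', ← mul_assoc]
            _ = z * (g * d * g⁻¹) := by rw [← (L.z_comm g).eq]; group
            _ = d := by rw [h', ← mul_assoc, mul_self L.z2, one_mul]
        exact mul_inv_eq_iff_eq_mul.1 e
    have hfwd : ∀ c ∈ H, Commute c d → ∀ π ∈ X.map ψ, ψ c * π * (ψ c)⁻¹ ∈ X.map ψ := by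
      rintro c hc hcd _ ⟨x, hx, rfl⟩
      exact ⟨c * x * c⁻¹, hnorm c hc hcd x hx, by rw [map_mul, map_mul, map_inv]⟩
    rw [← hsq, ← hg, ← map_mul, mem_normalizer_iff]
    refine fun π => ⟨hfwd _ (H.mul_mem hgH hgH) hgg π, fun hπ => ?_⟩
    have := hfwd _ (H.inv_mem (H.mul_mem hgH hgH)) hgg.inv_left _ hπ
    rwa [map_inv, inv_inv, show (ψ (g * g))⁻¹ * (ψ (g * g) * π * (ψ (g * g))⁻¹) * ψ (g * g) = π by
      group] at this
  have hXbot : X.map ψ = ⊥ := by
    refine Nine.bot_of_double (fun h => hodd (h.trans (card_map_dvd X ψ))) ?_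
      (hnmz 1 2 3 4 5 6 (by decide +kernel)) (hnmz 1 2 5 6 3 4 (by decide +kernel))
      (hnmz 3 4 5 6 1 2 (by decide +kernel)) (hnmz 5 6 7 8 1 2 (by decide +kernel))
      (hnmz 3 4 7 8 1 2 (by decide +kernel)) (hnmz 1 2 7 8 3 4 (by decide +kernel))
    rintro _ ⟨x, hx, rfl⟩
    exact (hψH x).1 (hXH hx)
  refine (eq_bot_iff_forall _).2 fun x hx => ?_
  have h1 : ψ x = 1 := by
    rw [← mem_bot, ← hXbot]
    exact mem_map_of_mem ψ hx
  rcases eq_one_or_z_of_act L.z2 hN
    (f.symm.permCongrHom.injective (h1.trans (map_one _).symm)) with h | h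
  · exact h
  · refine absurd ?_ hodd
    have := X.orderOf_dvd_natCard hx
    rwa [h, L.z2] at this

end Loc

end Cfsg.Agent.TwoCore
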