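/-
The local theorem of part II (notes/two_core_structure.md).

* `locGoal` : an odd subgroup of `H` normalised by the centraliser of a good involution is trivial
-/
import Cfsg.Agent.Lib.TwoCore.Flat
import Cfsg.Agent.Lib.TwoCore.Line
import Cfsg.Agent.Lib.TwoCore.Nine
import Cfsg.Agent.Lib.TwoCore.Cover
import Cfsg.Agent.Lib.TwoCore.Group

set_option autoImplicit false
set_option linter.unusedSectionVars false
set_option linter.style.haveILetI false

namespace Cfsg.Agent.TwoCore

open Subgroup Involution

universe u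

/-- The local theorem. -/
theorem locGoal : LocGoal.{u} := by
  intro K _ _ T H z v L d hd X hXH hodd hnorm
  rcases L.flat_or_failure with hflat | ⟨⟨v'', hv''T, hv''2, hsq, hfix, -⟩, hN⟩
  · exact L.odd_eq_bot_of_flat hflat hd hXH hodd hnorm
  · have huT : v * v'' ∈ T := T.mul_mem L.vT hv''T
    have hinv : v * (v * v'') * v⁻¹ = (v * v'')⁻¹ := by
      rw [mul_inv_rev, ← mul_assoc v v v'', mul_self L.v2, one_mul, inv_eq hv''2]
    have hu := L.lineHyp_of_v huT hsq hinv hfix
    obtain ⟨w, a, b, D⟩ := L.exists_lineData hN hu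
    obtain ⟨h9, hu'⟩ := L.cover hN D (fun x hx => L.card_line_eq_five hN hx)
    obtain ⟨w', a', b', D'⟩ := L.exists_lineData hN hu'
    exact L.odd_eq_bot_of_nine hN D D' h9 hd hXH hodd hnorm

end Cfsg.Agent.TwoCore
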