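import Cfsg.Agent.Lib.TwoCore.Flat
import Cfsg.Agent.Lib.TwoCore.Line
import Cfsg.Agent.Lib.PGroup.Basic
import Cfsg.Agent.S0111

/-!
# The local configuration with an isolated involution (owner: helper90; notes/core_killing_weak_e8.md (D))

* `WeakFacts T z v` : the facts on `T` of part (C)
* `LocB.false_of_facts` : they contradict a configuration `LocB`
-/

set_option autoImplicit false
set_option linter.unusedSectionVars false
set_option linter.style.haveILetI false

namespace Cfsg.Agent.TwoCore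

open Subgroup Involution MulAction

universe u

variable {K : Type u} [Group K]

/-- The facts of part (C). -/
structure WeakFacts (T : Subgroup K) (z v : K) : Prop where
  comm_v : ∃ a ∈ T, ∃ b ∈ T, orderOf a = 2 ∧ orderOf b = 2 ∧ a * b * a⁻¹ * b⁻¹ = v
  inverter : ∀ x ∈ T, Commute x v → x * x = z →
    ∃ t ∈ T, orderOf t = 2 ∧ t ≠ z ∧ Commute t v ∧ t * x * t⁻¹ = x⁻¹
  no_pair : ∀ x ∈ T, ∀ a ∈ T, ∀ b ∈ T, ∀ c ∈ T, ∀ c' ∈ T, x * x = z →
    orderOf a = 2 → orderOf b = 2 → orderOf c = 2 → orderOf c' = 2 →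
    a * b * a⁻¹ * b⁻¹ = z → Commute x a → Commute x b → Commute c a → Commute c' b →
    ¬ Commute c x → ¬ Commute c' x → False

theorem conj_commute {x y h : K} (hc : Commute x y) : Commute (h * x * h⁻¹) (h * y * h⁻¹) :=
  hc.map (MulAut.conj h).toMonoidHom

theorem not_conj_commute {x y h : K} (hc : ¬ Commute x y) :
    ¬ Commute (h * x * h⁻¹) (h * y * h⁻¹) := fun e => hc (by
  have := conj_commute (h := h⁻¹) e
  simpa [mul_assoc] using this)

variable [Finite K] {T : Sylow 2 K} {H : Subgroup K} {z v : K}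

namespace LocB

variable (L : LocB T H z v)
include L

/-- An element of the failure case centralising `v`, by transfer in `K / ⟨z⟩`. -/
theorem exists_root_of_failure {v'' c : K} (hv''T : v'' ∈ T) (hv''2 : orderOf v'' = 2)
    (hsq : v * v'' * (v * v'') = z) (hfix : FixesTwo H (v * v'')) (hc : c * v * c⁻¹ = v'') :
    ∃ x ∈ T, Commute x v ∧ x * x = z ∧ FixesTwo H x := by
  haveI : Fact (Nat.Prime 2) := ⟨Nat.prime_two⟩
  haveI : (zpowers z).Normal := PGroup.zpowers_normal_of_mem_center L.zc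
  set u := v * v'' with hu
  have huT : u ∈ T := T.mul_mem L.vT hv''T
  have huv : ¬ Commute u v := fun h => by
    have h1 : Commute v v'' := by
      have := h.symm
      rw [hu] at this
      have h2 := (Commute.refl v).inv_right.mul_right this
      rwa [inv_mul_cancel_left] at h2
    rw [hu, h1.symm.mul_mul_mul_comm, mul_self L.v2, mul_self hv''2, one_mul] at hsq
    exact ne_one L.z2 hsq.symm
  set π := QuotientGroup.mk' (zpowers z) with hπ
  have hzv : Commute z v := L.z_comm v
  set R : Subgroup K := (T : Subgroup K) ⊓ centralizer ({v} : Set K) with hR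
  have hzR : z ∈ R := ⟨L.z_mem_T, mem_centralizer_singleton_iff.2 hzv.eq⟩
  have hker : ∀ {p : K}, π p ∈ R.map π → p ∈ R := by
    rintro p ⟨r, hr, e⟩
    have h1 : r⁻¹ * p ∈ zpowers z := QuotientGroup.eq.1 e
    have := R.mul_mem hr ((zpowers_le.2 hzR) h1)
    rwa [mul_inv_cancel_left] at this
  set Tb := T.mapSurjective (QuotientGroup.mk'_surjective (zpowers z)) with hTb
  have hTb' : (Tb : Subgroup (K ⧸ zpowers z)) = (T : Subgroup K).map π := rfl
  have huR : π u ∉ R.map π := fun h => huv (mem_centralizer_singleton_iff.1 (hker h).2)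
  have hub : orderOf (π u) = 2 := by
    refine orderOf_of_sq ?_ fun e => huR (e ▸ one_mem _)
    rw [← map_mul, hsq]
    exact (QuotientGroup.eq_one_iff z).2 (mem_zpowers z)
  have hidx : (R.map π).relIndex (Tb : Subgroup (K ⧸ zpowers z)) = 2 := by
    rw [hTb', relIndex_eq_two_iff]
    refine ⟨π u, mem_map_of_mem π huT, ?_⟩
    rintro _ ⟨s, hs, rfl⟩
    rw [← map_mul]
    have hmove : ∀ {p : K}, p ∈ T → p ∉ R → p * v * p⁻¹ = z * v := fun {p} hp hpR =>
      mul_inv_eq_iff_eq_mul.1 ((L.mark p hp).resolve_left fun h => hpR ⟨hp,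
        mem_centralizer_singleton_iff.2 (mul_inv_eq_iff_eq_mul.1 (mul_inv_eq_one.1 h))⟩)
    have hu' : u ∉ R := fun h => huv (mem_centralizer_singleton_iff.1 h.2)
    by_cases hsR : s ∈ R
    · refine Or.inr ⟨mem_map_of_mem π hsR, fun h => hu' ?_⟩
      have := R.mul_mem (R.inv_mem hsR) (hker h)
      rwa [inv_mul_cancel_left] at this
    · refine Or.inl ⟨mem_map_of_mem π ⟨T.mul_mem hs huT, mem_centralizer_singleton_iff.2 ?_⟩,
        fun h => hsR (hker h)⟩
      refine mul_inv_eq_iff_eq_mul.1 ?_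
      rw [show s * u * v * (s * u)⁻¹ = s * (u * v * u⁻¹) * s⁻¹ by group, hmove huT hu',
        show s * (z * v) * s⁻¹ = (s * z * s⁻¹) * (s * v * s⁻¹) by group, hmove hs hsR,
        (L.z_comm s).symm.eq, mul_inv_cancel_right, ← mul_assoc, mul_self L.z2, one_mul]
  rcases S0111.result Tb (R.map π) (by rw [hTb']; exact Subgroup.map_mono inf_le_left) hidx (π u)
    hub (mem_map_of_mem π huT) huR with ⟨M, hMn, hM2, huM⟩ | ⟨g, hg⟩
  · exfalso
    refine huM ?_
    rw [hu, map_mul, mul_mem_iff_of_index_two hM2, ← hc, map_mul, map_mul, map_inv]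
    refine ⟨fun h => hMn.conj_mem _ h _, fun h => ?_⟩
    have := hMn.conj_mem _ h (π c)⁻¹
    rwa [inv_inv, show (π c)⁻¹ * (π c * π v * (π c)⁻¹) * π c = π v by group] at this
  · obtain ⟨g, rfl⟩ := QuotientGroup.mk'_surjective _ g
    rw [← map_inv, ← map_mul, ← map_mul] at hg
    have hx := hker hg
    refine ⟨g * u * g⁻¹, hx.1, mem_centralizer_singleton_iff.1 hx.2, ?_, ?_⟩
    · rw [show g * u * g⁻¹ * (g * u * g⁻¹) = g * (u * u) * g⁻¹ by group, hsq,
        (L.z_comm g).symm.eq, mul_inv_cancel_right]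
    · obtain ⟨huH, g₀, hg₀, hg₀u⟩ := hfix
      have h1 : (g * u * g⁻¹) • (g • base H) = g • base H := by
        rw [← mul_smul, inv_mul_cancel_right, mul_smul, smul_base_eq_iff.2 huH]
      have h2 : (g * u * g⁻¹) • ((g * g₀) • base H) = (g * g₀) • base H := by
        rw [← mul_smul, show g * u * g⁻¹ * (g * g₀) = g * g₀ * (g₀⁻¹ * u * g₀) by group, mul_smul,
          smul_base_eq_iff.2 hg₀u]
      have hne : g • base H ≠ base H ∨ (g * g₀) • base H ≠ base H := by
        by_contra hcon
        push Not at hcon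
        refine hg₀ ?_
        have := H.mul_mem (H.inv_mem (smul_base_eq_iff.1 hcon.1)) (smul_base_eq_iff.1 hcon.2)
        rwa [inv_mul_cancel_left] at this
      have hmk : ∀ {x : K} {q : K ⧸ H}, x ∈ H → q ≠ base H → x • q = q → FixesTwo H x := by
        intro x q hx hq h
        induction q using QuotientGroup.induction_on with | _ k =>
        refine ⟨hx, k, fun hk => hq ?_, ?_⟩
        · rw [QuotientGroup.eq, mul_one]
          exact H.inv_mem hk
        · rw [Quotient.smul_mk, smul_eq_mul, QuotientGroup.eq] at h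
          have := H.inv_mem h
          rwa [mul_inv_rev, inv_inv, ← mul_assoc] at this
      rcases hne with h | h
      · exact hmk (L.le hx.1) h h1
      · exact hmk (L.le hx.1) h h2

/-- **An isolated involution is impossible.** -/
theorem false_of_facts (F : WeakFacts (T : Subgroup K) z v) : False := by
  haveI : Fact (Nat.Prime 2) := ⟨Nat.prime_two⟩
  rcases L.flat_or_failure with hflat | ⟨⟨v'', hv''T, hv''2, hsq, hfix, c, hc⟩, hN⟩
  · obtain ⟨a, ha, b, hb, ha2, hb2, hab⟩ := F.comm_v
    exact L.vz (L.eq_z_of_mem_core L.v2 (hab ▸ L.flat_kernelComm hflat T L.le a ha b hb ha2 hb2))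
  obtain ⟨x, hxT, hxv, hxx, hxfix⟩ := L.exists_root_of_failure hv''T hv''2 hsq hfix hc
  obtain ⟨t, htT, ht2, htz, htv, htx⟩ := F.inverter x hxT hxv hxx
  obtain ⟨w, a, b, D⟩ := L.exists_lineData hN
    (u := x) ⟨L.le hxT, hxx, hxfix, t, v, ⟨ht2, htz, L.le htT⟩, ⟨L.v2, L.vz, L.v_mem_H⟩, htx,
      hxv.symm, htv.symm⟩
  have hzz : z * z = 1 := mul_self L.z2
  have hzc : ∀ g, Commute z g := L.z_comm
  haveI : (zpowers z).Normal := PGroup.zpowers_normal_of_mem_center L.zc
  set π := QuotientGroup.mk' (zpowers z) with hπ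
  have hπz : π z = 1 := (QuotientGroup.eq_one_iff z).2 (mem_zpowers z)
  have hxinv : x⁻¹ = z * x :=
    inv_eq_of_mul_eq_one_right (by rw [← mul_assoc, ← (hzc x).eq, mul_assoc, hxx, hzz])
  have hcq : ∀ {p q : K}, p * q * p⁻¹ * q⁻¹ = z → Commute (π p) (π q) := fun {p q} h => by
    have := congrArg π h
    rw [hπz, map_mul, map_mul, map_mul, map_inv, map_inv, mul_inv_eq_one,
      mul_inv_eq_iff_eq_mul] at this
    exact this
  have hwx : w * x * w⁻¹ * x⁻¹ = z := by rw [D.wu, ← mul_inv_rev, hxx, inv_eq L.z2]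
  -- a 2-group
  set P : Subgroup K := Subgroup.closure {x, a, b, w} with hP
  have hP2 : IsPGroup 2 P := by
    set s : Set (K ⧸ zpowers z) := {π x, π a, π b, π w} with hs
    have hcomm : ∀ p ∈ s, ∀ q ∈ s, Commute p q := by
      have h1 : Commute (π x) (π a) := D.au.symm.map π
      have h2 : Commute (π x) (π b) := D.bu.symm.map π
      have h3 := hcq hwx
      have h4 := hcq D.ab
      have h5 := hcq D.wa
      have h6 := hcq D.wb
      rintro p (rfl | rfl | rfl | rfl) q (rfl | rfl | rfl | rfl)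
      all_goals first
        | exact Commute.refl _ | exact h1 | exact h1.symm | exact h2 | exact h2.symm
        | exact h3 | exact h3.symm | exact h4 | exact h4.symm | exact h5 | exact h5.symm
        | exact h6 | exact h6.symm
    have hA : Subgroup.closure s ≤ centralizer s := (closure_le _).2 fun p hp =>
      mem_centralizer_iff.2 fun q hq => (hcomm q hq p hp).eq
    have hall : ∀ p ∈ Subgroup.closure s, ∀ q ∈ Subgroup.closure s, Commute p q := by
      intro p hp q hq
      have h : Subgroup.closure s ≤ centralizer ({p} : Set (K ⧸ zpowers z)) :=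
        (closure_le _).2 fun r hr => mem_centralizer_singleton_iff.2
          (mem_centralizer_iff.1 (hA hp) r hr)
      exact (mem_centralizer_singleton_iff.1 (h hq)).symm
    have hsq1 : ∀ p ∈ Subgroup.closure s, p * p = 1 := by
      intro p hp
      induction hp using closure_induction with
      | mem p hp =>
        rcases hp with rfl | rfl | rfl | rfl
        · rw [← map_mul, hxx, hπz]
        · rw [← map_mul, mul_self D.good_a.1, map_one]
        · rw [← map_mul, mul_self D.good_b.1, map_one]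
        · rw [← map_mul, D.sq_w, hπz]
      | one => rw [one_mul]
      | mul p q hp hq ihp ihq => rw [(hall q hq p hp).mul_mul_mul_comm, ihp, ihq, one_mul]
      | inv p hp ih => rw [← mul_inv_rev, ih, inv_one]
    rintro ⟨p, hp⟩
    refine ⟨2, Subtype.ext ?_⟩
    have hmem : π p ∈ Subgroup.closure s := by
      have := mem_map_of_mem π hp
      rwa [hP, MonoidHom.map_closure, Set.image_insert_eq, Set.image_insert_eq, Set.image_pair]
        at this
    have h1 : p * p ∈ zpowers z :=
      (QuotientGroup.eq_one_iff _).1 (show π (p * p) = 1 by rw [map_mul]; exact hsq1 _ hmem)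
    obtain ⟨i, hi⟩ := mem_zpowers_iff.1 h1
    rw [SubmonoidClass.coe_pow, show (2 : ℕ) ^ 2 = 2 + 2 from rfl, pow_add, sq, ← hi,
      ← zpow_add, ← two_mul, zpow_mul, show z ^ (2 : ℤ) = 1 by rw [zpow_two, hzz], one_zpow]
    rfl
  have hxP : x ∈ P := subset_closure (by simp)
  have haP : a ∈ P := subset_closure (by simp)
  have hbP : b ∈ P := subset_closure (by simp)
  have hwP : w ∈ P := subset_closure (by simp)
  obtain ⟨h, -, hhT⟩ := L.exists_conj_T hP2 ((closure_le _).2 (by
    rintro p (rfl | rfl | rfl | rfl)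
    · exact D.u_mem
    · exact D.good_a.2.2
    · exact D.good_b.2.2
    · exact D.w_mem))
  -- the products
  have hflip : ∀ {p q : K}, p * q * p⁻¹ * q⁻¹ = z → q * p * q⁻¹ * p⁻¹ = z := fun {p q} h => by
    rw [← inv_eq L.z2, ← h]; group
  have hprod : ∀ {p q : K}, orderOf p = 2 → Commute p x → q * p * q⁻¹ * p⁻¹ = z → q * q = z →
      ¬ Commute q x → (p * q) * (p * q) = 1 ∧ ¬ Commute (p * q) x ∧ orderOf (p * q) = 2 := by
    intro p q hp hpx hqp hqq hqx
    have h1 : p * q * (p * q) = 1 := by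
      have e : q * p = z * p * q := by
        rw [← hqp]; group
      calc p * q * (p * q) = p * (q * p) * q := by group
        _ = p * z * p * (q * q) := by rw [e]; group
        _ = 1 := by rw [hqq, (hzc p).symm.eq, mul_assoc z p p, mul_self hp, mul_one, hzz]
    have h2 : ¬ Commute (p * q) x := fun e => hqx (by
      have := hpx.inv_left.mul_left e
      rwa [inv_mul_cancel_left] at this)
    exact ⟨h1, h2, orderOf_of_sq h1 fun e => h2 (e ▸ Commute.one_left x)⟩
  have hwnx : ¬ Commute w x := fun e => by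
    rw [e.eq, mul_inv_cancel_right, mul_inv_cancel] at hwx
    exact ne_one L.z2 hwx.symm
  obtain ⟨-, hcx, hc2⟩ := hprod D.good_b.1 D.bu D.wb D.sq_w hwnx
  obtain ⟨-, hc'x, hc'2⟩ := hprod D.good_a.1 D.au D.wa D.sq_w hwnx
  have hca : ∀ {p q : K}, q * p * q⁻¹ * p⁻¹ = z → w * p * w⁻¹ * p⁻¹ = z → Commute (q * w) p := by
    intro p q hqp hwp
    refine mul_inv_eq_iff_eq_mul.1 ?_
    rw [show q * w * p * (q * w)⁻¹ = q * (w * p * w⁻¹) * q⁻¹ by group,
      mul_inv_eq_iff_eq_mul.1 hwp, show q * (z * p) * q⁻¹ = (q * z * q⁻¹) * (q * p * q⁻¹) by group,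
      (hzc q).symm.eq, mul_inv_cancel_right, mul_inv_eq_iff_eq_mul.1 hqp, ← mul_assoc, hzz,
      one_mul]
  refine F.no_pair _ (hhT x hxP) _ (hhT a haP) _ (hhT b hbP) _ (hhT _ (P.mul_mem hbP hwP)) _
    (hhT _ (P.mul_mem haP hwP)) ?_ ?_ ?_ ?_ ?_ ?_ (conj_commute D.au.symm) (conj_commute D.bu.symm)
    (conj_commute (hca (hflip D.ab) D.wa)) (conj_commute (hca D.ab D.wb))
    (not_conj_commute hcx) (not_conj_commute hc'x)
  · rw [show h * x * h⁻¹ * (h * x * h⁻¹) = h * (x * x) * h⁻¹ by group, hxx,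
      (hzc h).symm.eq, mul_inv_cancel_right]
  · rw [orderOf_conj]; exact D.good_a.1
  · rw [orderOf_conj]; exact D.good_b.1
  · rw [orderOf_conj]; exact hc2
  · rw [orderOf_conj]; exact hc'2
  · rw [show h * a * h⁻¹ * (h * b * h⁻¹) * (h * a * h⁻¹)⁻¹ * (h * b * h⁻¹)⁻¹ =
      h * (a * b * a⁻¹ * b⁻¹) * h⁻¹ by group, D.ab, (hzc h).symm.eq, mul_inv_cancel_right]

end LocB

end Cfsg.Agent.TwoCore
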